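import Mathlib
import Cfsg.Prelude.Def_Sporadic_a

set_option autoImplicit false

namespace Cfsg.Agent.Helper1.Golay

open Cfsg

/-! ### Bit patterns for words of length 24 -/

/-- Position of a point as a bit index. -/
def pos : GolayPt → ℕ
  | none => 23
  | some x => x.val

theorem pos_lt : ∀ p : GolayPt, pos p < 24 := by decide

theorem pos_injective : Function.Injective pos := by
  have h : ∀ p q : GolayPt, pos p = pos q → p = q := by decide +kernel
  exact fun p q hpq => h p q hpq

theorem pos_surj : ∀ i < 24, ∃ p : GolayPt, pos p = i := by decide +kernel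

/-- Decode a bit pattern into a binary word. -/
def ofBits (n : ℕ) : GolayPt → ZMod 2 := fun p => if n.testBit (pos p) then 1 else 0

theorem ofBits_zero : ofBits 0 = 0 := by
  funext p
  simp [ofBits]

theorem ofBits_xor (m n : ℕ) : ofBits (m ^^^ n) = ofBits m + ofBits n := by
  funext p
  simp only [ofBits, Nat.testBit_xor, Pi.add_apply]
  cases m.testBit (pos p) <;> cases n.testBit (pos p) <;> decide

theorem ofBits_and (m n : ℕ) : ofBits (m &&& n) = ofBits m * ofBits n := by
  funext p
  simp only [ofBits, Nat.testBit_and, Pi.mul_apply]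
  cases m.testBit (pos p) <;> cases n.testBit (pos p) <;> decide

/-- The `i`-th bit of `n`, as a natural number. -/
def bitAt (n i : ℕ) : ℕ := (n >>> i) &&& 1

theorem bitAt_eq (n i : ℕ) : bitAt n i = if n.testBit i then 1 else 0 := by
  rw [bitAt, Nat.and_one_is_mod, Nat.shiftRight_eq_div_pow, Nat.testBit_eq_decide_div_mod_eq]
  rcases Nat.mod_two_eq_zero_or_one (n / 2 ^ i) with h | h <;> simp [h]

/-- The number of one-bits among the lowest 24 bits. -/
def popc (n : ℕ) : ℕ :=
  bitAt n 0 + bitAt n 1 + bitAt n 2 + bitAt n 3 + bitAt n 4 + bitAt n 5 + bitAt n 6 + bitAt n 7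
    + bitAt n 8 + bitAt n 9 + bitAt n 10 + bitAt n 11 + bitAt n 12 + bitAt n 13 + bitAt n 14
    + bitAt n 15 + bitAt n 16 + bitAt n 17 + bitAt n 18 + bitAt n 19 + bitAt n 20 + bitAt n 21
    + bitAt n 22 + bitAt n 23

theorem popc_eq_card (n : ℕ) :
    popc n = ((Finset.range 24).filter (fun i => n.testBit i)).card := by
  rw [Finset.card_filter]
  simp only [Finset.sum_range_succ, Finset.sum_range_zero, popc, bitAt_eq, zero_add]

theorem popc_le (n : ℕ) : popc n ≤ 24 := by
  rw [popc_eq_card]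
  calc _ ≤ (Finset.range 24).card := Finset.card_filter_le _ _
    _ = 24 := Finset.card_range 24

theorem hammingNorm_ofBits (n : ℕ) : hammingNorm (ofBits n) = popc n := by
  rw [popc_eq_card, hammingNorm]
  refine Finset.card_bij (fun p _ => pos p) ?_ ?_ ?_
  · intro p hp
    rw [Finset.mem_filter] at hp ⊢
    refine ⟨Finset.mem_range.mpr (pos_lt p), ?_⟩
    by_contra h
    exact hp.2 (by simp [ofBits, h])
  · intro p _ q _ h
    exact pos_injective h
  · intro i hi
    rw [Finset.mem_filter, Finset.mem_range] at hi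
    obtain ⟨p, rfl⟩ := pos_surj i hi.1
    exact ⟨p, by simp [ofBits, hi.2], rfl⟩

/-! ### The words of the code as bit patterns -/

/-- Bit patterns of the words `qrWord t`. -/
def qbitsL : List ℕ := [340831, 681662, 1363324, 2726648, 5453296, 2517985, 5035970, 1683333,
  3366666, 6733332, 5078057, 1767507, 3535014, 7070028, 5751449, 3114291, 6228582, 4068557,
  8137114, 7885621, 7382635, 6376663, 4364719]

/-- Bit pattern of the word `qrWord t`. -/
def qbits (t : ℕ) : ℕ := qbitsL.getD t 0

/-- The combination of the 12 basis patterns selected by the bits of `c`. -/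
def comb (c : ℕ) : ℕ :=
  bitAt c 0 * 340831 ^^^ bitAt c 1 * 681662 ^^^ bitAt c 2 * 1363324 ^^^ bitAt c 3 * 2726648
    ^^^ bitAt c 4 * 5453296 ^^^ bitAt c 5 * 2517985 ^^^ bitAt c 6 * 5035970
    ^^^ bitAt c 7 * 1683333 ^^^ bitAt c 8 * 3366666 ^^^ bitAt c 9 * 6733332
    ^^^ bitAt c 10 * 5078057 ^^^ bitAt c 11 * 16777215

/-- Coefficients of `qrWord t` in the basis. -/
def ctabL : List ℕ := [1, 2, 4, 8, 16, 32, 64, 128, 256, 512, 1024, 739, 1478, 367, 734, 1468,
  411, 822, 1644, 1595, 1685, 1993, 1393]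

/-- Coefficients of `qrWord t` in the basis. -/
def ctab (t : ℕ) : ℕ := ctabL.getD t 0

theorem sel_xor (c c' i b : ℕ) :
    bitAt (c ^^^ c') i * b = bitAt c i * b ^^^ bitAt c' i * b := by
  rw [bitAt_eq, bitAt_eq, bitAt_eq, Nat.testBit_xor]
  cases c.testBit i <;> cases c'.testBit i <;> simp

theorem comb_xor (c c' : ℕ) : comb (c ^^^ c') = comb c ^^^ comb c' := by
  simp only [comb, sel_xor]
  ac_rfl

theorem qrWord_eq_ofBits :
    ∀ (t : ZMod 23) (p : GolayPt), qrWord t p = ofBits (qbits t.val) p := by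
  decide +kernel

theorem one_eq_ofBits : (1 : GolayPt → ZMod 2) = ofBits 16777215 := by
  have h : ∀ p : GolayPt, (1 : GolayPt → ZMod 2) p = ofBits 16777215 p := by decide +kernel
  exact funext h

theorem ofBits_qbits_mem (t : ZMod 23) : ofBits (qbits t.val) ∈ golayCode := by
  have h : qrWord t = ofBits (qbits t.val) := funext (qrWord_eq_ofBits t)
  rw [← h]
  exact Submodule.subset_span (Or.inl ⟨t, rfl⟩)

theorem ofBits_allOnes_mem : ofBits 16777215 ∈ golayCode := by
  rw [← one_eq_ofBits]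
  exact Submodule.subset_span (Or.inr rfl)

theorem ofBits_sel_mem {b : ℕ} (hb : ofBits b ∈ golayCode) (c i : ℕ) :
    ofBits (bitAt c i * b) ∈ golayCode := by
  rw [bitAt_eq]
  split_ifs
  · rwa [one_mul]
  · rw [zero_mul, ofBits_zero]
    exact Submodule.zero_mem _

theorem ofBits_comb_mem (c : ℕ) : ofBits (comb c) ∈ golayCode := by
  simp only [comb, ofBits_xor]
  repeat' apply Submodule.add_mem
  · exact ofBits_sel_mem (ofBits_qbits_mem 0) c 0
  · exact ofBits_sel_mem (ofBits_qbits_mem 1) c 1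
  · exact ofBits_sel_mem (ofBits_qbits_mem 2) c 2
  · exact ofBits_sel_mem (ofBits_qbits_mem 3) c 3
  · exact ofBits_sel_mem (ofBits_qbits_mem 4) c 4
  · exact ofBits_sel_mem (ofBits_qbits_mem 5) c 5
  · exact ofBits_sel_mem (ofBits_qbits_mem 6) c 6
  · exact ofBits_sel_mem (ofBits_qbits_mem 7) c 7
  · exact ofBits_sel_mem (ofBits_qbits_mem 8) c 8
  · exact ofBits_sel_mem (ofBits_qbits_mem 9) c 9
  · exact ofBits_sel_mem (ofBits_qbits_mem 10) c 10
  · exact ofBits_sel_mem ofBits_allOnes_mem c 11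

theorem comb_ctab : ∀ t : Fin 23, comb (ctab t.val) = qbits t.val ∧ ctab t.val < 4096 := by
  decide +kernel

theorem comb_2048 : comb 2048 = 16777215 := by decide +kernel

theorem comb_zero : comb 0 = 0 := by decide +kernel

theorem exists_of_mem {w : GolayPt → ZMod 2} (hw : w ∈ golayCode) :
    ∃ c < 4096, w = ofBits (comb c) := by
  refine Submodule.span_induction ?_ ?_ ?_ ?_ hw
  · rintro x (⟨t, rfl⟩ | hx)
    · obtain ⟨h1, h2⟩ := comb_ctab ⟨t.val, ZMod.val_lt t⟩
      refine ⟨ctab t.val, h2, ?_⟩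
      rw [h1]
      exact funext (qrWord_eq_ofBits t)
    · refine ⟨2048, by norm_num, ?_⟩
      rw [comb_2048, Set.mem_singleton_iff.mp hx]
      exact one_eq_ofBits
  · exact ⟨0, by norm_num, by rw [comb_zero, ofBits_zero]⟩
  · rintro x y _ _ ⟨c, hc, rfl⟩ ⟨c', hc', rfl⟩
    exact ⟨c ^^^ c', Nat.xor_lt_two_pow (n := 12) hc hc', by rw [comb_xor, ofBits_xor]⟩
  · rintro a x _ ⟨c, hc, rfl⟩
    rcases (by decide : ∀ a : ZMod 2, a = 0 ∨ a = 1) a with rfl | rfl
    · exact ⟨0, by norm_num, by rw [comb_zero, ofBits_zero, zero_smul]⟩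
    · exact ⟨c, hc, by rw [one_smul]⟩

theorem mem_golayCode_iff (w : GolayPt → ZMod 2) :
    w ∈ golayCode ↔ ∃ c < 4096, w = ofBits (comb c) := by
  constructor
  · exact exists_of_mem
  · rintro ⟨c, -, rfl⟩
    exact ofBits_comb_mem c

/-! ### Kernel-checked enumeration of the 4096 words -/

theorem weights_check :
    (List.range 4096).all (fun c => Nat.beq ((16847105 >>> popc (comb c)) &&& 1) 1) = true := by
  decide +kernel

theorem zero_check :
    (List.range 4096).all (fun c => Nat.ble 1 (popc (comb c)) || Nat.beq c 0) = true := by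
  decide +kernel

theorem count8 : ((Finset.range 4096).filter (fun c => popc (comb c) = 8)).card = 759 := by
  decide +kernel

theorem count12 : ((Finset.range 4096).filter (fun c => popc (comb c) = 12)).card = 2576 := by
  decide +kernel

theorem okW_imp : ∀ p ≤ 24, Nat.beq ((16847105 >>> p) &&& 1) 1 = true →
    p = 0 ∨ p = 8 ∨ p = 12 ∨ p = 16 ∨ p = 24 := by
  decide +kernel

theorem weights (c : ℕ) (hc : c < 4096) :
    popc (comb c) = 0 ∨ popc (comb c) = 8 ∨ popc (comb c) = 12 ∨ popc (comb c) = 16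
      ∨ popc (comb c) = 24 := by
  have h := List.all_eq_true.mp weights_check c (List.mem_range.mpr hc)
  exact okW_imp _ (popc_le _) h

theorem comb_eq_zero (c : ℕ) (hc : c < 4096) (h : popc (comb c) = 0) : c = 0 := by
  have h' := List.all_eq_true.mp zero_check c (List.mem_range.mpr hc)
  rw [h] at h'
  rcases (Bool.or_eq_true _ _).mp h' with h1 | h1
  · exact absurd h1 (by decide)
  · exact Nat.eq_of_beq_eq_true h1

theorem ofBits_comb_inj {c c' : ℕ} (hc : c < 4096) (hc' : c' < 4096)
    (h : ofBits (comb c) = ofBits (comb c')) : c = c' := by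
  have h1 : ofBits (comb (c ^^^ c')) = 0 := by
    rw [comb_xor, ofBits_xor, h]
    funext p
    exact (by decide : ∀ x : ZMod 2, x + x = 0) _
  have h2 : popc (comb (c ^^^ c')) = 0 := by
    rw [← hammingNorm_ofBits, h1, hammingNorm_zero]
  have h3 := comb_eq_zero _ (Nat.xor_lt_two_pow (n := 12) hc hc') h2
  exact Nat.xor_eq_zero_iff.mp h3

/-! ### Supports -/

theorem card_support₂ {α : Type*} [Fintype α] (w : α → ZMod 2) :
    (support₂ w).card = hammingNorm w := by
  rw [support₂, hammingNorm]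

theorem support₂_injective {α : Type*} [Fintype α] :
    Function.Injective (support₂ : (α → ZMod 2) → Finset α) := by
  intro v w h
  funext a
  have h1 : a ∈ support₂ v ↔ a ∈ support₂ w := by rw [h]
  simp only [support₂, Finset.mem_filter, Finset.mem_univ, true_and] at h1
  exact (by decide : ∀ x y : ZMod 2, (x ≠ 0 ↔ y ≠ 0) → x = y) _ _ h1

theorem mem_support₂ {α : Type*} [Fintype α] (w : α → ZMod 2) (a : α) :
    a ∈ support₂ w ↔ w a ≠ 0 := by
  simp only [support₂, Finset.mem_filter, Finset.mem_univ, true_and]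

/-- The words of weight `n` of the code, as an image of a finite set of indices. -/
theorem wordsOfWeight_eq (n : ℕ) :
    wordsOfWeight (golayCode : Set (GolayPt → ZMod 2)) n
      = (fun c => support₂ (ofBits (comb c))) ''
          ↑((Finset.range 4096).filter (fun c => popc (comb c) = n)) := by
  ext b
  simp only [wordsOfWeight, supports, Set.mem_ofPred_eq, Set.mem_image, SetLike.mem_coe,
    Finset.coe_filter, Finset.mem_range]
  constructor
  · rintro ⟨⟨w, hw, rfl⟩, hcard⟩
    obtain ⟨c, hc, rfl⟩ := exists_of_mem hw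
    refine ⟨c, ⟨hc, ?_⟩, rfl⟩
    rw [← hammingNorm_ofBits, ← card_support₂, hcard]
  · rintro ⟨c, ⟨hc, hp⟩, rfl⟩
    refine ⟨⟨_, ofBits_comb_mem c, rfl⟩, ?_⟩
    rw [card_support₂, hammingNorm_ofBits, hp]

theorem ncard_wordsOfWeight (n : ℕ) :
    (wordsOfWeight (golayCode : Set (GolayPt → ZMod 2)) n).ncard
      = ((Finset.range 4096).filter (fun c => popc (comb c) = n)).card := by
  have hinj : Set.InjOn (fun c => support₂ (ofBits (comb c)))
      ↑((Finset.range 4096).filter (fun c => popc (comb c) = n)) := by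
    intro c hc c' hc' h
    rw [Finset.mem_coe, Finset.mem_filter, Finset.mem_range] at hc hc'
    exact ofBits_comb_inj hc.1 hc'.1 (support₂_injective h)
  rw [wordsOfWeight_eq, hinj.ncard_image, Set.ncard_coe_finset]

/-! ### Self-orthogonality -/

theorem sum_ofBits_mul (m n : ℕ) :
    ∑ p, ofBits m p * ofBits n p = ((popc (m &&& n) : ℕ) : ZMod 2) := by
  have h1 : ∀ p, ofBits m p * ofBits n p = ofBits (m &&& n) p := fun p => by
    rw [ofBits_and]
    rfl
  simp only [h1]
  rw [← hammingNorm_ofBits, hammingNorm, Finset.card_filter]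
  push_cast
  refine Finset.sum_congr rfl ?_
  intro p _
  exact (by decide : ∀ x : ZMod 2, x = if x ≠ 0 then 1 else 0) _

theorem dot_gen : ∀ s t : Fin 23, popc (qbits s.val &&& qbits t.val) % 2 = 0 := by
  decide +kernel

theorem dot_gen_one : ∀ s : Fin 23, popc (qbits s.val &&& 16777215) % 2 = 0 := by
  decide +kernel

theorem dot_one_gen : ∀ s : Fin 23, popc (16777215 &&& qbits s.val) % 2 = 0 := by
  decide +kernel

theorem dot_one_one : popc (16777215 &&& 16777215) % 2 = 0 := by
  decide +kernel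

theorem gen_dot : ∀ x ∈ Set.range qrWord ∪ {1}, ∀ y ∈ Set.range qrWord ∪ {1},
      ∑ i, x i * y i = 0 := by
  have cast0 : ∀ k : ℕ, k % 2 = 0 → ((k : ℕ) : ZMod 2) = 0 := fun k hk =>
    (ZMod.natCast_eq_zero_iff k 2).mpr (Nat.dvd_of_mod_eq_zero hk)
  rintro x (⟨s, rfl⟩ | hx) y (⟨t, rfl⟩ | hy)
  · rw [funext (qrWord_eq_ofBits s), funext (qrWord_eq_ofBits t), sum_ofBits_mul]
    have h := dot_gen ⟨s.val, ZMod.val_lt s⟩ ⟨t.val, ZMod.val_lt t⟩
    exact cast0 _ h
  · rw [Set.mem_singleton_iff.mp hy, funext (qrWord_eq_ofBits s), one_eq_ofBits,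
        sum_ofBits_mul]
    have h := dot_gen_one ⟨s.val, ZMod.val_lt s⟩
    exact cast0 _ h
  · rw [Set.mem_singleton_iff.mp hx, funext (qrWord_eq_ofBits t), one_eq_ofBits,
        sum_ofBits_mul]
    have h := dot_one_gen ⟨t.val, ZMod.val_lt t⟩
    exact cast0 _ h
  · rw [Set.mem_singleton_iff.mp hx, Set.mem_singleton_iff.mp hy, one_eq_ofBits,
        sum_ofBits_mul]
    exact cast0 _ dot_one_one


theorem dot_span {ι : Type*} [Fintype ι] {R : Type*} [CommRing R] (S : Set (ι → R))
    (h : ∀ x ∈ S, ∀ y ∈ S, ∑ i, x i * y i = 0) :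
    ∀ v ∈ Submodule.span R S, ∀ w ∈ Submodule.span R S, ∑ i, v i * w i = 0 := by
  intro v hv w hw
  refine Submodule.span_induction (p := fun v _ => ∑ i, v i * w i = 0) ?_ ?_ ?_ ?_ hv
  · intro x hx
    refine Submodule.span_induction (p := fun w _ => ∑ i, x i * w i = 0) ?_ ?_ ?_ ?_ hw
    · intro y hy
      exact h x hx y hy
    · simp
    · intro y z _ _ hy hz
      simp only [Pi.add_apply, mul_add, Finset.sum_add_distrib, hy, hz, add_zero]
    · intro a y _ hy
      simp only [Pi.smul_apply, smul_eq_mul, mul_left_comm _ a, ← Finset.mul_sum, hy, mul_zero]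
  · simp
  · intro y z _ _ hy hz
    simp only [Pi.add_apply, add_mul, Finset.sum_add_distrib, hy, hz, add_zero]
  · intro a y _ hy
    simp only [Pi.smul_apply, smul_eq_mul, mul_assoc, ← Finset.mul_sum, hy, mul_zero]

theorem dot_eq_zero_of_mem {v w : GolayPt → ZMod 2} (hv : v ∈ golayCode) (hw : w ∈ golayCode) :
    ∑ i, v i * w i = 0 :=
  dot_span _ gen_dot v hv w hw


/-! ### Cardinality -/

theorem card_golayCode : Nat.card golayCode = 4096 := by
  have hset : (golayCode : Set (GolayPt → ZMod 2))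
      = (fun c => ofBits (comb c)) '' ↑(Finset.range 4096) := by
    ext w
    simp only [SetLike.mem_coe, Set.mem_image, Finset.coe_range, Set.mem_Iio]
    rw [mem_golayCode_iff]
    constructor
    · rintro ⟨c, hc, rfl⟩
      exact ⟨c, hc, rfl⟩
    · rintro ⟨c, hc, rfl⟩
      exact ⟨c, hc, rfl⟩
  have hinj : Set.InjOn (fun c => ofBits (comb c)) ↑(Finset.range 4096) := by
    intro c hc c' hc' h
    rw [Finset.coe_range, Set.mem_Iio] at hc hc'
    exact ofBits_comb_inj hc hc' h
  rw [← SetLike.coe_sort_coe, Nat.card_coe_set_eq, hset, hinj.ncard_image,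
    Set.ncard_coe_finset, Finset.card_range]

end Cfsg.Agent.Helper1.Golay
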