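import Mathlib
import Cfsg.Prelude.Def_Sporadic_a

set_option autoImplicit false

namespace Cfsg.Agent.Helper1

open Finset

section

variable {α : Type*} [DecidableEq α]

/-- The number of `t`-subsets of `b` containing a fixed subset `J`. -/
theorem card_filter_superset (b J : Finset α) (hJ : J ⊆ b) (t : ℕ) (hjt : J.card ≤ t) :
    ((b.powersetCard t).filter (fun s => J ⊆ s)).card
      = Nat.choose (b.card - J.card) (t - J.card) := by
  rw [← Finset.card_sdiff_of_subset hJ, ← Finset.card_powersetCard]
  refine Finset.card_bij' (fun s _ => s \ J) (fun u _ => u ∪ J) ?_ ?_ ?_ ?_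
  · intro s hs
    rw [Finset.mem_filter, Finset.mem_powersetCard] at hs
    rw [Finset.mem_powersetCard]
    refine ⟨Finset.sdiff_subset_sdiff hs.1.1 (le_refl J), ?_⟩
    rw [Finset.card_sdiff_of_subset hs.2, hs.1.2]
  · intro u hu
    rw [Finset.mem_powersetCard] at hu
    have hd : Disjoint u J := by
      have := Finset.sdiff_disjoint (s := J) (t := b)
      exact Finset.disjoint_of_subset_left hu.1 this
    rw [Finset.mem_filter, Finset.mem_powersetCard]
    refine ⟨⟨Finset.union_subset (hu.1.trans Finset.sdiff_subset) hJ, ?_⟩,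
      Finset.subset_union_right⟩
    rw [Finset.card_union_of_disjoint hd, hu.2]
    omega
  · intro s hs
    rw [Finset.mem_filter] at hs
    exact Finset.sdiff_union_of_subset hs.2
  · intro u hu
    rw [Finset.mem_powersetCard] at hu
    have hd : Disjoint u J := by
      have := Finset.sdiff_disjoint (s := J) (t := b)
      exact Finset.disjoint_of_subset_left hu.1 this
    exact Finset.union_sdiff_cancel_right hd

end

section

variable {α : Type*} [Fintype α] [DecidableEq α]

/-- The finite set of blocks of a set system on a finite type. -/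
noncomputable def blocks (B : Set (Finset α)) : Finset (Finset α) := (Set.toFinite B).toFinset

theorem mem_blocks {B : Set (Finset α)} {b : Finset α} : b ∈ blocks B ↔ b ∈ B :=
  Set.Finite.mem_toFinset _

theorem card_blocks (B : Set (Finset α)) : (blocks B).card = B.ncard :=
  (Set.ncard_eq_toFinset_card B _).symm

/-- Two blocks of a Steiner system sharing at least `t` points are equal. -/
theorem steiner_eq_of_le_card_inter {t k : ℕ} {B : Set (Finset α)}
    (hB : Cfsg.IsSteinerSystem t k B) {b c : Finset α} (hb : b ∈ B) (hc : c ∈ B)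
    (h : t ≤ (b ∩ c).card) : b = c := by
  obtain ⟨s, hs, hst⟩ := Finset.exists_subset_card_eq h
  obtain ⟨d, -, hd⟩ := hB.2 s hst
  rw [hd b ⟨hb, hs.trans Finset.inter_subset_left⟩,
    hd c ⟨hc, hs.trans Finset.inter_subset_right⟩]

/-- The number of blocks through a `j`-set, `j ≤ t`. -/
theorem steiner_lam {t k : ℕ} {B : Set (Finset α)} (hB : Cfsg.IsSteinerSystem t k B)
    (J : Finset α) (hJ : J.card ≤ t) :
    ((blocks B).filter (fun b => J ⊆ b)).card * Nat.choose (k - J.card) (t - J.card)
      = Nat.choose (Fintype.card α - J.card) (t - J.card) := by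
  have h1 := card_filter_superset (Finset.univ : Finset α) J (Finset.subset_univ J) t hJ
  rw [Finset.card_univ] at h1
  rw [← h1]
  have h2 : ((Finset.univ : Finset α).powersetCard t).filter (fun s => J ⊆ s)
      = ((blocks B).filter (fun b => J ⊆ b)).biUnion
          (fun b => (b.powersetCard t).filter (fun s => J ⊆ s)) := by
    ext s
    simp only [Finset.mem_filter, Finset.mem_powersetCard, Finset.mem_biUnion, mem_blocks,
      Finset.subset_univ, true_and]
    constructor
    · rintro ⟨hst, hJs⟩
      obtain ⟨b, ⟨hb, hsb⟩, -⟩ := hB.2 s hst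
      exact ⟨b, ⟨hb, hJs.trans hsb⟩, ⟨hsb, hst⟩, hJs⟩
    · rintro ⟨b, -, ⟨-, hst⟩, hJs⟩
      exact ⟨hst, hJs⟩
  rw [h2, Finset.card_biUnion]
  · rw [Finset.sum_congr rfl (g := fun _ => Nat.choose (k - J.card) (t - J.card))]
    · rw [Finset.sum_const, smul_eq_mul]
    · intro b hb
      rw [Finset.mem_filter, mem_blocks] at hb
      rw [card_filter_superset b J hb.2 t hJ, hB.1 b hb.1]
  · intro b hb c hc hbc
    rw [Finset.mem_coe, Finset.mem_filter, mem_blocks] at hb hc
    rw [Function.onFun, Finset.disjoint_left]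
    intro s hs1 hs2
    rw [Finset.mem_filter, Finset.mem_powersetCard] at hs1 hs2
    apply hbc
    obtain ⟨d, -, hd⟩ := hB.2 s hs1.1.2
    rw [hd b ⟨hb.1, hs1.1.1⟩, hd c ⟨hc.1, hs2.1.1⟩]

/-- Double counting of pairs (`j`-subset `J` of `b`, block `c ⊇ J`). -/
theorem steiner_double_count (B : Set (Finset α)) (b : Finset α) (j : ℕ) :
    ∑ c ∈ blocks B, Nat.choose (b ∩ c).card j
      = ∑ J ∈ b.powersetCard j, ((blocks B).filter (fun c => J ⊆ c)).card := by
  have h1 : ∀ c ∈ blocks B, Nat.choose (b ∩ c).card j
      = ∑ J ∈ b.powersetCard j, if J ⊆ c then 1 else 0 := by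
    intro c _
    rw [← Finset.card_powersetCard, ← Finset.card_filter]
    congr 1
    ext J
    simp only [Finset.mem_powersetCard, Finset.mem_filter, Finset.subset_inter_iff]
    tauto
  rw [Finset.sum_congr rfl h1, Finset.sum_comm]
  refine Finset.sum_congr rfl ?_
  intro J _
  rw [Finset.card_filter]

/-- The moment identity for the intersection numbers of a fixed block. -/
theorem steiner_sum_choose {t k : ℕ} {B : Set (Finset α)} (hB : Cfsg.IsSteinerSystem t k B)
    {b : Finset α} (hb : b ∈ B) (j : ℕ) (hj : j ≤ t) :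
    (∑ c ∈ blocks B, Nat.choose (b ∩ c).card j) * Nat.choose (k - j) (t - j)
      = Nat.choose k j * Nat.choose (Fintype.card α - j) (t - j) := by
  rw [steiner_double_count, Finset.sum_mul]
  rw [Finset.sum_congr rfl (g := fun _ => Nat.choose (Fintype.card α - j) (t - j))]
  · rw [Finset.sum_const, smul_eq_mul, Finset.card_powersetCard, hB.1 b hb]
  · intro J hJ
    rw [Finset.mem_powersetCard] at hJ
    have := steiner_lam hB J (by rw [hJ.2]; exact hj)
    rw [hJ.2] at this
    exact this

/-- The intersection numbers of a block `b`: the number of blocks meeting `b` in exactly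
`i` points. -/
noncomputable def interNum (B : Set (Finset α)) (b : Finset α) (i : ℕ) : ℕ :=
  ((blocks B).filter (fun c => (b ∩ c).card = i)).card

theorem steiner_moment {t k : ℕ} {B : Set (Finset α)} (hB : Cfsg.IsSteinerSystem t k B)
    {b : Finset α} (hb : b ∈ B) (j : ℕ) (hj : j ≤ t) :
    (∑ i ∈ Finset.range (k + 1), interNum B b i * Nat.choose i j) * Nat.choose (k - j) (t - j)
      = Nat.choose k j * Nat.choose (Fintype.card α - j) (t - j) := by
  rw [← steiner_sum_choose hB hb j hj]
  congr 1
  have hmaps : ∀ c ∈ blocks B, (b ∩ c).card ∈ Finset.range (k + 1) := by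
    intro c _
    rw [Finset.mem_range, Nat.lt_succ_iff, ← hB.1 b hb]
    exact Finset.card_le_card Finset.inter_subset_left
  rw [← Finset.sum_fiberwise_of_maps_to hmaps]
  refine Finset.sum_congr rfl ?_
  intro i _
  rw [interNum, Finset.sum_congr rfl (g := fun _ => Nat.choose i j)]
  · rw [Finset.sum_const, smul_eq_mul]
  · intro c hc
    rw [Finset.mem_filter] at hc
    rw [hc.2]

theorem interNum_self {t k : ℕ} {B : Set (Finset α)} (hB : Cfsg.IsSteinerSystem t k B)
    {b : Finset α} (hb : b ∈ B) : interNum B b k = 1 := by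
  rw [interNum, Finset.card_eq_one]
  refine ⟨b, ?_⟩
  ext c
  rw [Finset.mem_filter, Finset.mem_singleton, mem_blocks]
  constructor
  · rintro ⟨hc, hcard⟩
    have h1 : b ∩ c = b := Finset.eq_of_subset_of_card_le Finset.inter_subset_left
      (by rw [hcard, hB.1 b hb])
    have h2 : b ∩ c = c := Finset.eq_of_subset_of_card_le Finset.inter_subset_right
      (by rw [hcard, hB.1 c hc])
    rw [← h2, h1]
  · rintro rfl
    exact ⟨hb, by rw [Finset.inter_self, hB.1 c hb]⟩

theorem interNum_eq_zero {t k : ℕ} {B : Set (Finset α)} (hB : Cfsg.IsSteinerSystem t k B)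
    {b : Finset α} (hb : b ∈ B) {i : ℕ} (hti : t ≤ i) (hik : i ≠ k) : interNum B b i = 0 := by
  rw [interNum, Finset.card_eq_zero, Finset.filter_eq_empty_iff]
  intro c hc hcard
  rw [mem_blocks] at hc
  have := steiner_eq_of_le_card_inter hB hb hc (by rw [hcard]; exact hti)
  subst this
  rw [Finset.inter_self, hB.1 b hb] at hcard
  exact hik hcard.symm

/-- If the intersection number `interNum B b i` vanishes, no block meets `b` in `i` points. -/
theorem card_inter_ne_of_interNum_eq_zero {B : Set (Finset α)} {b c : Finset α} {i : ℕ}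
    (h : interNum B b i = 0) (hc : c ∈ B) : (b ∩ c).card ≠ i := by
  intro hcard
  rw [interNum, Finset.card_eq_zero, Finset.filter_eq_empty_iff] at h
  exact h (mem_blocks.mpr hc) hcard

end

end Cfsg.Agent.Helper1
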