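import Mathlib
import Cfsg.Agent.Helper1.Golay
import Cfsg.Agent.Helper1.Steiner

set_option autoImplicit false

namespace Cfsg.Agent.Helper1.Golay

open Cfsg
open scoped Pointwise

/-! ### Permutations preserving the code -/

theorem comp_mem_of_gen (σ : GolayPt → GolayPt) (h : ∀ t, qrWord t ∘ σ ∈ golayCode) :
    ∀ w ∈ golayCode, w ∘ σ ∈ golayCode := by
  have hle : Submodule.span (ZMod 2) (Set.range qrWord ∪ {1})
      ≤ Submodule.comap (LinearMap.funLeft (ZMod 2) (ZMod 2) σ) golayCode := by
    rw [Submodule.span_le]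
    rintro x (⟨t, rfl⟩ | hx)
    · exact h t
    · rw [Set.mem_singleton_iff.mp hx]
      exact Submodule.subset_span (Or.inr rfl)
  intro w hw
  exact hle hw

theorem inv_smul_support₂ (σ : Equiv.Perm GolayPt) (w : GolayPt → ZMod 2) :
    σ⁻¹ • support₂ w = support₂ (w ∘ σ) := by
  ext a
  rw [Finset.mem_inv_smul_finset_iff, mem_support₂, mem_support₂]
  rfl

theorem mem_M24_of_comp (σ : Equiv.Perm GolayPt) (h : ∀ t, qrWord t ∘ σ ∈ golayCode) :
    σ ∈ M24 := by
  have h1 := comp_mem_of_gen σ h
  have h2 : σ⁻¹ ∈ M24 := by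
    rw [M24, setSystemAut, MulAction.mem_stabilizer_set' (Set.toFinite _)]
    rintro b ⟨w, hw, rfl⟩
    rw [inv_smul_support₂]
    exact ⟨_, h1 w hw, rfl⟩
  have h3 := inv_mem h2
  rwa [inv_inv] at h3

theorem mem_M24_of_table (σ : Equiv.Perm GolayPt) (f : GolayPt → GolayPt)
    (hf : ∀ p, σ p = f p) (tab : ℕ → ℕ)
    (h : ∀ (t : ZMod 23) (p : GolayPt), qrWord t (f p) = ofBits (comb (tab t.val)) p) :
    σ ∈ M24 := by
  apply mem_M24_of_comp
  intro t
  have h1 : qrWord t ∘ σ = ofBits (comb (tab t.val)) := by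
    funext p
    rw [Function.comp_apply, hf p]
    exact h t p
  rw [h1]
  exact ofBits_comb_mem _

/-! ### Octads -/

theorem support₂_add {α : Type*} [Fintype α] [DecidableEq α] (v w : α → ZMod 2) :
    support₂ (v + w) = symmDiff (support₂ v) (support₂ w) := by
  ext a
  rw [Finset.mem_symmDiff, mem_support₂, mem_support₂, mem_support₂, Pi.add_apply]
  exact (by decide : ∀ x y : ZMod 2, x + y ≠ 0 ↔ (x ≠ 0 ∧ ¬ y ≠ 0) ∨ (y ≠ 0 ∧ ¬ x ≠ 0)) _ _

theorem hammingNorm_eq (w : GolayPt → ZMod 2) (hw : w ∈ golayCode) :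
    hammingNorm w = 0 ∨ hammingNorm w = 8 ∨ hammingNorm w = 12 ∨ hammingNorm w = 16
      ∨ hammingNorm w = 24 := by
  obtain ⟨c, hc, rfl⟩ := exists_of_mem hw
  rw [hammingNorm_ofBits]
  exact weights c hc

theorem octads_unique {o1 o2 : Finset GolayPt} (h1 : o1 ∈ octads) (h2 : o2 ∈ octads)
    (h : 5 ≤ (o1 ∩ o2).card) : o1 = o2 := by
  obtain ⟨⟨v, hv, rfl⟩, hc1⟩ := h1
  obtain ⟨⟨w, hw, rfl⟩, hc2⟩ := h2
  have hvw : v + w ∈ golayCode := Submodule.add_mem _ hv hw
  have hn := hammingNorm_eq _ hvw
  have hcard : hammingNorm (v + w) = (support₂ v \ support₂ w).card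
      + (support₂ w \ support₂ v).card := by
    rw [← card_support₂, support₂_add]
    exact Finset.card_union_of_disjoint disjoint_sdiff_sdiff
  have e1 := Finset.card_sdiff_add_card_inter (support₂ v) (support₂ w)
  have e2 := Finset.card_sdiff_add_card_inter (support₂ w) (support₂ v)
  rw [Finset.inter_comm] at e2
  have h0 : hammingNorm (v + w) = 0 := by omega
  rw [hammingNorm_eq_zero] at h0
  have hvw' : v = w := by
    funext a
    have ha := congrFun h0 a
    rw [Pi.add_apply, Pi.zero_apply] at ha
    exact (by decide : ∀ x y : ZMod 2, x + y = 0 → x = y) _ _ ha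
  rw [hvw']

theorem card_golayPt : Fintype.card GolayPt = 24 := by decide

theorem octads_steiner : IsSteinerSystem 5 8 octads := by
  classical
  constructor
  · intro b hb
    exact hb.2
  · intro s hs
    have huniq : ∀ o1 ∈ octads, ∀ o2 ∈ octads, s ⊆ o1 → s ⊆ o2 → o1 = o2 := by
      intro o1 h1 o2 h2 hs1 hs2
      apply octads_unique h1 h2
      rw [← hs]
      exact Finset.card_le_card (Finset.subset_inter hs1 hs2)
    have hex : ∃ o ∈ octads, s ⊆ o := by
      have hO : (blocks octads).card = 759 := by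
        rw [card_blocks, octads, ncard_wordsOfWeight]
        exact count8
      have hT : ((blocks octads).biUnion (fun o => o.powersetCard 5)).card = 759 * 56 := by
        rw [Finset.card_biUnion]
        · rw [Finset.sum_congr rfl (g := fun _ => 56)]
          · rw [Finset.sum_const, smul_eq_mul, hO]
          · intro o ho
            rw [mem_blocks] at ho
            rw [Finset.card_powersetCard, ho.2]
            rfl
        · intro o1 ho1 o2 ho2 hne
          rw [Finset.mem_coe, mem_blocks] at ho1 ho2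
          rw [Function.onFun, Finset.disjoint_left]
          intro u hu1 hu2
          rw [Finset.mem_powersetCard] at hu1 hu2
          apply hne
          apply octads_unique ho1 ho2
          rw [← hu1.2]
          exact Finset.card_le_card (Finset.subset_inter hu1.1 hu2.1)
      have hsub : (blocks octads).biUnion (fun o => o.powersetCard 5)
          ⊆ (Finset.univ : Finset GolayPt).powersetCard 5 := by
        intro u hu
        rw [Finset.mem_biUnion] at hu
        obtain ⟨o, -, hu⟩ := hu
        rw [Finset.mem_powersetCard] at hu ⊢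
        exact ⟨Finset.subset_univ _, hu.2⟩
      have heq := Finset.eq_of_subset_of_card_le hsub (by
        rw [hT, Finset.card_powersetCard, Finset.card_univ, card_golayPt]
        decide)
      have hmem : s ∈ (Finset.univ : Finset GolayPt).powersetCard 5 := by
        rw [Finset.mem_powersetCard]
        exact ⟨Finset.subset_univ _, hs⟩
      rw [← heq, Finset.mem_biUnion] at hmem
      obtain ⟨o, ho, hso⟩ := hmem
      rw [mem_blocks] at ho
      rw [Finset.mem_powersetCard] at hso
      exact ⟨o, ho, hso.1⟩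
    obtain ⟨o, ho, hso⟩ := hex
    exact ⟨o, ⟨ho, hso⟩, fun o' ho' => huniq o' ho'.1 o ho ho'.2 hso⟩

end Cfsg.Agent.Helper1.Golay
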