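import Mathlib
import Cfsg.Agent.Helper1.Steiner

set_option autoImplicit false

namespace Cfsg.Agent.Helper1

open Finset

variable {α : Type*} [Fintype α] [DecidableEq α]

/-- The moment identity for the intersection numbers of an arbitrary point set `X`. -/
theorem steiner_sum_choose' {t k : ℕ} {B : Set (Finset α)} (hB : Cfsg.IsSteinerSystem t k B)
    (X : Finset α) (j : ℕ) (hj : j ≤ t) :
    (∑ c ∈ blocks B, Nat.choose (X ∩ c).card j) * Nat.choose (k - j) (t - j)
      = Nat.choose X.card j * Nat.choose (Fintype.card α - j) (t - j) := by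
  rw [steiner_double_count, Finset.sum_mul]
  rw [Finset.sum_congr rfl (g := fun _ => Nat.choose (Fintype.card α - j) (t - j))]
  · rw [Finset.sum_const, smul_eq_mul, Finset.card_powersetCard]
  · intro J hJ
    rw [Finset.mem_powersetCard] at hJ
    have := steiner_lam hB J (by rw [hJ.2]; exact hj)
    rw [hJ.2] at this
    exact this

theorem steiner_moment' {t k : ℕ} {B : Set (Finset α)} (hB : Cfsg.IsSteinerSystem t k B)
    (X : Finset α) (N : ℕ) (hN : ∀ c ∈ B, (X ∩ c).card < N) (j : ℕ) (hj : j ≤ t) :
    (∑ i ∈ Finset.range N, interNum B X i * Nat.choose i j) * Nat.choose (k - j) (t - j)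
      = Nat.choose X.card j * Nat.choose (Fintype.card α - j) (t - j) := by
  rw [← steiner_sum_choose' hB X j hj]
  congr 1
  have hmaps : ∀ c ∈ blocks B, (X ∩ c).card ∈ Finset.range N := by
    intro c hc
    rw [Finset.mem_range]
    exact hN c (mem_blocks.mp hc)
  rw [← Finset.sum_fiberwise_of_maps_to hmaps]
  refine Finset.sum_congr rfl ?_
  intro i _
  rw [interNum, Finset.sum_congr rfl (g := fun _ => Nat.choose i j)]
  · rw [Finset.sum_const, smul_eq_mul]
  · intro c hc
    rw [Finset.mem_filter] at hc
    rw [hc.2]

/-- If no block meets `X` in `i` points, the intersection number vanishes. -/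
theorem interNum_eq_zero_of_forall {B : Set (Finset α)} {X : Finset α} {i : ℕ}
    (h : ∀ c ∈ B, (X ∩ c).card ≠ i) : interNum B X i = 0 := by
  rw [interNum, Finset.card_eq_zero, Finset.filter_eq_empty_iff]
  intro c hc
  exact h c (mem_blocks.mp hc)

/-- The set of blocks meeting `X` in `i` points has `interNum B X i` elements. -/
theorem ncard_setOf_inter (B : Set (Finset α)) (X : Finset α) (i : ℕ) :
    {c : Finset α | c ∈ B ∧ (X ∩ c).card = i}.ncard = interNum B X i := by
  have hset : {c : Finset α | c ∈ B ∧ (X ∩ c).card = i}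
      = ↑((blocks B).filter (fun c => (X ∩ c).card = i)) := by
    ext c
    rw [Finset.coe_filter]
    simp only [Set.mem_ofPred_eq, mem_blocks]
  rw [hset, Set.ncard_coe_finset, interNum]

end Cfsg.Agent.Helper1
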