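import Mathlib
import Cfsg.Agent.Helper1.Golay2
import Cfsg.Agent.Helper1.Steiner2

set_option autoImplicit false

namespace Cfsg.Agent.Helper1.Golay

open Cfsg

theorem hammingNorm_add_supports {α : Type*} [Fintype α] [DecidableEq α] (v w : α → ZMod 2) :
    hammingNorm (v + w) + 2 * (support₂ v ∩ support₂ w).card
      = (support₂ v).card + (support₂ w).card := by
  have hcard : hammingNorm (v + w) = (support₂ v \ support₂ w).card
      + (support₂ w \ support₂ v).card := by
    rw [← card_support₂, support₂_add]
    exact Finset.card_union_of_disjoint disjoint_sdiff_sdiff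
  have e1 := Finset.card_sdiff_add_card_inter (support₂ v) (support₂ w)
  have e2 := Finset.card_sdiff_add_card_inter (support₂ w) (support₂ v)
  rw [Finset.inter_comm] at e2
  omega

/-- The sum of two words of the code has its support in the code. -/
theorem symmDiff_mem_supports {a b : Finset GolayPt}
    (ha : a ∈ supports (golayCode : Set (GolayPt → ZMod 2)))
    (hb : b ∈ supports (golayCode : Set (GolayPt → ZMod 2))) :
    symmDiff a b ∈ supports (golayCode : Set (GolayPt → ZMod 2)) := by
  obtain ⟨v, hv, rfl⟩ := ha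
  obtain ⟨w, hw, rfl⟩ := hb
  exact ⟨v + w, Submodule.add_mem _ hv hw, support₂_add v w⟩

theorem octad_dodecad_inter {o d : Finset GolayPt} (ho : o ∈ octads) (hd : d ∈ dodecads) :
    (o ∩ d).card = 2 ∨ (o ∩ d).card = 4 ∨ (o ∩ d).card = 6 := by
  obtain ⟨⟨v, hv, rfl⟩, hc1⟩ := ho
  obtain ⟨⟨w, hw, rfl⟩, hc2⟩ := hd
  have hvw : v + w ∈ golayCode := Submodule.add_mem _ hv hw
  have hn := hammingNorm_eq _ hvw
  have h := hammingNorm_add_supports v w
  have hle : (support₂ v ∩ support₂ w).card ≤ 8 := by
    rw [← hc1]
    exact Finset.card_le_card Finset.inter_subset_left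
  omega

end Cfsg.Agent.Helper1.Golay
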