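import Mathlib
import Cfsg.Agent.Helper1.Golay3

set_option autoImplicit false

namespace Cfsg.Agent.Helper1.Golay

open Cfsg
open scoped Pointwise

theorem ofBits_sel_mem_of (P : Submodule (ZMod 2) (GolayPt → ZMod 2)) {b : ℕ}
    (hb : ofBits b ∈ P) (c i : ℕ) : ofBits (bitAt c i * b) ∈ P := by
  rw [bitAt_eq]
  split_ifs
  · rwa [one_mul]
  · rw [zero_mul, ofBits_zero]
    exact Submodule.zero_mem _

/-- A submodule containing the 12 basis words contains every word `ofBits (comb c)`. -/
theorem ofBits_comb_mem_of (P : Submodule (ZMod 2) (GolayPt → ZMod 2))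
    (h0 : ofBits 340831 ∈ P) (h1 : ofBits 681662 ∈ P) (h2 : ofBits 1363324 ∈ P)
    (h3 : ofBits 2726648 ∈ P) (h4 : ofBits 5453296 ∈ P) (h5 : ofBits 2517985 ∈ P)
    (h6 : ofBits 5035970 ∈ P) (h7 : ofBits 1683333 ∈ P) (h8 : ofBits 3366666 ∈ P)
    (h9 : ofBits 6733332 ∈ P) (h10 : ofBits 5078057 ∈ P) (h11 : ofBits 16777215 ∈ P)
    (c : ℕ) : ofBits (comb c) ∈ P := by
  simp only [comb, ofBits_xor]
  repeat' apply Submodule.add_mem
  · exact ofBits_sel_mem_of P h0 c 0
  · exact ofBits_sel_mem_of P h1 c 1
  · exact ofBits_sel_mem_of P h2 c 2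
  · exact ofBits_sel_mem_of P h3 c 3
  · exact ofBits_sel_mem_of P h4 c 4
  · exact ofBits_sel_mem_of P h5 c 5
  · exact ofBits_sel_mem_of P h6 c 6
  · exact ofBits_sel_mem_of P h7 c 7
  · exact ofBits_sel_mem_of P h8 c 8
  · exact ofBits_sel_mem_of P h9 c 9
  · exact ofBits_sel_mem_of P h10 c 10
  · exact ofBits_sel_mem_of P h11 c 11

/-- The words of weight 8 of the code. -/
def octWords : Set (GolayPt → ZMod 2) := {w | w ∈ golayCode ∧ hammingNorm w = 8}

theorem golayCode_le_span_octWords : golayCode ≤ Submodule.span (ZMod 2) octWords := by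
  intro w hw
  obtain ⟨c, -, rfl⟩ := exists_of_mem hw
  have mem8 : ∀ c, popc (comb c) = 8 → ofBits (comb c) ∈ Submodule.span (ZMod 2) octWords :=
    fun c hc => Submodule.subset_span ⟨ofBits_comb_mem c, by rw [hammingNorm_ofBits, hc]⟩
  have two : ∀ b x y, b = comb x ^^^ comb y → popc (comb x) = 8 → popc (comb y) = 8 →
      ofBits b ∈ Submodule.span (ZMod 2) octWords := by
    intro b x y hb hx hy
    rw [hb, ofBits_xor]
    exact Submodule.add_mem _ (mem8 x hx) (mem8 y hy)
  apply ofBits_comb_mem_of
  · exact two _ 118 119 (by decide +kernel) (by decide +kernel) (by decide +kernel)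
  · exact two _ 41 43 (by decide +kernel) (by decide +kernel) (by decide +kernel)
  · exact two _ 43 47 (by decide +kernel) (by decide +kernel) (by decide +kernel)
  · exact two _ 35 43 (by decide +kernel) (by decide +kernel) (by decide +kernel)
  · exact two _ 43 59 (by decide +kernel) (by decide +kernel) (by decide +kernel)
  · exact two _ 15 47 (by decide +kernel) (by decide +kernel) (by decide +kernel)
  · exact two _ 30 94 (by decide +kernel) (by decide +kernel) (by decide +kernel)
  · exact two _ 35 163 (by decide +kernel) (by decide +kernel) (by decide +kernel)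
  · exact two _ 35 291 (by decide +kernel) (by decide +kernel) (by decide +kernel)
  · exact two _ 35 547 (by decide +kernel) (by decide +kernel) (by decide +kernel)
  · exact two _ 19 1043 (by decide +kernel) (by decide +kernel) (by decide +kernel)
  · have hb : 16777215 = comb 15 ^^^ comb 125 ^^^ comb 2162 := by decide +kernel
    rw [hb, ofBits_xor, ofBits_xor]
    exact Submodule.add_mem _ (Submodule.add_mem _ (mem8 15 (by decide +kernel))
      (mem8 125 (by decide +kernel))) (mem8 2162 (by decide +kernel))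

theorem qrWord_mem (t : ZMod 23) : qrWord t ∈ golayCode :=
  Submodule.subset_span (Or.inl ⟨t, rfl⟩)

theorem comp_mem_of_octads (σ : Equiv.Perm GolayPt) (hσ : σ ∈ setSystemAut octads) :
    ∀ w ∈ golayCode, w ∘ σ ∈ golayCode := by
  have hinv : σ⁻¹ ∈ setSystemAut octads := inv_mem hσ
  rw [setSystemAut, MulAction.mem_stabilizer_set' (Set.toFinite _)] at hinv
  have hle : Submodule.span (ZMod 2) octWords
      ≤ Submodule.comap (LinearMap.funLeft (ZMod 2) (ZMod 2) σ) golayCode := by
    rw [Submodule.span_le]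
    rintro w ⟨hw, h8⟩
    have ho : support₂ w ∈ octads := ⟨⟨w, hw, rfl⟩, by rw [card_support₂, h8]⟩
    have h1 := hinv ho
    rw [inv_smul_support₂] at h1
    obtain ⟨⟨w', hw', hsupp⟩, -⟩ := h1
    have h2 : w ∘ σ = w' := (support₂_injective hsupp).symm
    show w ∘ σ ∈ golayCode
    rw [h2]
    exact hw'
  intro w hw
  exact hle (golayCode_le_span_octWords hw)

theorem M24_eq_octad_aut : M24 = setSystemAut octads := by
  ext σ
  constructor
  · intro hσ
    rw [setSystemAut, MulAction.mem_stabilizer_set' (Set.toFinite _)]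
    rw [M24, setSystemAut, MulAction.mem_stabilizer_set' (Set.toFinite _)] at hσ
    rintro o ⟨ho, hcard⟩
    exact ⟨hσ ho, by rw [Finset.card_smul_finset, hcard]⟩
  · intro hσ
    apply mem_M24_of_comp
    intro t
    exact comp_mem_of_octads σ hσ _ (qrWord_mem t)

end Cfsg.Agent.Helper1.Golay
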