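import Mathlib
import Cfsg.Agent.Helper1.Golay4

set_option autoImplicit false

namespace Cfsg.Agent.Helper1.Golay

open Cfsg
open scoped Pointwise

theorem ofBits_xor_apply (m n : ℕ) (p : GolayPt) :
    ofBits (m ^^^ n) p = ofBits m p + ofBits n p := by
  rw [ofBits_xor]
  rfl

/-- The XOR-linear map on 12-bit coordinates with the given images of the basis. -/
def lin (t0 t1 t2 t3 t4 t5 t6 t7 t8 t9 t10 t11 c : ℕ) : ℕ :=
  bitAt c 0 * t0 ^^^ bitAt c 1 * t1 ^^^ bitAt c 2 * t2 ^^^ bitAt c 3 * t3 ^^^ bitAt c 4 * t4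
  ^^^ bitAt c 5 * t5 ^^^ bitAt c 6 * t6 ^^^ bitAt c 7 * t7 ^^^ bitAt c 8 * t8 ^^^ bitAt c 9 *
  t9 ^^^ bitAt c 10 * t10 ^^^ bitAt c 11 * t11

theorem comb_eq_lin (c : ℕ) :
    comb c = lin 340831 681662 1363324 2726648 5453296 2517985 5035970 1683333 3366666 6733332
      5078057 16777215 c := rfl

theorem pull_sel (f : GolayPt → GolayPt) {b t : ℕ}
    (h : ∀ p, ofBits b (f p) = ofBits (comb t) p) (c i : ℕ) (p : GolayPt) :
    ofBits (bitAt c i * b) (f p) = ofBits (comb (bitAt c i * t)) p := by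
  rw [bitAt_eq]
  split_ifs
  · rw [one_mul, one_mul]
    exact h p
  · rw [zero_mul, zero_mul, comb_zero, ofBits_zero]
    rfl

theorem pull_comb (f : GolayPt → GolayPt) (t0 t1 t2 t3 t4 t5 t6 t7 t8 t9 t10 t11 : ℕ)
    (h0 : ∀ p, ofBits 340831 (f p) = ofBits (comb t0) p)
    (h1 : ∀ p, ofBits 681662 (f p) = ofBits (comb t1) p)
    (h2 : ∀ p, ofBits 1363324 (f p) = ofBits (comb t2) p)
    (h3 : ∀ p, ofBits 2726648 (f p) = ofBits (comb t3) p)
    (h4 : ∀ p, ofBits 5453296 (f p) = ofBits (comb t4) p)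
    (h5 : ∀ p, ofBits 2517985 (f p) = ofBits (comb t5) p)
    (h6 : ∀ p, ofBits 5035970 (f p) = ofBits (comb t6) p)
    (h7 : ∀ p, ofBits 1683333 (f p) = ofBits (comb t7) p)
    (h8 : ∀ p, ofBits 3366666 (f p) = ofBits (comb t8) p)
    (h9 : ∀ p, ofBits 6733332 (f p) = ofBits (comb t9) p)
    (h10 : ∀ p, ofBits 5078057 (f p) = ofBits (comb t10) p)
    (h11 : ∀ p, ofBits 16777215 (f p) = ofBits (comb t11) p)
    (c : ℕ) (p : GolayPt) :
    ofBits (comb c) (f p) = ofBits (comb (lin t0 t1 t2 t3 t4 t5 t6 t7 t8 t9 t10 t11 c)) p := by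
  have R : ofBits (comb (lin t0 t1 t2 t3 t4 t5 t6 t7 t8 t9 t10 t11 c)) p =
      ofBits (comb (bitAt c 0 * t0)) p + ofBits (comb (bitAt c 1 * t1)) p + ofBits (comb (bitAt
      c 2 * t2)) p + ofBits (comb (bitAt c 3 * t3)) p + ofBits (comb (bitAt c 4 * t4)) p +
      ofBits (comb (bitAt c 5 * t5)) p + ofBits (comb (bitAt c 6 * t6)) p + ofBits (comb (bitAt
      c 7 * t7)) p + ofBits (comb (bitAt c 8 * t8)) p + ofBits (comb (bitAt c 9 * t9)) p +
      ofBits (comb (bitAt c 10 * t10)) p + ofBits (comb (bitAt c 11 * t11)) p := by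
    simp only [lin, comb_xor, ofBits_xor_apply]
  have L : ofBits (comb c) (f p) =
      ofBits (bitAt c 0 * 340831) (f p) + ofBits (bitAt c 1 * 681662) (f p) + ofBits (bitAt c 2
      * 1363324) (f p) + ofBits (bitAt c 3 * 2726648) (f p) + ofBits (bitAt c 4 * 5453296) (f
      p) + ofBits (bitAt c 5 * 2517985) (f p) + ofBits (bitAt c 6 * 5035970) (f p) + ofBits
      (bitAt c 7 * 1683333) (f p) + ofBits (bitAt c 8 * 3366666) (f p) + ofBits (bitAt c 9 *
      6733332) (f p) + ofBits (bitAt c 10 * 5078057) (f p) + ofBits (bitAt c 11 * 16777215) (f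
      p) := by
    rw [comb_eq_lin]
    simp only [lin, ofBits_xor_apply]
  rw [R, L, pull_sel f h0, pull_sel f h1, pull_sel f h2, pull_sel f h3, pull_sel f h4, pull_sel f h5, pull_sel f h6, pull_sel f h7, pull_sel f h8, pull_sel f h9, pull_sel f h10, pull_sel f h11]

/-- The shift `x ↦ x + 1` as a function on the 24 points. -/
def fA : GolayPt → GolayPt := fun p => Equiv.optionCongr (Equiv.addRight (1 : ZMod 23)) p

/-- Coordinate form of the pullback along the shift. -/
def TA (c : ℕ) : ℕ := lin 1393 1 2 4 8 16 32 64 128 256 512 2048 c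

/-- Coordinate form of the pullback along `projInv`. -/
def TC (c : ℕ) : ℕ := lin 2049 1392 738 1469 823 2561 1594 2414 1684 33 2458 2048 c

/-- Coordinate form of the pullback along `cubeTwist`. -/
def TD (c : ℕ) : ℕ := lin 1 409 403 1222 12 1292 111 1302 516 80 1562 2048 c

theorem pull_A (c : ℕ) (p : GolayPt) : ofBits (comb c) (fA p) = ofBits (comb (TA c)) p :=
  pull_comb fA _ _ _ _ _ _ _ _ _ _ _ _
    (by decide +kernel : ∀ p, ofBits 340831 (fA p) = ofBits (comb 1393) p)
    (by decide +kernel : ∀ p, ofBits 681662 (fA p) = ofBits (comb 1) p)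
    (by decide +kernel : ∀ p, ofBits 1363324 (fA p) = ofBits (comb 2) p)
    (by decide +kernel : ∀ p, ofBits 2726648 (fA p) = ofBits (comb 4) p)
    (by decide +kernel : ∀ p, ofBits 5453296 (fA p) = ofBits (comb 8) p)
    (by decide +kernel : ∀ p, ofBits 2517985 (fA p) = ofBits (comb 16) p)
    (by decide +kernel : ∀ p, ofBits 5035970 (fA p) = ofBits (comb 32) p)
    (by decide +kernel : ∀ p, ofBits 1683333 (fA p) = ofBits (comb 64) p)
    (by decide +kernel : ∀ p, ofBits 3366666 (fA p) = ofBits (comb 128) p)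
    (by decide +kernel : ∀ p, ofBits 6733332 (fA p) = ofBits (comb 256) p)
    (by decide +kernel : ∀ p, ofBits 5078057 (fA p) = ofBits (comb 512) p)
    (by decide +kernel : ∀ p, ofBits 16777215 (fA p) = ofBits (comb 2048) p)
    c p

theorem pull_C (c : ℕ) (p : GolayPt) :
    ofBits (comb c) (projInvFun p) = ofBits (comb (TC c)) p :=
  pull_comb projInvFun _ _ _ _ _ _ _ _ _ _ _ _
    (by decide +kernel : ∀ p, ofBits 340831 (projInvFun p) = ofBits (comb 2049) p)
    (by decide +kernel : ∀ p, ofBits 681662 (projInvFun p) = ofBits (comb 1392) p)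
    (by decide +kernel : ∀ p, ofBits 1363324 (projInvFun p) = ofBits (comb 738) p)
    (by decide +kernel : ∀ p, ofBits 2726648 (projInvFun p) = ofBits (comb 1469) p)
    (by decide +kernel : ∀ p, ofBits 5453296 (projInvFun p) = ofBits (comb 823) p)
    (by decide +kernel : ∀ p, ofBits 2517985 (projInvFun p) = ofBits (comb 2561) p)
    (by decide +kernel : ∀ p, ofBits 5035970 (projInvFun p) = ofBits (comb 1594) p)
    (by decide +kernel : ∀ p, ofBits 1683333 (projInvFun p) = ofBits (comb 2414) p)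
    (by decide +kernel : ∀ p, ofBits 3366666 (projInvFun p) = ofBits (comb 1684) p)
    (by decide +kernel : ∀ p, ofBits 6733332 (projInvFun p) = ofBits (comb 33) p)
    (by decide +kernel : ∀ p, ofBits 5078057 (projInvFun p) = ofBits (comb 2458) p)
    (by decide +kernel : ∀ p, ofBits 16777215 (projInvFun p) = ofBits (comb 2048) p)
    c p

theorem pull_D (c : ℕ) (p : GolayPt) :
    ofBits (comb c) (cubeTwistFun p) = ofBits (comb (TD c)) p :=
  pull_comb cubeTwistFun _ _ _ _ _ _ _ _ _ _ _ _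
    (by decide +kernel : ∀ p, ofBits 340831 (cubeTwistFun p) = ofBits (comb 1) p)
    (by decide +kernel : ∀ p, ofBits 681662 (cubeTwistFun p) = ofBits (comb 409) p)
    (by decide +kernel : ∀ p, ofBits 1363324 (cubeTwistFun p) = ofBits (comb 403) p)
    (by decide +kernel : ∀ p, ofBits 2726648 (cubeTwistFun p) = ofBits (comb 1222) p)
    (by decide +kernel : ∀ p, ofBits 5453296 (cubeTwistFun p) = ofBits (comb 12) p)
    (by decide +kernel : ∀ p, ofBits 2517985 (cubeTwistFun p) = ofBits (comb 1292) p)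
    (by decide +kernel : ∀ p, ofBits 5035970 (cubeTwistFun p) = ofBits (comb 111) p)
    (by decide +kernel : ∀ p, ofBits 1683333 (cubeTwistFun p) = ofBits (comb 1302) p)
    (by decide +kernel : ∀ p, ofBits 3366666 (cubeTwistFun p) = ofBits (comb 516) p)
    (by decide +kernel : ∀ p, ofBits 6733332 (cubeTwistFun p) = ofBits (comb 80) p)
    (by decide +kernel : ∀ p, ofBits 5078057 (cubeTwistFun p) = ofBits (comb 1562) p)
    (by decide +kernel : ∀ p, ofBits 16777215 (cubeTwistFun p) = ofBits (comb 2048) p)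
    c p

theorem mem_M24_of_pull (σ : Equiv.Perm GolayPt) (T : ℕ → ℕ)
    (h : ∀ c p, ofBits (comb c) (σ p) = ofBits (comb (T c)) p) : σ ∈ M24 := by
  apply mem_M24_of_comp
  intro t
  obtain ⟨c, -, hc⟩ := exists_of_mem (qrWord_mem t)
  have h1 : qrWord t ∘ σ = ofBits (comb (T c)) := by
    funext p
    rw [Function.comp_apply, hc]
    exact h c p
  rw [h1]
  exact ofBits_comb_mem _

/-- `c'` is reachable from `c`: the corresponding supports are in one orbit of `M24`. -/
def Reach (c c' : ℕ) : Prop :=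
  ∃ g ∈ M24, support₂ (ofBits (comb c')) = g • support₂ (ofBits (comb c))

theorem reach_refl (c : ℕ) : Reach c c := ⟨1, one_mem _, (one_smul _ _).symm⟩

theorem reach_trans {a b c : ℕ} (h1 : Reach a b) (h2 : Reach b c) : Reach a c := by
  obtain ⟨g, hg, e1⟩ := h1
  obtain ⟨g', hg', e2⟩ := h2
  exact ⟨g' * g, mul_mem hg' hg, by rw [e2, e1, mul_smul]⟩

theorem reach_step (σ : Equiv.Perm GolayPt) (T : ℕ → ℕ)
    (h : ∀ c p, ofBits (comb c) (σ p) = ofBits (comb (T c)) p) (c : ℕ) : Reach c (T c) := by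
  refine ⟨σ⁻¹, inv_mem (mem_M24_of_pull σ T h), ?_⟩
  rw [inv_smul_support₂]
  have h1 : ofBits (comb (T c)) = ofBits (comb c) ∘ σ := funext fun p => (h c p).symm
  rw [h1]

theorem reach_TA (c : ℕ) : Reach c (TA c) :=
  reach_step (Equiv.optionCongr (Equiv.addRight (1 : ZMod 23))) TA pull_A c

theorem reach_TC (c : ℕ) : Reach c (TC c) := reach_step projInv TC pull_C c

theorem reach_TD (c : ℕ) : Reach c (TD c) := reach_step cubeTwist TD pull_D c

/-- One step of a word: digit 1, 2, 3 selects the generator. -/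
def stepW (d c : ℕ) : ℕ := cond (Nat.beq d 1) (TA c) (cond (Nat.beq d 2) (TC c) (TD c))

/-- Apply a word (base-4 digits, least significant first) to a coordinate. -/
def applyW : ℕ → ℕ → ℕ → ℕ
  | 0, _, c => c
  | f + 1, w, c => cond (Nat.beq w 0) c (applyW f (w / 4) (stepW (w % 4) c))

theorem reach_stepW (d c : ℕ) : Reach c (stepW d c) := by
  unfold stepW
  cases Nat.beq d 1
  · cases Nat.beq d 2
    · exact reach_TD c
    · exact reach_TC c
  · exact reach_TA c

theorem reach_applyW (f : ℕ) : ∀ (w c : ℕ), Reach c (applyW f w c) := by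
  induction f with
  | zero =>
    intro w c
    exact reach_refl c
  | succ f ih =>
    intro w c
    show Reach c (cond (Nat.beq w 0) c (applyW f (w / 4) (stepW (w % 4) c)))
    cases Nat.beq w 0
    · exact reach_trans (reach_stepW _ c) (ih _ _)
    · exact reach_refl c

/-- Mark all coordinates reached by the words of a list in a bit mask. -/
def walkAll (c0 : ℕ) : List ℕ → ℕ → ℕ
  | [], v => v
  | w :: ws, v => walkAll c0 ws (v ||| (1 <<< applyW 16 w c0))

theorem walkAll_testBit (c0 : ℕ) (ws : List ℕ) : ∀ (v j : ℕ),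
    (walkAll c0 ws v).testBit j = true → v.testBit j = true ∨ Reach c0 j := by
  induction ws with
  | nil =>
    intro v j h
    exact Or.inl h
  | cons w ws ih =>
    intro v j h
    change (walkAll c0 ws (v ||| (1 <<< applyW 16 w c0))).testBit j = true at h
    rcases ih _ j h with h1 | h1
    · rw [Nat.testBit_or, Bool.or_eq_true] at h1
      rcases h1 with h1 | h1
      · exact Or.inl h1
      · right
        rw [Nat.one_shiftLeft, Nat.testBit_two_pow] at h1
        have h2 : applyW 16 w c0 = j := of_decide_eq_true h1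
        rw [← h2]
        exact reach_applyW _ _ _
    · exact Or.inr h1

/-- The certificate check: every coordinate of weight `n` is marked. -/
def covers (n c0 : ℕ) (cert : List ℕ) : Bool :=
  (List.range 4096).all
    (fun c => cond (Nat.beq (popc (comb c)) n) ((walkAll c0 cert 0).testBit c) true)

theorem reach_of_covers (n c0 : ℕ) (cert : List ℕ) (h : covers n c0 cert = true) (c : ℕ)
    (hc : c < 4096) (hp : popc (comb c) = n) : Reach c0 c := by
  have h1 := List.all_eq_true.mp h c (List.mem_range.mpr hc)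
  rw [hp, Nat.beq_refl, cond_true] at h1
  rcases walkAll_testBit c0 cert 0 c h1 with h2 | h2
  · rw [Nat.zero_testBit] at h2
    exact absurd h2 (by decide)
  · exact h2

theorem transitive_of_covers (n c0 : ℕ) (cert : List ℕ) (h : covers n c0 cert = true)
    (o o' : Finset GolayPt) (ho : o ∈ wordsOfWeight (golayCode : Set (GolayPt → ZMod 2)) n)
    (ho' : o' ∈ wordsOfWeight (golayCode : Set (GolayPt → ZMod 2)) n) :
    ∃ g : M24, g • o = o' := by
  rw [wordsOfWeight_eq] at ho ho'
  obtain ⟨c, hc, rfl⟩ := ho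
  obtain ⟨c', hc', rfl⟩ := ho'
  rw [Finset.mem_coe, Finset.mem_filter, Finset.mem_range] at hc hc'
  obtain ⟨g, hg, h1⟩ := reach_of_covers n c0 cert h c hc.1 hc.2
  obtain ⟨g', hg', h2⟩ := reach_of_covers n c0 cert h c' hc'.1 hc'.2
  refine ⟨⟨g' * g⁻¹, mul_mem hg' (inv_mem hg)⟩, ?_⟩
  show (g' * g⁻¹) • support₂ (ofBits (comb c)) = support₂ (ofBits (comb c'))
  rw [h1, h2, mul_smul, inv_smul_smul]

end Cfsg.Agent.Helper1.Golay
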