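import Mathlib
import Cfsg.Agent.Helper1.Golay5

set_option autoImplicit false

namespace Cfsg.Agent.Helper1.Golay

open Cfsg
open scoped Pointwise

/-! ### Points as positions -/

/-- The point with a given position. -/
def unpos (i : ℕ) : GolayPt := if i < 23 then some (i : ZMod 23) else none

theorem pos_unpos : ∀ i < 24, pos (unpos i) = i := by decide +kernel

theorem unpos_pos : ∀ p : GolayPt, unpos (pos p) = p := by decide +kernel

/-- Lookup in a permutation table packed in base 32. -/
def look (tbl i : ℕ) : ℕ := (tbl >>> (5 * i)) &&& 31

/-- Table of the shift. -/
def tblA : ℕ := 956302485175575353788796878166559809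

/-- Table of `projInv`. -/
def tblC : ℕ := 1795248432537898728475572672376535

/-- Table of `cubeTwist`. -/
def tblD : ℕ := 974380510768821363662145534143076928

/-- The shift `x ↦ x + 1` as a permutation. -/
def permA : Equiv.Perm GolayPt := Equiv.optionCongr (Equiv.addRight (1 : ZMod 23))

theorem pos_permA : ∀ p : GolayPt, pos (permA p) = look tblA (pos p) := by decide +kernel

theorem pos_projInv : ∀ p : GolayPt, pos (projInvFun p) = look tblC (pos p) := by
  decide +kernel

theorem pos_cubeTwist : ∀ p : GolayPt, pos (cubeTwistFun p) = look tblD (pos p) := by
  decide +kernel

/-- One letter of a word acting on positions. -/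
def stepP (d i : ℕ) : ℕ :=
  cond (Nat.beq d 1) (look tblA i) (cond (Nat.beq d 2) (look tblC i) (look tblD i))

/-- A word (base-4 digits, least significant first) acting on positions. -/
def actW : ℕ → ℕ → ℕ → ℕ
  | 0, _, i => i
  | f + 1, w, i => cond (Nat.beq w 0) i (actW f (w / 4) (stepP (w % 4) i))

/-- The permutation of a letter. -/
noncomputable def genP (d : ℕ) : Equiv.Perm GolayPt :=
  cond (Nat.beq d 1) permA (cond (Nat.beq d 2) projInv cubeTwist)

/-- The permutation of a word. -/
noncomputable def elemW : ℕ → ℕ → Equiv.Perm GolayPt
  | 0, _ => 1
  | f + 1, w => cond (Nat.beq w 0) 1 (elemW f (w / 4) * genP (w % 4))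

/-- The subgroup generated by the three permutations. -/
def genGroup : Subgroup (Equiv.Perm GolayPt) :=
  Subgroup.closure {Equiv.optionCongr (Equiv.addRight (1 : ZMod 23)), projInv, cubeTwist}

theorem permA_mem : permA ∈ genGroup := Subgroup.subset_closure (by simp [permA])

theorem projInv_mem : projInv ∈ genGroup := Subgroup.subset_closure (by simp)

theorem cubeTwist_mem : cubeTwist ∈ genGroup := Subgroup.subset_closure (by simp)

theorem genGroup_le : genGroup ≤ M24 := by
  rw [genGroup, Subgroup.closure_le]
  intro g hg
  rcases hg with rfl | rfl | hg
  · exact mem_M24_of_pull (Equiv.optionCongr (Equiv.addRight (1 : ZMod 23))) TA pull_A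
  · exact mem_M24_of_pull projInv TC pull_C
  · rw [Set.mem_singleton_iff.mp hg]
    exact mem_M24_of_pull cubeTwist TD pull_D

theorem genP_mem (d : ℕ) : genP d ∈ genGroup := by
  unfold genP
  cases Nat.beq d 1
  · cases Nat.beq d 2
    · exact cubeTwist_mem
    · exact projInv_mem
  · exact permA_mem

theorem elemW_mem (f : ℕ) : ∀ w : ℕ, elemW f w ∈ genGroup := by
  induction f with
  | zero =>
    intro w
    exact one_mem _
  | succ f ih =>
    intro w
    show cond (Nat.beq w 0) 1 (elemW f (w / 4) * genP (w % 4)) ∈ genGroup
    cases Nat.beq w 0
    · exact mul_mem (ih _) (genP_mem _)
    · exact one_mem _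

theorem pos_genP (d : ℕ) (p : GolayPt) : pos (genP d p) = stepP d (pos p) := by
  unfold genP stepP
  cases Nat.beq d 1
  · cases Nat.beq d 2
    · exact pos_cubeTwist p
    · exact pos_projInv p
  · exact pos_permA p

theorem pos_elemW (f : ℕ) : ∀ (w : ℕ) (p : GolayPt), pos (elemW f w p) = actW f w (pos p) := by
  induction f with
  | zero =>
    intro w p
    rfl
  | succ f ih =>
    intro w p
    show pos ((cond (Nat.beq w 0) 1 (elemW f (w / 4) * genP (w % 4)) : Equiv.Perm GolayPt) p)
      = cond (Nat.beq w 0) (pos p) (actW f (w / 4) (stepP (w % 4) (pos p)))
    cases Nat.beq w 0
    · show pos (elemW f (w / 4) (genP (w % 4) p)) = actW f (w / 4) (stepP (w % 4) (pos p))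
      rw [ih, pos_genP]
    · rfl

/-! ### Levels of the stabilizer chain -/

/-- The `i`-th word of a packed list of words. -/
def slot (W i : ℕ) : ℕ := (W >>> (64 * i)) &&& 18446744073709551615

/-- Check of one level: for each allowed position `i` the `i`-th word maps `i` to `β` and
fixes the positions in `βs`. -/
def chkLevel (βs : List ℕ) (β W mask : ℕ) : Bool :=
  (List.range 24).all (fun i => cond (Nat.beq ((mask >>> i) &&& 1) 1)
    (Nat.beq (actW 32 (slot W i) i) β && βs.all (fun j => Nat.beq (actW 32 (slot W i) j) j))
    true)

theorem level_sound (βs : List ℕ) (β W mask : ℕ) (h : chkLevel βs β W mask = true) (i : ℕ)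
    (hi : i < 24) (hm : (mask >>> i) &&& 1 = 1) :
    ∃ g ∈ genGroup, pos (g (unpos i)) = β ∧ ∀ j ∈ βs, j < 24 → pos (g (unpos j)) = j := by
  have h1 := List.all_eq_true.mp h i (List.mem_range.mpr hi)
  rw [hm, Nat.beq_refl, cond_true, Bool.and_eq_true] at h1
  refine ⟨elemW 32 (slot W i), elemW_mem _ _, ?_, ?_⟩
  · rw [pos_elemW, pos_unpos i hi]
    exact Nat.eq_of_beq_eq_true h1.1
  · intro j hj hj24
    rw [pos_elemW, pos_unpos j hj24]
    exact Nat.eq_of_beq_eq_true (List.all_eq_true.mp h1.2 j hj)

/-- Packed words of level 1 of the stabilizer chain. -/
def lvlW1 : ℕ := 261326596963659217570560340447456000819822227706692218879092603787734040326867422662655934525222392925855310071728731327018625365580226022471082913666801481258083479117925596719030273822316965816513762271368649776801032732859053832281815807384617921082689351169476506233013255671950389168739170212070679214815818850433115253145203695686956728652983983448172108326477485987417824454091448080736168115558905632391935475134262653851630037079425024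

/-- Packed words of level 2 of the stabilizer chain. -/
def lvlW2 : ℕ := 530101001940782722833682763716143211497315929135120571665574431383685692924859364117333798649322472115397333984388563980374462402861356547990833925039968666515459795533201388579498672985811637112329835138460488926732127982152769973722755622163667729760930948384347748619383116864890615149587685377113471264990946265569413241290549556096531016506490197006482101175469963760221451628123254820617344110913630455481834995854967207372898327997660004352

/-- Packed words of level 3 of the stabilizer chain. -/
def lvlW3 : ℕ := 473978109986971823774822482203378429608236430575919222532874392281658781564363749587534592533784991734735805711506694577693123784287613852232439853535219870519604841007202298479698932820562186347127128631658660370545383214858089534897847494655836468741408192285189281490379737489834748335915732910115989990800077611748508904343245215022974992829972175163996850299144736948377035681627100542371775068523230191670282688685859818322794941510641394909184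

/-- Packed words of level 4 of the stabilizer chain. -/
def lvlW4 : ℕ := 1022689877520416984453479307156373111054651245463386567605211176741632970207734569834924987189594547908313407948125218546644230397267959860170724596210746560727148560975101756475724105131746972892435810738837445262270620795493678717076964201232645883442501995494170489697294641588693959054766137914200769357934697024465071887878647425590050110984296066752095663839462545594274955210476060367760235163416352613298056712493303501700669136442688112951296

/-- Packed words of level 5 of the stabilizer chain. -/
def lvlW5 : ℕ := 3608283365174882955999089236835451509525094167655740994458291403628134213361572630762786626032607615658740437097412652190062072417013729734322021931934525949976229402586893381428012244006787736672862429285996966155848896517403986909160924125260110333724605235476809548634280975577435105617047021648447213854597788501863523706866148140481763506866675587777871413300256896902734242560061111894628920069638224815424586547526991866225406395247884417961558016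

/-- Packed words of level 6 of the stabilizer chain. -/
def lvlW6 : ℕ := 602908424827395422206421277244089788802527709268642084689942208258775223691381479232228226320976647165866216217796269113824306696824881620774625855880095878599505202232687019224262456607727943607235596534179693764346108534175618542991459221518674991664559287751652176565780692150579476596089425202487869457328183770814991888038447162021575502597085887288113802690007210472299463245518435958710157372209204660535296

/-- Packed words of level 7 of the stabilizer chain. -/
def lvlW7 : ℕ := 1430743331143973356504846459963495821675449986118132383120946188694174074496070589402570636881346171043856709257250825198834573888922887527561521268514264431577161246059060679778633920391638430645141935613464787783187936479159198799054552230747352820300580471831730604263648873674553178591420629645678872556195845181635105478464460015655150293126191405027064451834852941689296557444399430444592730535420866787123673146486164089947077366005203047471801958400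

theorem lvl1_check : chkLevel [] 0 lvlW1 16777215 = true := by
  decide +kernel

theorem lvl2_check : chkLevel [0] 2 lvlW2 16777214 = true := by
  decide +kernel

theorem lvl3_check : chkLevel [0, 2] 5 lvlW3 16777210 = true := by
  decide +kernel

theorem lvl4_check : chkLevel [0, 2, 5] 6 lvlW4 16777178 = true := by
  decide +kernel

theorem lvl5_check : chkLevel [0, 2, 5, 6] 9 lvlW5 16777114 = true := by
  decide +kernel

theorem lvl6_check : chkLevel [0, 2, 5, 6, 9] 17 lvlW6 3276800 = true := by
  decide +kernel

theorem lvl7_check : chkLevel [0, 2, 5, 6, 9, 17] 1 lvlW7 13499802 = true := by
  decide +kernel

end Cfsg.Agent.Helper1.Golay
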