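import Mathlib
import Cfsg.Agent.Helper1.Golay6

set_option autoImplicit false

namespace Cfsg.Agent.Helper1.Golay

open Cfsg
open scoped Pointwise

/-- The base points of the stabilizer chain. -/
def bp (k : ℕ) : GolayPt := unpos ([0, 2, 5, 6, 9, 17, 1].getD k 0)

theorem level_pts (βs : List ℕ) (β W mask : ℕ) (h : chkLevel βs β W mask = true) (hβ : β < 24)
    (q : GolayPt) (hm : (mask >>> pos q) &&& 1 = 1) :
    ∃ g ∈ genGroup, g q = unpos β ∧ ∀ j ∈ βs, j < 24 → g (unpos j) = unpos j := by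
  obtain ⟨g, hg, e, f⟩ := level_sound βs β W mask h (pos q) (pos_lt q) hm
  rw [unpos_pos] at e
  refine ⟨g, hg, ?_, ?_⟩
  · apply pos_injective
    rw [e, pos_unpos β hβ]
  · intro j hj hj24
    apply pos_injective
    rw [f j hj hj24, pos_unpos j hj24]

theorem mask1_ok : ∀ q : GolayPt, (16777215 >>> pos q) &&& 1 = 1 := by
  decide +kernel

theorem mask2_ok : ∀ q : GolayPt, q ≠ bp 0 → (16777214 >>> pos q) &&& 1 = 1 := by
  decide +kernel

theorem mask3_ok : ∀ q : GolayPt, q ≠ bp 0 → q ≠ bp 1 → (16777210 >>> pos q) &&& 1 = 1 := by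
  decide +kernel

theorem mask4_ok : ∀ q : GolayPt, q ≠ bp 0 → q ≠ bp 1 → q ≠ bp 2 → (16777178 >>> pos q) &&& 1 = 1 := by
  decide +kernel

theorem mask5_ok : ∀ q : GolayPt, q ≠ bp 0 → q ≠ bp 1 → q ≠ bp 2 → q ≠ bp 3 → (16777114 >>> pos q) &&& 1 = 1 := by
  decide +kernel

theorem mask6_ok : ∀ q : GolayPt, (comb 15).testBit (pos q) = true → q ≠ bp 0 → q ≠ bp 1 → q ≠ bp 2 → q ≠ bp 3 → q ≠ bp 4 → 
    (3276800 >>> pos q) &&& 1 = 1 := by
  decide +kernel

theorem mask7_ok : ∀ q : GolayPt, (comb 15).testBit (pos q) = false →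
    (13499802 >>> pos q) &&& 1 = 1 := by
  decide +kernel

theorem lvl1_pts (q : GolayPt) (hm : (16777215 >>> pos q) &&& 1 = 1) :
    ∃ h ∈ genGroup, h q = bp 0 ∧ ∀ i < 0, h (bp i) = bp i := by
  obtain ⟨g, hg, e, f⟩ := level_pts _ _ _ _ lvl1_check (by norm_num) q hm
  refine ⟨g, hg, e, ?_⟩
  intro i hi
  exact absurd hi (Nat.not_lt_zero i)

theorem lvl2_pts (q : GolayPt) (hm : (16777214 >>> pos q) &&& 1 = 1) :
    ∃ h ∈ genGroup, h q = bp 1 ∧ ∀ i < 1, h (bp i) = bp i := by
  obtain ⟨g, hg, e, f⟩ := level_pts _ _ _ _ lvl2_check (by norm_num) q hm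
  refine ⟨g, hg, e, ?_⟩
  intro i hi
  interval_cases i
  · exact f 0 (by simp) (by norm_num)

theorem lvl3_pts (q : GolayPt) (hm : (16777210 >>> pos q) &&& 1 = 1) :
    ∃ h ∈ genGroup, h q = bp 2 ∧ ∀ i < 2, h (bp i) = bp i := by
  obtain ⟨g, hg, e, f⟩ := level_pts _ _ _ _ lvl3_check (by norm_num) q hm
  refine ⟨g, hg, e, ?_⟩
  intro i hi
  interval_cases i
  · exact f 0 (by simp) (by norm_num)
  · exact f 2 (by simp) (by norm_num)

theorem lvl4_pts (q : GolayPt) (hm : (16777178 >>> pos q) &&& 1 = 1) :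
    ∃ h ∈ genGroup, h q = bp 3 ∧ ∀ i < 3, h (bp i) = bp i := by
  obtain ⟨g, hg, e, f⟩ := level_pts _ _ _ _ lvl4_check (by norm_num) q hm
  refine ⟨g, hg, e, ?_⟩
  intro i hi
  interval_cases i
  · exact f 0 (by simp) (by norm_num)
  · exact f 2 (by simp) (by norm_num)
  · exact f 5 (by simp) (by norm_num)

theorem lvl5_pts (q : GolayPt) (hm : (16777114 >>> pos q) &&& 1 = 1) :
    ∃ h ∈ genGroup, h q = bp 4 ∧ ∀ i < 4, h (bp i) = bp i := by
  obtain ⟨g, hg, e, f⟩ := level_pts _ _ _ _ lvl5_check (by norm_num) q hm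
  refine ⟨g, hg, e, ?_⟩
  intro i hi
  interval_cases i
  · exact f 0 (by simp) (by norm_num)
  · exact f 2 (by simp) (by norm_num)
  · exact f 5 (by simp) (by norm_num)
  · exact f 6 (by simp) (by norm_num)

theorem lvl6_pts (q : GolayPt) (hm : (3276800 >>> pos q) &&& 1 = 1) :
    ∃ h ∈ genGroup, h q = bp 5 ∧ ∀ i < 5, h (bp i) = bp i := by
  obtain ⟨g, hg, e, f⟩ := level_pts _ _ _ _ lvl6_check (by norm_num) q hm
  refine ⟨g, hg, e, ?_⟩
  intro i hi
  interval_cases i
  · exact f 0 (by simp) (by norm_num)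
  · exact f 2 (by simp) (by norm_num)
  · exact f 5 (by simp) (by norm_num)
  · exact f 6 (by simp) (by norm_num)
  · exact f 9 (by simp) (by norm_num)

theorem lvl7_pts (q : GolayPt) (hm : (13499802 >>> pos q) &&& 1 = 1) :
    ∃ h ∈ genGroup, h q = bp 6 ∧ ∀ i < 6, h (bp i) = bp i := by
  obtain ⟨g, hg, e, f⟩ := level_pts _ _ _ _ lvl7_check (by norm_num) q hm
  refine ⟨g, hg, e, ?_⟩
  intro i hi
  interval_cases i
  · exact f 0 (by simp) (by norm_num)
  · exact f 2 (by simp) (by norm_num)
  · exact f 5 (by simp) (by norm_num)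
  · exact f 6 (by simp) (by norm_num)
  · exact f 9 (by simp) (by norm_num)
  · exact f 17 (by simp) (by norm_num)

theorem ncard_lvl1 : {q : GolayPt | (16777215 >>> pos q) &&& 1 = 1}.ncard = 24 := by
  have h : {q : GolayPt | (16777215 >>> pos q) &&& 1 = 1}
      = ↑(Finset.univ.filter (fun q : GolayPt => (16777215 >>> pos q) &&& 1 = 1)) := by
    ext q
    simp
  rw [h, Set.ncard_coe_finset]
  decide +kernel

theorem ncard_lvl2 : {q : GolayPt | (16777214 >>> pos q) &&& 1 = 1}.ncard = 23 := by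
  have h : {q : GolayPt | (16777214 >>> pos q) &&& 1 = 1}
      = ↑(Finset.univ.filter (fun q : GolayPt => (16777214 >>> pos q) &&& 1 = 1)) := by
    ext q
    simp
  rw [h, Set.ncard_coe_finset]
  decide +kernel

theorem ncard_lvl3 : {q : GolayPt | (16777210 >>> pos q) &&& 1 = 1}.ncard = 22 := by
  have h : {q : GolayPt | (16777210 >>> pos q) &&& 1 = 1}
      = ↑(Finset.univ.filter (fun q : GolayPt => (16777210 >>> pos q) &&& 1 = 1)) := by
    ext q
    simp
  rw [h, Set.ncard_coe_finset]
  decide +kernel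

theorem ncard_lvl4 : {q : GolayPt | (16777178 >>> pos q) &&& 1 = 1}.ncard = 21 := by
  have h : {q : GolayPt | (16777178 >>> pos q) &&& 1 = 1}
      = ↑(Finset.univ.filter (fun q : GolayPt => (16777178 >>> pos q) &&& 1 = 1)) := by
    ext q
    simp
  rw [h, Set.ncard_coe_finset]
  decide +kernel

theorem ncard_lvl5 : {q : GolayPt | (16777114 >>> pos q) &&& 1 = 1}.ncard = 20 := by
  have h : {q : GolayPt | (16777114 >>> pos q) &&& 1 = 1}
      = ↑(Finset.univ.filter (fun q : GolayPt => (16777114 >>> pos q) &&& 1 = 1)) := by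
    ext q
    simp
  rw [h, Set.ncard_coe_finset]
  decide +kernel

theorem ncard_lvl6 : {q : GolayPt | (3276800 >>> pos q) &&& 1 = 1}.ncard = 3 := by
  have h : {q : GolayPt | (3276800 >>> pos q) &&& 1 = 1}
      = ↑(Finset.univ.filter (fun q : GolayPt => (3276800 >>> pos q) &&& 1 = 1)) := by
    ext q
    simp
  rw [h, Set.ncard_coe_finset]
  decide +kernel

theorem ncard_lvl7 : {q : GolayPt | (13499802 >>> pos q) &&& 1 = 1}.ncard = 16 := by
  have h : {q : GolayPt | (13499802 >>> pos q) &&& 1 = 1}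
      = ↑(Finset.univ.filter (fun q : GolayPt => (13499802 >>> pos q) &&& 1 = 1)) := by
    ext q
    simp
  rw [h, Set.ncard_coe_finset]
  decide +kernel

/-! ### Rigidity: a permutation of the code fixing the seven base points is trivial -/

theorem mem_support₂_ofBits (n : ℕ) (p : GolayPt) :
    p ∈ support₂ (ofBits n) ↔ n.testBit (pos p) = true := by
  rw [mem_support₂, ofBits]
  cases n.testBit (pos p) <;> simp

/-- `g` fixes every point whose bit is set in `F`. -/
def FixesMask (g : Equiv.Perm GolayPt) (F : ℕ) : Prop :=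
  ∀ p : GolayPt, F.testBit (pos p) = true → g p = p

theorem smul_octad_mem {g : Equiv.Perm GolayPt} (hg : g ∈ M24) {U : Finset GolayPt}
    (hU : U ∈ octads) : g • U ∈ octads := by
  rw [M24_eq_octad_aut, setSystemAut, MulAction.mem_stabilizer_set' (Set.toFinite _)] at hg
  exact hg hU

theorem octad_invariant {g : Equiv.Perm GolayPt} (hg : g ∈ M24) {F : ℕ} (hF : FixesMask g F)
    (c : ℕ) (h8 : popc (comb c) = 8) (h5 : 5 ≤ popc (comb c &&& F)) :
    g • support₂ (ofBits (comb c)) = support₂ (ofBits (comb c)) := by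
  have hU : support₂ (ofBits (comb c)) ∈ octads :=
    ⟨⟨_, ofBits_comb_mem c, rfl⟩, by rw [card_support₂, hammingNorm_ofBits, h8]⟩
  apply octads_unique (smul_octad_mem hg hU) hU
  have hs : (support₂ (ofBits (comb c &&& F))).card = popc (comb c &&& F) := by
    rw [card_support₂, hammingNorm_ofBits]
  rw [← hs] at h5
  refine le_trans h5 (Finset.card_le_card ?_)
  intro p hp
  rw [mem_support₂_ofBits, Nat.testBit_and, Bool.and_eq_true] at hp
  have hpU : p ∈ support₂ (ofBits (comb c)) := (mem_support₂_ofBits _ _).mpr hp.1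
  rw [Finset.mem_inter]
  refine ⟨?_, hpU⟩
  have h1 : g • p ∈ g • support₂ (ofBits (comb c)) := Finset.smul_mem_smul_finset hpU
  rw [Equiv.Perm.smul_def, hF p hp.2] at h1
  exact h1

theorem testBit_of_invariant {g : Equiv.Perm GolayPt} {n : ℕ}
    (hinv : g • support₂ (ofBits n) = support₂ (ofBits n)) {p : GolayPt}
    (hp : n.testBit (pos p) = true) : n.testBit (pos (g p)) = true := by
  rw [← mem_support₂_ofBits] at hp ⊢
  have h1 : g • p ∈ g • support₂ (ofBits n) := Finset.smul_mem_smul_finset hp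
  rw [hinv] at h1
  exact h1

theorem allOnes_testBit : ∀ p : GolayPt, (16777215 : ℕ).testBit (pos p) = true := by
  decide +kernel

theorem fix_step {g : Equiv.Perm GolayPt} (hg : g ∈ M24) {F : ℕ} (hF : FixesMask g F)
    (c c' : ℕ) (h8 : popc (comb c) = 8) (h8' : popc (comb c') = 8)
    (h5 : 5 ≤ popc (comb c &&& F)) (h5' : 5 ≤ popc (comb c' &&& F))
    (hN : popc (comb c &&& comb c' &&& (16777215 ^^^ F)) = 1) :
    FixesMask g (F ||| (comb c &&& comb c' &&& (16777215 ^^^ F))) := by
  intro p hp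
  rw [Nat.testBit_or, Bool.or_eq_true] at hp
  rcases hp with hp | hp
  · exact hF p hp
  · have hpN := hp
    rw [Nat.testBit_and, Nat.testBit_and, Nat.testBit_xor, Bool.and_eq_true,
      Bool.and_eq_true, allOnes_testBit] at hp
    obtain ⟨⟨hc, hc'⟩, hFp⟩ := hp
    have hFp' : F.testBit (pos p) = false := by
      cases h : F.testBit (pos p)
      · rfl
      · rw [h] at hFp
        exact absurd hFp (by decide)
    have hgc := testBit_of_invariant (octad_invariant hg hF c h8 h5) hc
    have hgc' := testBit_of_invariant (octad_invariant hg hF c' h8' h5') hc'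
    have hgF : F.testBit (pos (g p)) = false := by
      cases h : F.testBit (pos (g p))
      · rfl
      · have h1 := hF (g p) h
        have h2 := g.injective h1
        rw [h2] at h
        rw [h] at hFp'
        exact absurd hFp' (by decide)
    have hgN : (comb c &&& comb c' &&& (16777215 ^^^ F)).testBit (pos (g p)) = true := by
      rw [Nat.testBit_and, Nat.testBit_and, Nat.testBit_xor, allOnes_testBit, hgc, hgc', hgF]
      rfl
    rw [popc_eq_card, Finset.card_eq_one] at hN
    obtain ⟨a, ha⟩ := hN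
    have m1 : pos (g p) ∈ (Finset.range 24).filter
        (fun i => (comb c &&& comb c' &&& (16777215 ^^^ F)).testBit i = true) :=
      Finset.mem_filter.mpr ⟨Finset.mem_range.mpr (pos_lt _), hgN⟩
    have m2 : pos p ∈ (Finset.range 24).filter
        (fun i => (comb c &&& comb c' &&& (16777215 ^^^ F)).testBit i = true) :=
      Finset.mem_filter.mpr ⟨Finset.mem_range.mpr (pos_lt _), hpN⟩
    rw [ha, Finset.mem_singleton] at m1 m2
    exact pos_injective (m1.trans m2.symm)

/-- One propagation step: two octads with at least five fixed points each whose intersection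
contains exactly one further point. -/
def fixStep2 (F c c' : ℕ) : ℕ :=
  cond (Nat.beq (popc (comb c)) 8 && (Nat.beq (popc (comb c')) 8
      && (Nat.ble 5 (popc (comb c &&& F)) && (Nat.ble 5 (popc (comb c' &&& F))
      && Nat.beq (popc (comb c &&& comb c' &&& (16777215 ^^^ F))) 1))))
    (F ||| (comb c &&& comb c' &&& (16777215 ^^^ F))) 0

/-- Fold the propagation steps over a list of packed pairs. -/
def propFix : List ℕ → ℕ → ℕ
  | [], F => F
  | cc :: rest, F => propFix rest (fixStep2 F (cc % 4096) (cc / 4096))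

theorem fixStep2_sound {g : Equiv.Perm GolayPt} (hg : g ∈ M24) {F : ℕ} (hF : FixesMask g F)
    (c c' : ℕ) : FixesMask g (fixStep2 F c c') := by
  unfold fixStep2
  cases hv : (Nat.beq (popc (comb c)) 8 && (Nat.beq (popc (comb c')) 8
      && (Nat.ble 5 (popc (comb c &&& F)) && (Nat.ble 5 (popc (comb c' &&& F))
      && Nat.beq (popc (comb c &&& comb c' &&& (16777215 ^^^ F))) 1))))
  · intro p hp
    rw [cond_false, Nat.zero_testBit] at hp
    exact absurd hp (by decide)
  · rw [cond_true]
    rw [Bool.and_eq_true, Bool.and_eq_true, Bool.and_eq_true, Bool.and_eq_true] at hv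
    obtain ⟨v1, v2, v3, v4, v5⟩ := hv
    exact fix_step hg hF c c' (Nat.eq_of_beq_eq_true v1) (Nat.eq_of_beq_eq_true v2)
      (Nat.le_of_ble_eq_true v3) (Nat.le_of_ble_eq_true v4) (Nat.eq_of_beq_eq_true v5)

theorem propFix_sound {g : Equiv.Perm GolayPt} (hg : g ∈ M24) (steps : List ℕ) :
    ∀ F : ℕ, FixesMask g F → propFix steps F = 16777215 → g = 1 := by
  induction steps with
  | nil =>
    intro F hF h
    change F = 16777215 at h
    rw [h] at hF
    ext p
    rw [hF p (allOnes_testBit p)]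
    rfl
  | cons cc rest ih =>
    intro F hF h
    exact ih _ (fixStep2_sound hg hF _ _) h

/-- The propagation certificate. -/
def rigCert : List ℕ := [274473, 868367, 61455, 1929254, 155686, 548931, 274499, 548883, 573459, 77843, 143390, 192542, 122910, 192547, 143395, 192559, 8493081]

theorem rigCert_check : propFix rigCert 131687 = 16777215 := by decide +kernel

theorem base_of_testBit : ∀ p : GolayPt, (131687 : ℕ).testBit (pos p) = true →
    p = bp 0 ∨ p = bp 1 ∨ p = bp 2 ∨ p = bp 3 ∨ p = bp 4 ∨ p = bp 5 ∨ p = bp 6 := by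
  decide +kernel

theorem base5_of_testBit : ∀ p : GolayPt, (613 : ℕ).testBit (pos p) = true →
    p = bp 0 ∨ p = bp 1 ∨ p = bp 2 ∨ p = bp 3 ∨ p = bp 4 := by
  decide +kernel

theorem rigid {g : Equiv.Perm GolayPt} (hg : g ∈ M24) (h : ∀ i < 7, g (bp i) = bp i) : g = 1 := by
  apply propFix_sound hg rigCert 131687 ?_ rigCert_check
  intro p hp
  rcases base_of_testBit p hp with rfl | rfl | rfl | rfl | rfl | rfl | rfl
  · exact h 0 (by norm_num)
  · exact h 1 (by norm_num)
  · exact h 2 (by norm_num)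
  · exact h 3 (by norm_num)
  · exact h 4 (by norm_num)
  · exact h 5 (by norm_num)
  · exact h 6 (by norm_num)

/-! ### The stabilizer chain and the order -/

theorem card_eq_orbit_mul {α : Type*} [Finite α] (K : Subgroup (Equiv.Perm α)) (a : α) :
    Nat.card K = {x | ∃ g ∈ K, g a = x}.ncard
      * Nat.card ↥(K ⊓ MulAction.stabilizer (Equiv.Perm α) a) := by
  have h := Subgroup.card_mul_index (MulAction.stabilizer K a)
  rw [MulAction.index_stabilizer] at h
  have e1 : MulAction.orbit K a = {x | ∃ g ∈ K, g a = x} := by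
    ext x
    constructor
    · rintro ⟨⟨g, hg⟩, rfl⟩
      exact ⟨g, hg, rfl⟩
    · rintro ⟨g, hg, rfl⟩
      exact ⟨⟨g, hg⟩, rfl⟩
  have e2 : Nat.card (MulAction.stabilizer K a)
      = Nat.card ↥(K ⊓ MulAction.stabilizer (Equiv.Perm α) a) := by
    apply Nat.card_congr
    exact
      { toFun := fun g => ⟨g.1.1, Subgroup.mem_inf.mpr ⟨g.1.2, g.2⟩⟩
        invFun := fun g => ⟨⟨g.1, (Subgroup.mem_inf.mp g.2).1⟩, (Subgroup.mem_inf.mp g.2).2⟩
        left_inv := fun g => rfl
        right_inv := fun g => rfl }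
  rw [← h, e1, e2, mul_comm]

/-- The chain of stabilizers of the base points inside a subgroup `K`. -/
def chainGrp (K : Subgroup (Equiv.Perm GolayPt)) : ℕ → Subgroup (Equiv.Perm GolayPt)
  | 0 => K
  | j + 1 => chainGrp K j ⊓ MulAction.stabilizer (Equiv.Perm GolayPt) (bp j)

theorem mem_chainGrp (K : Subgroup (Equiv.Perm GolayPt)) (j : ℕ) (g : Equiv.Perm GolayPt) :
    g ∈ chainGrp K j ↔ g ∈ K ∧ ∀ i < j, g (bp i) = bp i := by
  induction j with
  | zero =>
    constructor
    · intro h
      exact ⟨h, fun i hi => absurd hi (Nat.not_lt_zero i)⟩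
    · intro h
      exact h.1
  | succ j ih =>
    rw [chainGrp, Subgroup.mem_inf, ih, MulAction.mem_stabilizer_iff, Equiv.Perm.smul_def]
    constructor
    · rintro ⟨⟨hK, h⟩, hj⟩
      refine ⟨hK, fun i hi => ?_⟩
      rcases Nat.lt_succ_iff_lt_or_eq.mp hi with h' | h'
      · exact h i h'
      · rw [h']
        exact hj
    · rintro ⟨hK, h⟩
      exact ⟨⟨hK, fun i hi => h i (Nat.lt_succ_of_lt hi)⟩, h j (Nat.lt_succ_self j)⟩

theorem card_chain_step (K : Subgroup (Equiv.Perm GolayPt)) (h1 : genGroup ≤ K) (j : ℕ)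
    (S : Set GolayPt) (hsub : ∀ g ∈ chainGrp K j, g (bp j) ∈ S)
    (hsup : ∀ q ∈ S, ∃ h ∈ genGroup, h q = bp j ∧ ∀ i < j, h (bp i) = bp i) :
    Nat.card (chainGrp K j) = S.ncard * Nat.card (chainGrp K (j + 1)) := by
  have e : {x | ∃ g ∈ chainGrp K j, g (bp j) = x} = S := by
    ext x
    constructor
    · rintro ⟨g, hg, rfl⟩
      exact hsub g hg
    · intro hx
      obtain ⟨h, hh, e1, e2⟩ := hsup x hx
      refine ⟨h⁻¹, inv_mem ((mem_chainGrp K j h).mpr ⟨h1 hh, e2⟩), ?_⟩
      rw [← e1]
      exact h.symm_apply_apply x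
  rw [card_eq_orbit_mul (chainGrp K j) (bp j), e]
  rfl

theorem fixesMask5 {g : Equiv.Perm GolayPt} (h : ∀ i < 5, g (bp i) = bp i) :
    FixesMask g 613 := by
  intro p hp
  rcases base5_of_testBit p hp with rfl | rfl | rfl | rfl | rfl
  · exact h 0 (by norm_num)
  · exact h 1 (by norm_num)
  · exact h 2 (by norm_num)
  · exact h 3 (by norm_num)
  · exact h 4 (by norm_num)

theorem baseOctad_invariant {g : Equiv.Perm GolayPt} (hg : g ∈ M24)
    (h : ∀ i < 5, g (bp i) = bp i) :
    g • support₂ (ofBits (comb 15)) = support₂ (ofBits (comb 15)) :=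
  octad_invariant hg (fixesMask5 h) 15 (by decide +kernel) (by decide +kernel)

/-- Any subgroup between the group generated by the three permutations and the group of the
code has order 244823040. -/
theorem card_between (K : Subgroup (Equiv.Perm GolayPt)) (h1 : genGroup ≤ K) (h2 : K ≤ M24) :
    Nat.card K = 244823040 := by
  have c0 : Nat.card (chainGrp K 0) = 24 * Nat.card (chainGrp K 1) := by
    rw [← ncard_lvl1]
    refine card_chain_step K h1 0 _ ?_ (fun q hq => lvl1_pts q hq)
    intro g hg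
    rw [mem_chainGrp] at hg
    have ne : ∀ i, i < 0 → bp 0 ≠ bp i → g (bp 0) ≠ bp i := fun i hi hne e =>
      hne (g.injective (e.trans (hg.2 i hi).symm))
    exact mask1_ok (g (bp 0)) 
  have c1 : Nat.card (chainGrp K 1) = 23 * Nat.card (chainGrp K 2) := by
    rw [← ncard_lvl2]
    refine card_chain_step K h1 1 _ ?_ (fun q hq => lvl2_pts q hq)
    intro g hg
    rw [mem_chainGrp] at hg
    have ne : ∀ i, i < 1 → bp 1 ≠ bp i → g (bp 1) ≠ bp i := fun i hi hne e =>
      hne (g.injective (e.trans (hg.2 i hi).symm))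
    exact mask2_ok (g (bp 1)) (ne 0 (by norm_num) (by decide))
  have c2 : Nat.card (chainGrp K 2) = 22 * Nat.card (chainGrp K 3) := by
    rw [← ncard_lvl3]
    refine card_chain_step K h1 2 _ ?_ (fun q hq => lvl3_pts q hq)
    intro g hg
    rw [mem_chainGrp] at hg
    have ne : ∀ i, i < 2 → bp 2 ≠ bp i → g (bp 2) ≠ bp i := fun i hi hne e =>
      hne (g.injective (e.trans (hg.2 i hi).symm))
    exact mask3_ok (g (bp 2)) (ne 0 (by norm_num) (by decide)) (ne 1 (by norm_num) (by decide))
  have c3 : Nat.card (chainGrp K 3) = 21 * Nat.card (chainGrp K 4) := by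
    rw [← ncard_lvl4]
    refine card_chain_step K h1 3 _ ?_ (fun q hq => lvl4_pts q hq)
    intro g hg
    rw [mem_chainGrp] at hg
    have ne : ∀ i, i < 3 → bp 3 ≠ bp i → g (bp 3) ≠ bp i := fun i hi hne e =>
      hne (g.injective (e.trans (hg.2 i hi).symm))
    exact mask4_ok (g (bp 3)) (ne 0 (by norm_num) (by decide)) (ne 1 (by norm_num) (by decide)) (ne 2 (by norm_num) (by decide))
  have c4 : Nat.card (chainGrp K 4) = 20 * Nat.card (chainGrp K 5) := by
    rw [← ncard_lvl5]
    refine card_chain_step K h1 4 _ ?_ (fun q hq => lvl5_pts q hq)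
    intro g hg
    rw [mem_chainGrp] at hg
    have ne : ∀ i, i < 4 → bp 4 ≠ bp i → g (bp 4) ≠ bp i := fun i hi hne e =>
      hne (g.injective (e.trans (hg.2 i hi).symm))
    exact mask5_ok (g (bp 4)) (ne 0 (by norm_num) (by decide)) (ne 1 (by norm_num) (by decide)) (ne 2 (by norm_num) (by decide)) (ne 3 (by norm_num) (by decide))
  have c5 : Nat.card (chainGrp K 5) = 3 * Nat.card (chainGrp K 6) := by
    rw [← ncard_lvl6]
    refine card_chain_step K h1 5 _ ?_ (fun q hq => lvl6_pts q hq)
    intro g hg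
    rw [mem_chainGrp] at hg
    have ne : ∀ i, i < 5 → bp 5 ≠ bp i → g (bp 5) ≠ bp i := fun i hi hne e =>
      hne (g.injective (e.trans (hg.2 i hi).symm))
    have hO := testBit_of_invariant (baseOctad_invariant (h2 hg.1) hg.2)
      (by decide +kernel : (comb 15).testBit (pos (bp 5)) = true)
    exact mask6_ok (g (bp 5)) hO (ne 0 (by norm_num) (by decide)) (ne 1 (by norm_num) (by decide)) (ne 2 (by norm_num) (by decide)) (ne 3 (by norm_num) (by decide)) (ne 4 (by norm_num) (by decide))
  have c6 : Nat.card (chainGrp K 6) = 16 * Nat.card (chainGrp K 7) := by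
    rw [← ncard_lvl7]
    refine card_chain_step K h1 6 _ ?_ (fun q hq => lvl7_pts q hq)
    intro g hg
    rw [mem_chainGrp] at hg
    have hinv := baseOctad_invariant (h2 hg.1) (fun i hi => hg.2 i (by omega))
    have hO : (comb 15).testBit (pos (g (bp 6))) = false := by
      cases hb : (comb 15).testBit (pos (g (bp 6)))
      · rfl
      · exfalso
        rw [← mem_support₂_ofBits, ← hinv] at hb
        have hb2 : g • bp 6 ∈ g • support₂ (ofBits (comb 15)) := hb
        rw [Finset.smul_mem_smul_finset_iff, mem_support₂_ofBits] at hb2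
        exact absurd hb2 (by decide +kernel)
    exact mask7_ok (g (bp 6)) hO
  have c7 : Nat.card (chainGrp K 7) = 1 := by
    rw [Subgroup.card_eq_one]
    rw [eq_bot_iff]
    intro g hg
    rw [mem_chainGrp] at hg
    rw [Subgroup.mem_bot]
    exact rigid (h2 hg.1) hg.2
  have c : Nat.card K = Nat.card (chainGrp K 0) := rfl
  rw [c, c0, c1, c2, c3, c4, c5, c6, c7]

end Cfsg.Agent.Helper1.Golay
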