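import Mathlib
import Cfsg.Agent.Helper1.Golay7

set_option autoImplicit false

namespace Cfsg.Agent.Helper1.Golay

open Cfsg
open scoped Pointwise

theorem lvl_uniform : ∀ k < 5, ∀ q : GolayPt, (∀ i < k, q ≠ bp i) →
    ∃ h ∈ genGroup, h q = bp k ∧ ∀ i < k, h (bp i) = bp i := by
  intro k hk q hq
  interval_cases k
  · exact lvl1_pts q (mask1_ok q)
  · exact lvl2_pts q (mask2_ok q (hq 0 (by norm_num)))
  · exact lvl3_pts q (mask3_ok q (hq 0 (by norm_num)) (hq 1 (by norm_num)))
  · exact lvl4_pts q (mask4_ok q (hq 0 (by norm_num)) (hq 1 (by norm_num)) (hq 2 (by norm_num)))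
  · exact lvl5_pts q (mask5_ok q (hq 0 (by norm_num)) (hq 1 (by norm_num)) (hq 2 (by norm_num))
      (hq 3 (by norm_num)))

theorem exists_to_base_aux (x : Fin 5 ↪ GolayPt) : ∀ k ≤ 5,
    ∃ g ∈ genGroup, ∀ i : Fin 5, i.val < k → g (x i) = bp i.val := by
  intro k
  induction k with
  | zero =>
    intro _
    exact ⟨1, one_mem _, fun i hi => absurd hi (Nat.not_lt_zero _)⟩
  | succ k ih =>
    intro hk
    obtain ⟨g, hg, hgx⟩ := ih (Nat.le_of_succ_le hk)
    have hk5 : k < 5 := hk
    have hne : ∀ i < k, g (x ⟨k, hk5⟩) ≠ bp i := by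
      intro i hi e
      have hi5 : i < 5 := lt_trans hi hk5
      have h1 := hgx ⟨i, hi5⟩ hi
      have h2 : x ⟨k, hk5⟩ = x ⟨i, hi5⟩ := g.injective (e.trans h1.symm)
      have h3 := x.injective h2
      rw [Fin.mk.injEq] at h3
      omega
    obtain ⟨h, hh, e1, e2⟩ := lvl_uniform k hk5 (g (x ⟨k, hk5⟩)) hne
    refine ⟨h * g, mul_mem hh hg, ?_⟩
    intro i hi
    rw [Equiv.Perm.mul_apply]
    rcases Nat.lt_succ_iff_lt_or_eq.mp hi with h' | h'
    · rw [hgx i h']
      exact e2 i.val h'
    · have hi' : i = ⟨k, hk5⟩ := Fin.ext h'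
      rw [hi', e1]

theorem exists_to_base (x : Fin 5 ↪ GolayPt) :
    ∃ g ∈ genGroup, ∀ i : Fin 5, g (x i) = bp i.val := by
  obtain ⟨g, hg, h⟩ := exists_to_base_aux x 5 le_rfl
  exact ⟨g, hg, fun i => h i i.isLt⟩

theorem M24_five_transitive : MulAction.IsMultiplyPretransitive M24 GolayPt 5 := by
  rw [MulAction.isMultiplyPretransitive_iff]
  intro x y
  obtain ⟨gx, hgx, hx⟩ := exists_to_base x
  obtain ⟨gy, hgy, hy⟩ := exists_to_base y
  refine ⟨⟨gy⁻¹ * gx, mul_mem (inv_mem (genGroup_le hgy)) (genGroup_le hgx)⟩, ?_⟩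
  refine Function.Embedding.ext (fun i => ?_)
  show (gy⁻¹ * gx) (x i) = y i
  rw [Equiv.Perm.mul_apply, hx i, ← hy i]
  exact gy.symm_apply_apply (y i)

theorem card_M24 : Nat.card M24 = 244823040 := card_between M24 genGroup_le le_rfl

theorem M24_pretransitive : MulAction.IsPretransitive M24 GolayPt := by
  haveI := M24_five_transitive
  rw [← MulAction.is_one_pretransitive_iff]
  exact MulAction.isMultiplyPretransitive_of_le (n := 5) (by norm_num)
    (by rw [Nat.card_eq_fintype_card, card_golayPt]; norm_num)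

theorem M24_two_transitive : MulAction.IsMultiplyPretransitive M24 GolayPt 2 := by
  haveI := M24_five_transitive
  exact MulAction.isMultiplyPretransitive_of_le (n := 5) (by norm_num)
    (by rw [Nat.card_eq_fintype_card, card_golayPt]; norm_num)

theorem card_stabilizer_point (p : GolayPt) :
    Nat.card (MulAction.stabilizer M24 p) = 10200960 := by
  haveI := M24_pretransitive
  have h := Subgroup.card_mul_index (MulAction.stabilizer M24 p)
  rw [MulAction.index_stabilizer_of_transitive, card_M24, Nat.card_eq_fintype_card (α := GolayPt),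
    card_golayPt] at h
  omega

theorem card_stabilizer_two (p q : GolayPt) (hpq : p ≠ q) :
    Nat.card ↥(MulAction.stabilizer M24 p ⊓ MulAction.stabilizer M24 q) = 443520 := by
  have hs : ({p, q} : Set GolayPt).ncard = 2 := Set.ncard_pair hpq
  have h := M24_two_transitive.index_of_fixingSubgroup_mul hs
  have e : fixingSubgroup M24 ({p, q} : Set GolayPt)
      = MulAction.stabilizer M24 p ⊓ MulAction.stabilizer M24 q := by
    ext g
    rw [mem_fixingSubgroup_iff, Subgroup.mem_inf, MulAction.mem_stabilizer_iff,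
      MulAction.mem_stabilizer_iff]
    constructor
    · intro hg
      exact ⟨hg p (by simp), hg q (by simp)⟩
    · rintro ⟨h1, h2⟩ y hy
      rcases hy with rfl | hy
      · exact h1
      · rw [Set.mem_singleton_iff.mp hy]
        exact h2
  rw [e, Nat.card_eq_fintype_card (α := GolayPt), card_golayPt] at h
  have h2 := Subgroup.card_mul_index (MulAction.stabilizer M24 p ⊓ MulAction.stabilizer M24 q)
  rw [card_M24] at h2
  have h3 : (22 : ℕ).factorial = 1124000727777607680000 := by decide
  have h4 : (24 : ℕ).factorial = 620448401733239439360000 := by decide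
  norm_num [h3, h4] at h
  have h5 : (MulAction.stabilizer M24 p ⊓ MulAction.stabilizer M24 q).index = 552 := by omega
  rw [h5] at h2
  omega

theorem smul_mem_wordsOfWeight {g : Equiv.Perm GolayPt} (hg : g ∈ M24) {n : ℕ}
    {d : Finset GolayPt} (hd : d ∈ wordsOfWeight (golayCode : Set (GolayPt → ZMod 2)) n) :
    g • d ∈ wordsOfWeight (golayCode : Set (GolayPt → ZMod 2)) n := by
  rw [M24, setSystemAut, MulAction.mem_stabilizer_set' (Set.toFinite _)] at hg
  exact ⟨hg hd.1, by rw [Finset.card_smul_finset, hd.2]⟩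

end Cfsg.Agent.Helper1.Golay
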