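import Mathlib
import Cfsg.Agent.Helper1.Golay8
import Cfsg.Agent.S0368

set_option autoImplicit false

namespace Cfsg.Agent.Helper1.Golay

open Cfsg
open scoped Pointwise

theorem bitAt_eq_one_iff (n i : ℕ) : bitAt n i = 1 ↔ n.testBit i = true := by
  rw [bitAt_eq]
  cases n.testBit i <;> simp

/-- Check of a level inside a set stabilizer: for each position `q` of the set `D` the `q`-th
word maps `q` to `β` and maps `D` into itself. -/
def chkSetLevel (D β W : ℕ) : Bool :=
  (List.range 24).all (fun q => cond (Nat.beq (bitAt D q) 1)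
    (Nat.beq (actW 32 (slot W q) q) β && (List.range 24).all (fun i =>
      cond (Nat.beq (bitAt D i) 1) (Nat.beq (bitAt D (actW 32 (slot W q) i)) 1) true))
    true)

theorem smul_eq_of_forall_mem {g : Equiv.Perm GolayPt} {s : Finset GolayPt}
    (h : ∀ p ∈ s, g p ∈ s) : g • s = s := by
  apply Finset.eq_of_subset_of_card_le
  · intro x hx
    rw [Finset.mem_smul_finset] at hx
    obtain ⟨p, hp, rfl⟩ := hx
    exact h p hp
  · rw [Finset.card_smul_finset]

theorem setLevel_sound (D β W : ℕ) (h : chkSetLevel D β W = true) (hβ : β < 24) (q : GolayPt)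
    (hq : D.testBit (pos q) = true) :
    ∃ g ∈ genGroup, g q = unpos β ∧ g • support₂ (ofBits D) = support₂ (ofBits D) := by
  have h1 := List.all_eq_true.mp h (pos q) (List.mem_range.mpr (pos_lt q))
  rw [(bitAt_eq_one_iff D (pos q)).mpr hq, Nat.beq_refl, cond_true, Bool.and_eq_true] at h1
  refine ⟨elemW 32 (slot W (pos q)), elemW_mem _ _, ?_, ?_⟩
  · apply pos_injective
    rw [pos_elemW, pos_unpos β hβ]
    exact Nat.eq_of_beq_eq_true h1.1
  · apply smul_eq_of_forall_mem
    intro p hp
    rw [mem_support₂_ofBits] at hp ⊢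
    have h2 := List.all_eq_true.mp h1.2 (pos p) (List.mem_range.mpr (pos_lt p))
    rw [(bitAt_eq_one_iff D (pos p)).mpr hp, Nat.beq_refl, cond_true] at h2
    rw [pos_elemW]
    exact (bitAt_eq_one_iff _ _).mp (Nat.eq_of_beq_eq_true h2)

theorem card_eq_orbit_mul' {G α : Type*} [Group G] [MulAction G α] (H : Subgroup G) (a : α) :
    Nat.card H = {x | ∃ h ∈ H, h • a = x}.ncard
      * Nat.card ↥(H ⊓ MulAction.stabilizer G a) := by
  have h := Subgroup.card_mul_index (MulAction.stabilizer H a)
  rw [MulAction.index_stabilizer] at h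
  have e1 : MulAction.orbit H a = {x | ∃ h ∈ H, h • a = x} := by
    ext x
    constructor
    · rintro ⟨⟨g, hg⟩, rfl⟩
      exact ⟨g, hg, rfl⟩
    · rintro ⟨g, hg, rfl⟩
      exact ⟨⟨g, hg⟩, rfl⟩
  have e2 : Nat.card (MulAction.stabilizer H a)
      = Nat.card ↥(H ⊓ MulAction.stabilizer G a) := by
    apply Nat.card_congr
    exact
      { toFun := fun g => ⟨g.1.1, Subgroup.mem_inf.mpr ⟨g.1.2, g.2⟩⟩
        invFun := fun g => ⟨⟨g.1, (Subgroup.mem_inf.mp g.2).1⟩, (Subgroup.mem_inf.mp g.2).2⟩
        left_inv := fun g => rfl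
        right_inv := fun g => rfl }
  rw [← h, e1, e2, mul_comm]

/-! ### The stabilizer of a dodecad -/

/-- Packed words for the transitivity of the stabilizer of the base dodecad on its points. -/
def dodW : ℕ := 1922307908956820456364728323424975066737259929730575060604417515406516296487784354601075873062469520138597285691381738641301343560350376450909682217167422028180967994747418733145912799260549141543488516237974657622934471134966323773680757112117075776609961409027251396060258085179003829486159493919672261588738703465773054888114140783471070350833084268544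

theorem dod_check : chkSetLevel 340831 0 dodW = true := by decide +kernel

theorem comb_one : comb 1 = 340831 := by decide +kernel

theorem baseDodecad_mem : support₂ (ofBits (comb 1)) ∈ dodecads :=
  ⟨⟨_, ofBits_comb_mem 1, rfl⟩, by
    rw [card_support₂, hammingNorm_ofBits]
    decide +kernel⟩

theorem dodecads_transitive (d d' : Finset GolayPt) (hd : d ∈ dodecads) (hd' : d' ∈ dodecads) :
    ∃ g : M24, g • d = d' := Cfsg.Agent.S0368.result d d' hd hd'

theorem baseDodecad_trans (p q : GolayPt) (hp : p ∈ support₂ (ofBits (comb 1)))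
    (hq : q ∈ support₂ (ofBits (comb 1))) :
    ∃ h ∈ M24, h • support₂ (ofBits (comb 1)) = support₂ (ofBits (comb 1)) ∧ h p = q := by
  rw [comb_one] at hp hq ⊢
  rw [mem_support₂_ofBits] at hp hq
  obtain ⟨g1, hg1, e1, f1⟩ := setLevel_sound _ _ _ dod_check (by norm_num) p hp
  obtain ⟨g2, hg2, e2, f2⟩ := setLevel_sound _ _ _ dod_check (by norm_num) q hq
  refine ⟨g2⁻¹ * g1, mul_mem (inv_mem (genGroup_le hg2)) (genGroup_le hg1), ?_, ?_⟩
  · rw [mul_smul, f1, inv_smul_eq_iff, f2]
  · rw [Equiv.Perm.mul_apply, e1, ← e2]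
    exact g2.symm_apply_apply q

theorem dodecad_stab_trans (d : Finset GolayPt) (hd : d ∈ dodecads) (p q : GolayPt)
    (hp : p ∈ d) (hq : q ∈ d) : ∃ h ∈ M24, h • d = d ∧ h p = q := by
  obtain ⟨t, ht⟩ := dodecads_transitive _ d baseDodecad_mem hd
  have ht' : (t : Equiv.Perm GolayPt) • support₂ (ofBits (comb 1)) = d := ht
  have hp' : (t : Equiv.Perm GolayPt)⁻¹ • p ∈ support₂ (ofBits (comb 1)) := by
    rw [Finset.inv_smul_mem_iff, ht']
    exact hp
  have hq' : (t : Equiv.Perm GolayPt)⁻¹ • q ∈ support₂ (ofBits (comb 1)) := by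
    rw [Finset.inv_smul_mem_iff, ht']
    exact hq
  obtain ⟨h0, hh0, e1, e2⟩ := baseDodecad_trans _ _ hp' hq'
  refine ⟨(t : Equiv.Perm GolayPt) * h0 * (t : Equiv.Perm GolayPt)⁻¹,
    mul_mem (mul_mem t.2 hh0) (inv_mem t.2), ?_, ?_⟩
  · rw [mul_smul, mul_smul, ← ht', inv_smul_smul, e1]
  · rw [Equiv.Perm.mul_apply, Equiv.Perm.mul_apply]
    have e3 : h0 ((t : Equiv.Perm GolayPt)⁻¹ p) = (t : Equiv.Perm GolayPt)⁻¹ q := e2
    rw [e3]
    exact (t : Equiv.Perm GolayPt).apply_symm_apply q

theorem card_stabilizer_dodecad (d : Finset GolayPt) (hd : d ∈ dodecads) :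
    Nat.card (MulAction.stabilizer M24 d) = 95040 := by
  have horb : MulAction.orbit M24 d = dodecads := by
    ext d'
    constructor
    · rintro ⟨g, rfl⟩
      exact smul_mem_wordsOfWeight g.2 hd
    · intro hd'
      obtain ⟨g, hg⟩ := dodecads_transitive d d' hd hd'
      exact ⟨g, hg⟩
  have h := Subgroup.card_mul_index (MulAction.stabilizer M24 d)
  have hn : dodecads.ncard = 2576 := by
    rw [dodecads, ncard_wordsOfWeight]
    exact count12
  rw [MulAction.index_stabilizer, horb, hn, card_M24] at h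
  omega

theorem card_stabilizer_dodecad_point (d : Finset GolayPt) (hd : d ∈ dodecads) (p : GolayPt)
    (hp : p ∈ d) :
    Nat.card ↥(MulAction.stabilizer M24 d ⊓ MulAction.stabilizer M24 p) = 7920 := by
  have h := card_eq_orbit_mul' (MulAction.stabilizer M24 d) p
  have e : {x | ∃ h ∈ MulAction.stabilizer M24 d, h • p = x} = (d : Set GolayPt) := by
    ext x
    constructor
    · rintro ⟨h, hh, rfl⟩
      rw [MulAction.mem_stabilizer_iff] at hh
      have h1 : h • p ∈ h • d := Finset.smul_mem_smul_finset hp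
      rw [hh] at h1
      exact h1
    · intro hx
      obtain ⟨g, hg, e1, e2⟩ := dodecad_stab_trans d hd p x hp hx
      exact ⟨⟨g, hg⟩, MulAction.mem_stabilizer_iff.mpr e1, e2⟩
  rw [e, Set.ncard_coe_finset, hd.2, card_stabilizer_dodecad d hd] at h
  omega

end Cfsg.Agent.Helper1.Golay
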