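import Mathlib
import Cfsg.Agent.Helper1.Golay9
import Cfsg.Agent.S0367

set_option autoImplicit false

namespace Cfsg.Agent.Helper1.Golay

open Cfsg
open scoped Pointwise

/-- Check for the pointwise stabilizer of the base octad: the word of an outside position `q`
swaps `q` and position `1` and fixes the eight positions of the octad. -/
def chkOct (W : ℕ) : Bool :=
  (List.range 24).all (fun q => cond (Nat.beq (bitAt 13499802 q) 1)
    (Nat.beq (actW 32 (slot W q) q) 1 && (Nat.beq (actW 32 (slot W q) 1) q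
      && [0, 2, 5, 6, 9, 17, 20, 21].all (fun j => Nat.beq (actW 32 (slot W q) j) j)))
    true)

theorem oct_check : chkOct lvlW7 = true := by decide +kernel

theorem baseOctad_cases : ∀ p : GolayPt, (comb 15).testBit (pos p) = true →
    pos p = 0 ∨ pos p = 2 ∨ pos p = 5 ∨ pos p = 6 ∨ pos p = 9 ∨ pos p = 17 ∨ pos p = 20
      ∨ pos p = 21 := by
  decide +kernel

theorem outside_bit : ∀ q : GolayPt, (comb 15).testBit (pos q) = false →
    (13499802 : ℕ).testBit (pos q) = true := by
  decide +kernel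

theorem oct_sound (q : GolayPt) (hq : q ∉ support₂ (ofBits (comb 15))) :
    ∃ g ∈ genGroup, g q = unpos 1 ∧ g (unpos 1) = q ∧
      ∀ p ∈ support₂ (ofBits (comb 15)), g p = p := by
  have hq' : (comb 15).testBit (pos q) = false := by
    cases h : (comb 15).testBit (pos q)
    · rfl
    · exact absurd ((mem_support₂_ofBits _ _).mpr h) hq
  have h1 := List.all_eq_true.mp oct_check (pos q) (List.mem_range.mpr (pos_lt q))
  rw [(bitAt_eq_one_iff _ _).mpr (outside_bit q hq'), Nat.beq_refl, cond_true, Bool.and_eq_true,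
    Bool.and_eq_true] at h1
  obtain ⟨a1, a2, a3⟩ := h1
  refine ⟨elemW 32 (slot lvlW7 (pos q)), elemW_mem _ _, ?_, ?_, ?_⟩
  · apply pos_injective
    rw [pos_elemW, pos_unpos 1 (by norm_num)]
    exact Nat.eq_of_beq_eq_true a1
  · apply pos_injective
    rw [pos_elemW, pos_unpos 1 (by norm_num)]
    exact Nat.eq_of_beq_eq_true a2
  · intro p hp
    rw [mem_support₂_ofBits] at hp
    apply pos_injective
    rw [pos_elemW]
    have a4 := List.all_eq_true.mp a3
    rcases baseOctad_cases p hp with e | e | e | e | e | e | e | e <;> rw [e] <;>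
      exact Nat.eq_of_beq_eq_true (a4 _ (by simp))

/-- The pointwise stabilizer of a set of points in the group of the code. -/
abbrev fixGrp (o : Finset GolayPt) : Subgroup (Equiv.Perm GolayPt) :=
  M24 ⊓ fixingSubgroup (Equiv.Perm GolayPt) (o : Set GolayPt)

theorem mem_fixGrp (o : Finset GolayPt) (g : Equiv.Perm GolayPt) :
    g ∈ fixGrp o ↔ g ∈ M24 ∧ ∀ p ∈ o, g p = p := by
  rw [fixGrp, Subgroup.mem_inf, mem_fixingSubgroup_iff]
  rfl

theorem base_mem_octad : ∀ i < 6, bp i ∈ support₂ (ofBits (comb 15)) := by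
  intro i hi
  rw [mem_support₂_ofBits]
  interval_cases i <;> decide +kernel

theorem bp6_eq : bp 6 = unpos 1 := rfl

theorem bp6_not_mem : unpos 1 ∉ support₂ (ofBits (comb 15)) := by
  rw [mem_support₂_ofBits]
  decide +kernel

theorem fixGrp_rigid {g : Equiv.Perm GolayPt} (hg : g ∈ fixGrp (support₂ (ofBits (comb 15))))
    (hz : g (unpos 1) = unpos 1) : g = 1 := by
  rw [mem_fixGrp] at hg
  apply rigid hg.1
  intro i hi
  rcases Nat.lt_succ_iff_lt_or_eq.mp hi with h | h
  · exact hg.2 _ (base_mem_octad i h)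
  · rw [h]
    exact hz

theorem card_fixGrp_base : Nat.card (fixGrp (support₂ (ofBits (comb 15)))) = 16 := by
  have h := card_eq_orbit_mul (fixGrp (support₂ (ofBits (comb 15)))) (unpos 1)
  have e : {x | ∃ g ∈ fixGrp (support₂ (ofBits (comb 15))), g (unpos 1) = x}
      = ↑((support₂ (ofBits (comb 15)))ᶜ) := by
    ext x
    rw [Finset.coe_compl, Set.mem_compl_iff, Finset.mem_coe]
    constructor
    · rintro ⟨g, hg, rfl⟩ hx
      rw [mem_fixGrp] at hg
      have h1 := hg.2 _ hx
      have h2 := g.injective h1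
      rw [h2] at hx
      exact bp6_not_mem hx
    · intro hx
      obtain ⟨g, hg, e1, e2, e3⟩ := oct_sound x hx
      exact ⟨g, (mem_fixGrp _ _).mpr ⟨genGroup_le hg, e3⟩, e2⟩
  have hc : (support₂ (ofBits (comb 15))).card = 8 := by
    rw [card_support₂, hammingNorm_ofBits]
    decide +kernel
  have hbot : fixGrp (support₂ (ofBits (comb 15)))
      ⊓ MulAction.stabilizer (Equiv.Perm GolayPt) (unpos 1) = ⊥ := by
    rw [eq_bot_iff]
    intro g hg
    rw [Subgroup.mem_inf, MulAction.mem_stabilizer_iff] at hg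
    rw [Subgroup.mem_bot]
    exact fixGrp_rigid hg.1 hg.2
  rw [e, Set.ncard_coe_finset, Finset.card_compl, hc, card_golayPt, hbot,
    Subgroup.card_bot] at h
  exact h

theorem sq_fixGrp_base {g : Equiv.Perm GolayPt}
    (hg : g ∈ fixGrp (support₂ (ofBits (comb 15)))) : g * g = 1 := by
  have hg' := (mem_fixGrp _ _).mp hg
  have hq : g (unpos 1) ∉ support₂ (ofBits (comb 15)) := by
    intro hx
    have h1 := hg'.2 _ hx
    have h2 := g.injective h1
    rw [h2] at hx
    exact bp6_not_mem hx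
  obtain ⟨h, hh, e1, e2, e3⟩ := oct_sound _ hq
  have hh' : h ∈ fixGrp (support₂ (ofBits (comb 15))) :=
    (mem_fixGrp _ _).mpr ⟨genGroup_le hh, e3⟩
  have h1 : h * g = 1 := fixGrp_rigid (mul_mem hh' hg) (by rw [Equiv.Perm.mul_apply, e1])
  have h2 : h * h = 1 := fixGrp_rigid (mul_mem hh' hh')
    (by rw [Equiv.Perm.mul_apply, e2, e1])
  have h3 : g = h⁻¹ := eq_inv_of_mul_eq_one_right h1
  rw [h3, ← mul_inv_rev, h2, inv_one]

theorem octads_transitive (o o' : Finset GolayPt) (ho : o ∈ octads) (ho' : o' ∈ octads) :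
    ∃ g : M24, g • o = o' := Cfsg.Agent.S0367.result o o' ho ho'

theorem baseOctad_mem : support₂ (ofBits (comb 15)) ∈ octads :=
  ⟨⟨_, ofBits_comb_mem 15, rfl⟩, by
    rw [card_support₂, hammingNorm_ofBits]
    decide +kernel⟩

theorem conj_mem_fixGrp {t : Equiv.Perm GolayPt} (ht : t ∈ M24) {o : Finset GolayPt}
    {g : Equiv.Perm GolayPt} (hg : g ∈ fixGrp (t • o)) : t⁻¹ * g * t ∈ fixGrp o := by
  rw [mem_fixGrp] at hg ⊢
  refine ⟨mul_mem (mul_mem (inv_mem ht) hg.1) ht, ?_⟩
  intro p hp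
  rw [Equiv.Perm.mul_apply, Equiv.Perm.mul_apply]
  have h1 : t • p ∈ t • o := Finset.smul_mem_smul_finset hp
  have h2 := hg.2 _ h1
  rw [Equiv.Perm.smul_def] at h2
  rw [h2]
  exact t.symm_apply_apply p

theorem card_fixGrp_smul {t : Equiv.Perm GolayPt} (ht : t ∈ M24) (o : Finset GolayPt) :
    Nat.card (fixGrp (t • o)) = Nat.card (fixGrp o) := by
  apply Nat.card_congr
  refine
    { toFun := fun g => ⟨t⁻¹ * g.1 * t, conj_mem_fixGrp ht g.2⟩
      invFun := fun g => ⟨t * g.1 * t⁻¹, ?_⟩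
      left_inv := fun g => Subtype.ext (by simp [mul_assoc])
      right_inv := fun g => Subtype.ext (by simp [mul_assoc]) }
  have h1 : g.1 ∈ fixGrp (t⁻¹ • (t • o)) := by
    rw [inv_smul_smul]
    exact g.2
  have h2 := conj_mem_fixGrp (inv_mem ht) h1
  rw [inv_inv] at h2
  exact h2

theorem octad_fixGrp (o : Finset GolayPt) (ho : o ∈ octads) :
    Nat.card (fixGrp o) = 16 ∧ ∀ g ∈ fixGrp o, g * g = 1 := by
  obtain ⟨t, ht⟩ := octads_transitive _ o baseOctad_mem ho
  have ht' : (t : Equiv.Perm GolayPt) • support₂ (ofBits (comb 15)) = o := ht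
  rw [← ht']
  refine ⟨by rw [card_fixGrp_smul t.2, card_fixGrp_base], ?_⟩
  intro g hg
  have h1 := sq_fixGrp_base (conj_mem_fixGrp t.2 hg)
  have h2 : g * g = (t : Equiv.Perm GolayPt)
      * ((t : Equiv.Perm GolayPt)⁻¹ * g * t * ((t : Equiv.Perm GolayPt)⁻¹ * g * t))
      * (t : Equiv.Perm GolayPt)⁻¹ := by
    group
  rw [h2, h1]
  group

end Cfsg.Agent.Helper1.Golay
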