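import Mathlib
import Cfsg.Agent.Helper1.Golay10

set_option autoImplicit false

namespace Cfsg.Agent.Helper1.Golay

open Cfsg
open scoped Pointwise

/-- Apply a word to a coordinate, most significant letter first. -/
def applyV : ℕ → ℕ → ℕ → ℕ
  | 0, _, c => c
  | f + 1, w, c => cond (Nat.beq w 0) c (stepW (w % 4) (applyV f (w / 4) c))

theorem support_pull (σ : Equiv.Perm GolayPt) (T : ℕ → ℕ)
    (h : ∀ c p, ofBits (comb c) (σ p) = ofBits (comb (T c)) p) (c : ℕ) :
    support₂ (ofBits (comb (T c))) = σ⁻¹ • support₂ (ofBits (comb c)) := by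
  rw [inv_smul_support₂]
  have h1 : ofBits (comb (T c)) = ofBits (comb c) ∘ σ := funext fun p => (h c p).symm
  rw [h1]

theorem stepW_support (d c : ℕ) :
    support₂ (ofBits (comb (stepW d c))) = (genP d)⁻¹ • support₂ (ofBits (comb c)) := by
  unfold stepW genP
  cases Nat.beq d 1
  · cases Nat.beq d 2
    · exact support_pull cubeTwist TD pull_D c
    · exact support_pull projInv TC pull_C c
  · exact support_pull (Equiv.optionCongr (Equiv.addRight (1 : ZMod 23))) TA pull_A c

theorem applyV_support (f : ℕ) : ∀ (w c : ℕ),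
    support₂ (ofBits (comb (applyV f w c))) = (elemW f w)⁻¹ • support₂ (ofBits (comb c)) := by
  induction f with
  | zero =>
    intro w c
    show support₂ (ofBits (comb c)) = (1 : Equiv.Perm GolayPt)⁻¹ • support₂ (ofBits (comb c))
    rw [inv_one, one_smul]
  | succ f ih =>
    intro w c
    show support₂ (ofBits (comb (cond (Nat.beq w 0) c (stepW (w % 4) (applyV f (w / 4) c)))))
      = (cond (Nat.beq w 0) 1 (elemW f (w / 4) * genP (w % 4)) : Equiv.Perm GolayPt)⁻¹
        • support₂ (ofBits (comb c))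
    cases Nat.beq w 0
    · show support₂ (ofBits (comb (stepW (w % 4) (applyV f (w / 4) c))))
        = (elemW f (w / 4) * genP (w % 4))⁻¹ • support₂ (ofBits (comb c))
      rw [stepW_support, ih, mul_inv_rev, mul_smul]
    · show support₂ (ofBits (comb c)) = (1 : Equiv.Perm GolayPt)⁻¹ • support₂ (ofBits (comb c))
      rw [inv_one, one_smul]

/-- The elements of `M24` fixing the supports of the coordinates `cs` and the positions `ps`. -/
def cfgStab (cs ps : List ℕ) : Subgroup (Equiv.Perm GolayPt) where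
  carrier := {g | g ∈ M24 ∧
    (∀ c ∈ cs, g • support₂ (ofBits (comb c)) = support₂ (ofBits (comb c)))
    ∧ ∀ i ∈ ps, g (unpos i) = unpos i}
  mul_mem' := by
    rintro a b ⟨ha, ha1, ha2⟩ ⟨hb, hb1, hb2⟩
    refine ⟨mul_mem ha hb, fun c hc => ?_, fun i hi => ?_⟩
    · rw [mul_smul, hb1 c hc, ha1 c hc]
    · rw [Equiv.Perm.mul_apply, hb2 i hi, ha2 i hi]
  one_mem' := ⟨one_mem _, fun c _ => one_smul _ _, fun i _ => rfl⟩
  inv_mem' := by
    rintro a ⟨ha, ha1, ha2⟩
    refine ⟨inv_mem ha, fun c hc => ?_, fun i hi => ?_⟩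
    · rw [inv_smul_eq_iff, ha1 c hc]
    · rw [Equiv.Perm.inv_eq_iff_eq, ha2 i hi]

theorem mem_cfgStab (cs ps : List ℕ) (g : Equiv.Perm GolayPt) :
    g ∈ cfgStab cs ps ↔ g ∈ M24 ∧
      (∀ c ∈ cs, g • support₂ (ofBits (comb c)) = support₂ (ofBits (comb c)))
      ∧ ∀ i ∈ ps, g (unpos i) = unpos i := Iff.rfl

/-- The check that the packed words `Ws` fix the coordinates `cs` and the positions `ps`. -/
def chkGens (Ws : ℕ) (cs ps : List ℕ) : Bool :=
  (List.range 16).all (fun s => cs.all (fun c => Nat.beq (applyV 32 (slot Ws s) c) c)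
    && ps.all (fun i => Nat.beq (actW 32 (slot Ws s) i) i))

theorem gens_mem (Ws : ℕ) (cs ps : List ℕ) (hps : ∀ i ∈ ps, i < 24)
    (h : chkGens Ws cs ps = true) (s : ℕ) (hs : s < 16) :
    (elemW 32 (slot Ws s))⁻¹ ∈ cfgStab cs ps := by
  have h1 := List.all_eq_true.mp h s (List.mem_range.mpr hs)
  rw [Bool.and_eq_true] at h1
  refine ⟨inv_mem (genGroup_le (elemW_mem 32 _)), fun c hc => ?_, fun i hi => ?_⟩
  · have h2 := Nat.eq_of_beq_eq_true (List.all_eq_true.mp h1.1 c hc)
    rw [← applyV_support, h2]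
  · have h2 := Nat.eq_of_beq_eq_true (List.all_eq_true.mp h1.2 i hi)
    rw [Equiv.Perm.inv_eq_iff_eq]
    have h3 : pos (elemW 32 (slot Ws s) (unpos i)) = i := by
      rw [pos_elemW, pos_unpos i (hps i hi), h2]
    have h4 := unpos_pos (elemW 32 (slot Ws s) (unpos i))
    rw [h3] at h4
    exact h4

/-- Reachability of supports under a subgroup. -/
def ReachIn (K : Subgroup (Equiv.Perm GolayPt)) (c c' : ℕ) : Prop :=
  ∃ g ∈ K, g • support₂ (ofBits (comb c)) = support₂ (ofBits (comb c'))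

theorem reachIn_refl (K : Subgroup (Equiv.Perm GolayPt)) (c : ℕ) : ReachIn K c c :=
  ⟨1, one_mem _, one_smul _ _⟩

theorem reachIn_trans {K : Subgroup (Equiv.Perm GolayPt)} {a b c : ℕ} (h1 : ReachIn K a b)
    (h2 : ReachIn K b c) : ReachIn K a c := by
  obtain ⟨g, hg, e1⟩ := h1
  obtain ⟨g', hg', e2⟩ := h2
  exact ⟨g' * g, mul_mem hg' hg, by rw [mul_smul, e1, e2]⟩

theorem reachIn_pair {K : Subgroup (Equiv.Perm GolayPt)} {r a b : ℕ} (h1 : ReachIn K r a)
    (h2 : ReachIn K r b) : ReachIn K a b := by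
  obtain ⟨g, hg, e1⟩ := h1
  obtain ⟨g', hg', e2⟩ := h2
  exact ⟨g' * g⁻¹, mul_mem hg' (inv_mem hg), by rw [mul_smul, ← e1, inv_smul_smul, e2]⟩

/-- One step of an orbit walk: entry `e` encodes a parent coordinate and a word number. -/
def orbStep (Ws mask e : ℕ) : ℕ :=
  cond (mask.testBit (e / 16)) (mask ||| (1 <<< applyV 32 (slot Ws (e % 16)) (e / 16))) mask

/-- The orbit walk. -/
def orbWalk (Ws : ℕ) : List ℕ → ℕ → ℕ
  | [], m => m
  | e :: es, m => orbWalk Ws es (orbStep Ws m e)

theorem orbWalk_sound (K : Subgroup (Equiv.Perm GolayPt)) (Ws : ℕ)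
    (hW : ∀ s < 16, (elemW 32 (slot Ws s))⁻¹ ∈ K) (r : ℕ) :
    ∀ (es : List ℕ) (m : ℕ), (∀ j, m.testBit j = true → ReachIn K r j) →
      ∀ j, (orbWalk Ws es m).testBit j = true → ReachIn K r j := by
  intro es
  induction es with
  | nil =>
    intro m hm j h
    exact hm j h
  | cons e es ih =>
    intro m hm j h
    change (orbWalk Ws es (orbStep Ws m e)).testBit j = true at h
    refine ih (orbStep Ws m e) ?_ j h
    intro j' hj'
    unfold orbStep at hj'
    cases hp : m.testBit (e / 16)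
    · rw [hp, cond_false] at hj'
      exact hm j' hj'
    · rw [hp, cond_true, Nat.testBit_or, Bool.or_eq_true] at hj'
      rcases hj' with h1 | h1
      · exact hm j' h1
      · rw [Nat.one_shiftLeft, Nat.testBit_two_pow] at h1
        have h2 : applyV 32 (slot Ws (e % 16)) (e / 16) = j' := of_decide_eq_true h1
        rw [← h2]
        exact reachIn_trans (hm _ hp)
          ⟨_, hW _ (Nat.mod_lt _ (by norm_num)), (applyV_support 32 _ _).symm⟩

theorem orbit_reach (cs ps : List ℕ) (hps : ∀ i ∈ ps, i < 24) (Ws : ℕ)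
    (hg : chkGens Ws cs ps = true) (r : ℕ) (es : List ℕ) (j : ℕ)
    (h : (orbWalk Ws es (1 <<< r)).testBit j = true) : ReachIn (cfgStab cs ps) r j := by
  refine orbWalk_sound (cfgStab cs ps) Ws (gens_mem Ws cs ps hps hg) r es (1 <<< r) ?_ j h
  intro j' hj'
  rw [Nat.one_shiftLeft, Nat.testBit_two_pow] at hj'
  have h2 : r = j' := of_decide_eq_true hj'
  rw [← h2]
  exact reachIn_refl _ _

theorem support_inter (m n : ℕ) :
    support₂ (ofBits m) ∩ support₂ (ofBits n) = support₂ (ofBits (m &&& n)) := by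
  ext p
  rw [Finset.mem_inter, mem_support₂_ofBits, mem_support₂_ofBits, mem_support₂_ofBits,
    Nat.testBit_and, Bool.and_eq_true]

theorem card_support_inter (m n : ℕ) :
    (support₂ (ofBits m) ∩ support₂ (ofBits n)).card = popc (m &&& n) := by
  rw [support_inter, card_support₂, hammingNorm_ofBits]

end Cfsg.Agent.Helper1.Golay
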