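import Mathlib
import Cfsg.Agent.Helper1.GolayOrb

set_option autoImplicit false

namespace Cfsg.Agent.Helper1.Golay

open Cfsg
open scoped Pointwise

theorem exists_index_of_mem {n : ℕ} {o : Finset GolayPt}
    (ho : o ∈ wordsOfWeight (golayCode : Set (GolayPt → ZMod 2)) n) :
    ∃ c < 4096, popc (comb c) = n ∧ o = support₂ (ofBits (comb c)) := by
  rw [wordsOfWeight_eq] at ho
  obtain ⟨c, hc, rfl⟩ := ho
  rw [Finset.mem_coe, Finset.mem_filter, Finset.mem_range] at hc
  exact ⟨c, hc.1, hc.2, rfl⟩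

/-- Transport of a base transitivity statement for the stabiliser of one support. -/
theorem stab_trans_of_base (n m c₀ : ℕ)
    (hbase : ∀ c' c'', c' < 4096 → c'' < 4096 → popc (comb c') = m → popc (comb c'') = m →
      popc (comb c₀ &&& comb c') = popc (comb c₀ &&& comb c'') →
      ReachIn (cfgStab [c₀] []) c' c'')
    (htrans : ∀ o ∈ wordsOfWeight (golayCode : Set (GolayPt → ZMod 2)) n,
      ∃ t : M24, t • o = support₂ (ofBits (comb c₀)))
    (o o' o'' : Finset GolayPt) (ho : o ∈ wordsOfWeight (golayCode : Set (GolayPt → ZMod 2)) n)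
    (ho' : o' ∈ wordsOfWeight (golayCode : Set (GolayPt → ZMod 2)) m)
    (ho'' : o'' ∈ wordsOfWeight (golayCode : Set (GolayPt → ZMod 2)) m)
    (h : (o ∩ o').card = (o ∩ o'').card) :
    ∃ g : Equiv.Perm GolayPt, g ∈ M24 ∧ g • o = o ∧ g • o' = o'' := by
  obtain ⟨t, ht⟩ := htrans o ho
  have ht' : (t : Equiv.Perm GolayPt) • o = support₂ (ofBits (comb c₀)) := ht
  obtain ⟨c', hc', hp', e'⟩ := exists_index_of_mem (smul_mem_wordsOfWeight t.2 ho')
  obtain ⟨c'', hc'', hp'', e''⟩ := exists_index_of_mem (smul_mem_wordsOfWeight t.2 ho'')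
  have h1 : popc (comb c₀ &&& comb c') = (o ∩ o').card := by
    rw [← card_support_inter, ← ht', ← e', ← Finset.smul_finset_inter, Finset.card_smul_finset]
  have h2 : popc (comb c₀ &&& comb c'') = (o ∩ o'').card := by
    rw [← card_support_inter, ← ht', ← e'', ← Finset.smul_finset_inter, Finset.card_smul_finset]
  obtain ⟨g₁, hg₁, hg₁'⟩ := hbase c' c'' hc' hc'' hp' hp'' (by rw [h1, h2, h])
  rw [mem_cfgStab] at hg₁
  obtain ⟨hgM, hgc, -⟩ := hg₁
  have hg0 := hgc c₀ (List.mem_singleton.mpr rfl)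
  refine ⟨(t : Equiv.Perm GolayPt)⁻¹ * g₁ * t, mul_mem (mul_mem (inv_mem t.2) hgM) t.2, ?_, ?_⟩
  · rw [mul_smul, mul_smul, ht', hg0, ← ht', inv_smul_smul]
  · rw [mul_smul, mul_smul, e', hg₁', ← e'', inv_smul_smul]

end Cfsg.Agent.Helper1.Golay
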