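import Mathlib
import Cfsg.Agent.Helper1.GolayOrb2

set_option autoImplicit false

namespace Cfsg.Agent.Helper1.Golay

open Cfsg
open scoped Pointwise

/-- The type of a set `s` relative to some positions: a base value followed by the membership
bits of the positions. -/
def ftyp (ps : List ℕ) (a : ℕ) (s : Finset GolayPt) : ℕ :=
  ps.foldl (fun acc i => 2 * acc + (if unpos i ∈ s then 1 else 0)) a

/-- The type of a coordinate relative to a base coordinate and some positions. -/
def typB (c₀ : ℕ) (ps : List ℕ) (c : ℕ) : ℕ :=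
  ps.foldl (fun acc i => 2 * acc + bitAt (comb c) i) (popc (comb c₀ &&& comb c))

theorem foldl_bits (n : ℕ) (ps : List ℕ) (hps : ∀ i ∈ ps, i < 24) : ∀ a : ℕ,
    ps.foldl (fun acc i => 2 * acc + bitAt n i) a
      = ps.foldl (fun acc i => 2 * acc + (if unpos i ∈ support₂ (ofBits n) then 1 else 0)) a := by
  induction ps with
  | nil =>
    intro a
    rfl
  | cons i ps ih =>
    intro a
    simp only [List.foldl_cons]
    rw [ih (fun j hj => hps j (List.mem_cons_of_mem _ hj))]
    have e : bitAt n i = (if unpos i ∈ support₂ (ofBits n) then 1 else 0) := by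
      have hiff : unpos i ∈ support₂ (ofBits n) ↔ n.testBit i = true := by
        rw [mem_support₂_ofBits, pos_unpos i (hps i List.mem_cons_self)]
      rw [bitAt_eq]
      by_cases hb : n.testBit i = true
      · rw [if_pos hb, if_pos (hiff.mpr hb)]
      · rw [if_neg hb, if_neg (fun h => hb (hiff.mp h))]
    rw [e]

theorem typB_eq (c₀ : ℕ) (ps : List ℕ) (hps : ∀ i ∈ ps, i < 24) (c : ℕ) :
    typB c₀ ps c = ftyp ps ((support₂ (ofBits (comb c₀)) ∩ support₂ (ofBits (comb c))).card)
      (support₂ (ofBits (comb c))) := by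
  rw [typB, ftyp, card_support_inter, foldl_bits _ ps hps]

/-- Reachability inside a configuration stabiliser from orbit certificates: `classes` lists
`(type, root, mask, certificate)`. -/
theorem base_of_classes (cs ps : List ℕ) (hps : ∀ i ∈ ps, i < 24) (Ws m : ℕ) (typ : ℕ → ℕ)
    (classes : List (ℕ × ℕ × ℕ × List ℕ))
    (hg : chkGens Ws cs ps = true)
    (hw : classes.all (fun e => Nat.beq (orbWalk Ws e.2.2.2 (1 <<< e.2.1)) e.2.2.1) = true)
    (hc : (List.range 4096).all (fun c => cond (Nat.beq (popc (comb c)) m)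
      (classes.all (fun e => cond (Nat.beq (typ c) e.1) (e.2.2.1.testBit c) true)) true) = true)
    (c' c'' : ℕ) (hc' : c' < 4096) (hc'' : c'' < 4096) (hp' : popc (comb c') = m)
    (hp'' : popc (comb c'') = m) (ht : typ c' = typ c'')
    (hmem : ∃ e ∈ classes, typ c' = e.1) : ReachIn (cfgStab cs ps) c' c'' := by
  have h1 := List.all_eq_true.mp hc c' (List.mem_range.mpr hc')
  have h2 := List.all_eq_true.mp hc c'' (List.mem_range.mpr hc'')
  rw [hp'] at h1
  rw [hp''] at h2
  rw [Nat.beq_refl, cond_true] at h1 h2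
  obtain ⟨e, he, hte⟩ := hmem
  have m1 := List.all_eq_true.mp h1 e he
  have m2 := List.all_eq_true.mp h2 e he
  rw [hte, Nat.beq_refl, cond_true] at m1
  rw [← ht, hte, Nat.beq_refl, cond_true] at m2
  have hwalk := Nat.eq_of_beq_eq_true (List.all_eq_true.mp hw e he)
  rw [← hwalk] at m1 m2
  exact reachIn_pair (orbit_reach cs ps hps Ws hg e.2.1 e.2.2.2 c' m1)
    (orbit_reach cs ps hps Ws hg e.2.1 e.2.2.2 c'' m2)

/-- Transport of a base transitivity statement for a configuration stabiliser. -/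
theorem stab_trans_of_base' (m c₀ : ℕ) (ps : List ℕ) (hps : ∀ i ∈ ps, i < 24)
    (o : Finset GolayPt) (t : Equiv.Perm GolayPt) (ht : t ∈ M24)
    (hto : t • o = support₂ (ofBits (comb c₀)))
    (o' o'' : Finset GolayPt) (ho' : o' ∈ wordsOfWeight (golayCode : Set (GolayPt → ZMod 2)) m)
    (ho'' : o'' ∈ wordsOfWeight (golayCode : Set (GolayPt → ZMod 2)) m)
    (hbase : ∀ c' c'', c' < 4096 → c'' < 4096 → popc (comb c') = m → popc (comb c'') = m →
      typB c₀ ps c' = ftyp ps ((o ∩ o').card) (t • o') →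
      typB c₀ ps c'' = ftyp ps ((o ∩ o'').card) (t • o'') →
      ReachIn (cfgStab [c₀] ps) c' c'') :
    ∃ g : Equiv.Perm GolayPt, g ∈ M24 ∧ g • o = o
      ∧ (∀ i ∈ ps, g (t⁻¹ (unpos i)) = t⁻¹ (unpos i)) ∧ g • o' = o'' := by
  obtain ⟨c', hc', hp', e'⟩ := exists_index_of_mem (smul_mem_wordsOfWeight ht ho')
  obtain ⟨c'', hc'', hp'', e''⟩ := exists_index_of_mem (smul_mem_wordsOfWeight ht ho'')
  have h1 : typB c₀ ps c' = ftyp ps ((o ∩ o').card) (t • o') := by
    rw [typB_eq c₀ ps hps, ← hto, ← e', ← Finset.smul_finset_inter, Finset.card_smul_finset]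
  have h2 : typB c₀ ps c'' = ftyp ps ((o ∩ o'').card) (t • o'') := by
    rw [typB_eq c₀ ps hps, ← hto, ← e'', ← Finset.smul_finset_inter, Finset.card_smul_finset]
  obtain ⟨g₁, hg₁, hg₁'⟩ := hbase c' c'' hc' hc'' hp' hp'' h1 h2
  rw [mem_cfgStab] at hg₁
  obtain ⟨hgM, hgc, hgp⟩ := hg₁
  have hg0 := hgc c₀ (List.mem_singleton.mpr rfl)
  refine ⟨t⁻¹ * g₁ * t, mul_mem (mul_mem (inv_mem ht) hgM) ht, ?_, ?_, ?_⟩
  · rw [mul_smul, mul_smul, hto, hg0, ← hto, inv_smul_smul]
  · intro i hi
    simp only [Equiv.Perm.mul_apply]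
    have e1 : t (t⁻¹ (unpos i)) = unpos i := Equiv.apply_symm_apply t (unpos i)
    rw [e1, hgp i hi]
  · rw [mul_smul, mul_smul, e', hg₁', ← e'', inv_smul_smul]

/-- Transport of a count to the base configuration. -/
theorem count_of_base (m c₀ : ℕ) (ps : List ℕ) (hps : ∀ i ∈ ps, i < 24) (o : Finset GolayPt)
    (t : Equiv.Perm GolayPt) (ht : t ∈ M24) (hto : t • o = support₂ (ofBits (comb c₀)))
    (τ : ℕ) :
    {o' : Finset GolayPt | o' ∈ wordsOfWeight (golayCode : Set (GolayPt → ZMod 2)) m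
        ∧ ftyp ps ((o ∩ o').card) (t • o') = τ}.ncard
      = ((Finset.range 4096).filter (fun c => popc (comb c) = m ∧ typB c₀ ps c = τ)).card := by
  have hinj : Set.InjOn (fun c => t⁻¹ • support₂ (ofBits (comb c)))
      ↑((Finset.range 4096).filter (fun c => popc (comb c) = m ∧ typB c₀ ps c = τ)) := by
    intro c hc c' hc' h
    rw [Finset.mem_coe, Finset.mem_filter, Finset.mem_range] at hc hc'
    exact ofBits_comb_inj hc.1 hc'.1 (support₂_injective (smul_left_cancel _ h))
  have e : {o' : Finset GolayPt | o' ∈ wordsOfWeight (golayCode : Set (GolayPt → ZMod 2)) m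
        ∧ ftyp ps ((o ∩ o').card) (t • o') = τ}
      = (fun c => t⁻¹ • support₂ (ofBits (comb c))) ''
        ↑((Finset.range 4096).filter (fun c => popc (comb c) = m ∧ typB c₀ ps c = τ)) := by
    ext o'
    simp only [Set.mem_ofPred_eq, Set.mem_image, Finset.coe_filter, Finset.mem_range]
    constructor
    · rintro ⟨ho', hτ⟩
      obtain ⟨c, hc, hp, e'⟩ := exists_index_of_mem (smul_mem_wordsOfWeight ht ho')
      refine ⟨c, ⟨hc, hp, ?_⟩, by rw [← e', inv_smul_smul]⟩
      rw [typB_eq c₀ ps hps, ← hto, ← e', ← Finset.smul_finset_inter, Finset.card_smul_finset]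
      exact hτ
    · rintro ⟨c, ⟨hc, hp, hτ⟩, rfl⟩
      have hmem : support₂ (ofBits (comb c))
          ∈ wordsOfWeight (golayCode : Set (GolayPt → ZMod 2)) m :=
        ⟨⟨_, ofBits_comb_mem c, rfl⟩, by rw [card_support₂, hammingNorm_ofBits, hp]⟩
      refine ⟨smul_mem_wordsOfWeight (inv_mem ht) hmem, ?_⟩
      rw [smul_inv_smul]
      rw [typB_eq c₀ ps hps, ← hto] at hτ
      have hcard : (o ∩ t⁻¹ • support₂ (ofBits (comb c))).card
          = (t • o ∩ support₂ (ofBits (comb c))).card := by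
        rw [← Finset.card_smul_finset t (o ∩ t⁻¹ • support₂ (ofBits (comb c))),
          Finset.smul_finset_inter, smul_inv_smul]
      rw [hcard]
      exact hτ
  rw [e, hinj.ncard_image, Set.ncard_coe_finset]

end Cfsg.Agent.Helper1.Golay
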