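import Mathlib

set_option autoImplicit false

namespace Cfsg.Agent.Helper1

open Subgroup

/-- Normaliser of a Sylow subgroup of prime order, from the centraliser of a generator and
Sylow's congruence. -/
theorem sylow_prime_normalizer {G : Type*} [Group G] [Finite G] (p : ℕ) [hp : Fact p.Prime]
    (m c₀ : ℕ) (hcard : Nat.card G = p * m) (hm : ¬ p ∣ m)
    (σ : G) (hσ : orderOf σ = p)
    (hcent : Nat.card (Subgroup.centralizer ({σ} : Set G)) ∣ p * c₀)
    (hnum : ∀ c k, c ∣ c₀ → k ∣ p - 1 → (m / (c * k)) % p = 1 → c = 1 ∧ k.Prime) :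
    ∃ P : Sylow p G, Nat.card (P : Subgroup G) = p ∧
      ∃ k, k.Prime ∧ k ∣ p - 1 ∧ Nat.card (normalizer ((P : Subgroup G) : Set G)) = k * p := by
  have hp' := hp.out
  have hmpos : 0 < m := by
    rcases Nat.eq_zero_or_pos m with h | h
    · exact absurd (h ▸ dvd_zero p) hm
    · exact h
  have hZcard : Nat.card (zpowers σ) = p := by rw [Nat.card_zpowers, hσ]
  have hfac : (Nat.card G).factorization p = 1 := by
    rw [hcard, Nat.factorization_mul hp'.ne_zero hmpos.ne', Finsupp.add_apply,
      hp'.factorization_self, Nat.factorization_eq_zero_of_not_dvd hm]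
  have hZ' : Nat.card (zpowers σ) = p ^ (Nat.card G).factorization p := by
    rw [hZcard, hfac, pow_one]
  refine ⟨Sylow.ofCard (zpowers σ) hZ', ?_, ?_⟩
  · rw [Sylow.coe_ofCard, hZcard]
  rw [Sylow.coe_ofCard]
  have hCeq : centralizer ((zpowers σ : Subgroup G) : Set G) = centralizer ({σ} : Set G) := by
    ext g
    simp only [mem_centralizer_iff, SetLike.mem_coe, Set.mem_singleton_iff, forall_eq]
    constructor
    · intro h
      exact h σ (mem_zpowers σ)
    · rintro h x ⟨i, rfl⟩
      exact ((show Commute σ g from h).zpow_left i).eq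
  have hZC : zpowers σ ≤ centralizer ((zpowers σ : Subgroup G) : Set G) := by
    rw [hCeq]
    rintro x ⟨i, rfl⟩
    rw [mem_centralizer_iff]
    intro h hh
    rw [Set.mem_singleton_iff] at hh
    subst hh
    exact ((Commute.refl h).zpow_right i).eq
  have hCN := centralizer_le_normalizer ((zpowers σ : Subgroup G) : Set G)
  obtain ⟨c, hc⟩ : p ∣ Nat.card (centralizer ((zpowers σ : Subgroup G) : Set G)) := by
    have h := card_dvd_of_le hZC
    rwa [hZcard] at h
  have hcc : c ∣ c₀ := by
    rw [hCeq] at hc
    rw [hc] at hcent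
    exact (Nat.mul_dvd_mul_iff_left hp'.pos).mp hcent
  have hcyc : IsCyclic (zpowers σ) := isCyclic_of_prime_card hZcard
  have key := card_dvd_of_injective _
    (QuotientGroup.kerLift_injective (zpowers σ).normalizerMonoidHom)
  rw [normalizerMonoidHom_ker, ← index, ← relIndex, hcyc.card_mulAut, hZcard,
    Nat.totient_prime hp'] at key
  have hN1 : Nat.card (centralizer ((zpowers σ : Subgroup G) : Set G))
      * (centralizer ((zpowers σ : Subgroup G) : Set G)).relIndex
        (normalizer ((zpowers σ : Subgroup G) : Set G))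
      = Nat.card (normalizer ((zpowers σ : Subgroup G) : Set G)) := by
    have h := Subgroup.card_mul_index ((centralizer ((zpowers σ : Subgroup G) : Set G)).subgroupOf
      (normalizer ((zpowers σ : Subgroup G) : Set G)))
    rw [Nat.card_congr (Subgroup.subgroupOfEquivOfLe hCN).toEquiv] at h
    exact h
  have hN2 := Subgroup.card_mul_index (normalizer ((zpowers σ : Subgroup G) : Set G))
  have hS1 : Nat.card (Sylow p G) = (normalizer ((zpowers σ : Subgroup G) : Set G)).index :=
    Sylow.card_eq_index_normalizer (Sylow.ofCard (zpowers σ) hZ')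
  have hS2 := card_sylow_modEq_one p G
  rw [hS1] at hS2
  set k := (centralizer ((zpowers σ : Subgroup G) : Set G)).relIndex
        (normalizer ((zpowers σ : Subgroup G) : Set G)) with hk
  set n := (normalizer ((zpowers σ : Subgroup G) : Set G)).index with hn
  have hkpos : 0 < k := Nat.pos_of_ne_zero (fun h0 => by
    rw [h0] at key
    have := Nat.eq_zero_of_zero_dvd key
    have := hp'.two_le
    omega)
  have hcpos : 0 < c := Nat.pos_of_ne_zero (fun h0 => by
    rw [h0, mul_zero] at hc
    exact (Nat.card_pos (α := centralizer ((zpowers σ : Subgroup G) : Set G))).ne' hc)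
  have hm2 : n * (c * k) = m := by
    rw [← hN1, hc, hcard] at hN2
    have : p * (n * (c * k)) = p * m := by rw [← hN2]; ring
    exact Nat.eq_of_mul_eq_mul_left hp'.pos this
  have hdiv : m / (c * k) = n := by
    rw [← hm2]
    exact Nat.mul_div_cancel _ (Nat.mul_pos hcpos hkpos)
  have hS3 : n % p = 1 := by
    have h := hS2
    unfold Nat.ModEq at h
    rwa [Nat.mod_eq_of_lt hp'.one_lt] at h
  obtain ⟨hc1, hkp⟩ := hnum c k hcc key (by rw [hdiv]; exact hS3)
  refine ⟨k, hkp, key, ?_⟩
  rw [← hN1, hc, hc1]
  ring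

/-- Simplicity from a Sylow subgroup of prime order with known normaliser. -/
theorem simple_of_sylow_prime' {G : Type*} [Group G] [Finite G] (p : ℕ) [hp : Fact p.Prime]
    (m : ℕ) (hcard : Nat.card G = p * m) (hm : ¬ p ∣ m)
    (P : Sylow p G) (hPcard : Nat.card (P : Subgroup G) = p)
    (k : ℕ) (hk : k.Prime) (hkp : k ∣ p - 1)
    (hNn : Nat.card (normalizer ((P : Subgroup G) : Set G)) = k * p)
    (hnorm : ∀ N : Subgroup G, N.Normal → N ≠ ⊥ → p ∣ Nat.card N)
    (hbig : p * (p - 1) < Nat.card G) : IsSimpleGroup G := by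
  have hp' := hp.out
  have hmpos : 0 < m := by
    rcases Nat.eq_zero_or_pos m with h | h
    · exact absurd (h ▸ dvd_zero p) hm
    · exact h
  have hnt : Nontrivial G := by
    rw [← Finite.one_lt_card_iff_nontrivial, hcard]
    have h2 := hp'.two_le
    nlinarith
  refine ⟨fun N hN => ?_⟩
  by_cases hbot : N = ⊥
  · exact Or.inl hbot
  right
  have hpN := hnorm N hN hbot
  have hfact : Fact (Nat.card (P : Subgroup G)).Prime := ⟨by rw [hPcard]; exact hp'⟩
  have hPN : (P : Subgroup G) ≤ N := by
    by_contra hnot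
    have hinj : Function.Injective ((QuotientGroup.mk' N).comp (P : Subgroup G).subtype) := by
      rw [injective_iff_map_eq_one]
      intro x hx
      rw [MonoidHom.comp_apply, QuotientGroup.mk'_apply, QuotientGroup.eq_one_iff] at hx
      by_contra hx1
      have htop := zpowers_eq_top_of_prime_card (G := (P : Subgroup G)) rfl hx1
      apply hnot
      intro y hy
      have hmem : (⟨y, hy⟩ : (P : Subgroup G)) ∈ zpowers x := by
        rw [htop]
        trivial
      obtain ⟨i, hi⟩ := hmem
      have hyx : y = ((x : (P : Subgroup G)) : G) ^ i := by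
        have := congrArg (Subtype.val) hi
        simpa using this.symm
      rw [hyx]
      exact N.zpow_mem hx i
    have hdvd := Subgroup.card_dvd_of_injective _ hinj
    rw [hPcard, ← Subgroup.index_eq_card] at hdvd
    have h1 := Subgroup.card_mul_index N
    obtain ⟨a, ha⟩ := hpN
    obtain ⟨b, hb⟩ := hdvd
    rw [ha, hb, hcard] at h1
    apply hm
    refine ⟨a * b, ?_⟩
    have : p * (p * (a * b)) = p * m := by rw [← h1]; ring
    exact (Nat.eq_of_mul_eq_mul_left hp'.pos this).symm
  have hPNn : (P : Subgroup G) ≤ normalizer ((P : Subgroup G) : Set G) := le_normalizer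
  have hPK : (P : Subgroup G) ≤ N ⊓ normalizer ((P : Subgroup G) : Set G) := le_inf hPN hPNn
  have hK1 := Subgroup.card_dvd_of_le hPK
  have hK2 := Subgroup.card_dvd_of_le
    (inf_le_right : N ⊓ normalizer ((P : Subgroup G) : Set G) ≤ normalizer ((P : Subgroup G) : Set G))
  rw [hPcard] at hK1
  rw [hNn] at hK2
  obtain ⟨j, hj⟩ := hK1
  have hjk : j ∣ k := by
    rw [hj, mul_comm] at hK2
    exact (Nat.mul_dvd_mul_iff_right hp'.pos).mp hK2
  rcases (Nat.dvd_prime hk).mp hjk with h1 | h1
  · exfalso
    have hKP : (P : Subgroup G) = N ⊓ normalizer ((P : Subgroup G) : Set G) :=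
      Subgroup.eq_of_le_of_card_ge hPK (by rw [hj, h1, hPcard, mul_one])
    have hQcard : Nat.card ((P.subtype hPN : Sylow p N) : Subgroup N) = p := by
      rw [Sylow.coe_subtype, Nat.card_congr (Subgroup.subgroupOfEquivOfLe hPN).toEquiv, hPcard]
    have hQ : normalizer (((P.subtype hPN : Sylow p N) : Subgroup N) : Set N)
        ≤ centralizer (((P.subtype hPN : Sylow p N) : Subgroup N) : Set N) := by
      intro x hx
      have hxN : (x : G) ∈ normalizer ((P : Subgroup G) : Set G) := by
        rw [mem_normalizer_iff]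
        intro y
        rw [mem_normalizer_iff] at hx
        constructor
        · intro hy
          have h := (hx ⟨y, hPN hy⟩).mp hy
          exact h
        · intro hy
          have hyN : y ∈ N := by
            have h := N.mul_mem (N.mul_mem (N.inv_mem x.2) (hPN hy)) x.2
            simpa [mul_assoc] using h
          have h := (hx ⟨y, hyN⟩).mpr hy
          exact h
      have hxP : (x : G) ∈ (P : Subgroup G) := by
        rw [hKP]
        exact ⟨x.2, hxN⟩
      rw [mem_centralizer_iff]
      intro z hz
      have hz : (z : G) ∈ (P : Subgroup G) := hz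
      have hcyc : IsCyclic (P : Subgroup G) := isCyclic_of_prime_card hPcard
      have hcomm : (⟨(z : G), hz⟩ : (P : Subgroup G)) * ⟨(x : G), hxP⟩
          = ⟨(x : G), hxP⟩ * ⟨(z : G), hz⟩ := IsCyclic.commGroup.mul_comm _ _
      apply Subtype.ext
      have := congrArg Subtype.val hcomm
      simpa using this
    have hcompl := MonoidHom.ker_transferSylow_isComplement' (P.subtype hPN) hQ
    have hndvd := MonoidHom.not_dvd_card_ker_transferSylow (P.subtype hPN) hQ
    have hnormal : ((MonoidHom.transferSylow (P.subtype hPN) hQ).ker.map N.subtype).Normal := by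
      constructor
      intro x hx g
      obtain ⟨y, hy, rfl⟩ := hx
      have hz : g * (N.subtype y) * g⁻¹ ∈ N := hN.conj_mem _ y.2 g
      refine ⟨⟨_, hz⟩, ?_, rfl⟩
      rw [SetLike.mem_coe, MonoidHom.mem_ker]
      have e1 : orderOf (MonoidHom.transferSylow (P.subtype hPN) hQ ⟨_, hz⟩)
          ∣ orderOf (⟨_, hz⟩ : N) := orderOf_map_dvd _ _
      have e2 : orderOf (⟨_, hz⟩ : N) = orderOf y := by
        rw [← Subgroup.orderOf_coe, ← Subgroup.orderOf_coe y]
        exact orderOf_injective (MulAut.conj g).toMonoidHom (MulAut.conj g).injective (y : G)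
      have e3 : orderOf y ∣ Nat.card (MonoidHom.transferSylow (P.subtype hPN) hQ).ker := by
        have h := orderOf_dvd_natCard (⟨y, hy⟩ : (MonoidHom.transferSylow (P.subtype hPN) hQ).ker)
        rwa [Subgroup.orderOf_mk] at h
      have e4 : orderOf (MonoidHom.transferSylow (P.subtype hPN) hQ ⟨_, hz⟩) ∣ p := by
        have h := orderOf_dvd_natCard (MonoidHom.transferSylow (P.subtype hPN) hQ ⟨_, hz⟩)
        rwa [hQcard] at h
      have e5 : orderOf (MonoidHom.transferSylow (P.subtype hPN) hQ ⟨_, hz⟩) = 1 := by
        rcases (Nat.dvd_prime hp').mp e4 with h | h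
        · exact h
        · exfalso
          apply hndvd
          have e := e1.trans (e2 ▸ e3)
          rwa [h] at e
      exact orderOf_eq_one_iff.mp e5
    have hK''bot : (MonoidHom.transferSylow (P.subtype hPN) hQ).ker.map N.subtype = ⊥ := by
      by_contra hne
      have h := hnorm _ hnormal hne
      rw [Subgroup.card_map_of_injective N.subtype_injective] at h
      exact hndvd h
    have hK'bot : (MonoidHom.transferSylow (P.subtype hPN) hQ).ker = ⊥ := by
      rwa [Subgroup.map_eq_bot_iff_of_injective _ N.subtype_injective] at hK''bot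
    have hcN : Nat.card N = p := by
      have h := hcompl.card_mul_card
      rw [hK'bot, Subgroup.card_bot, one_mul, hQcard] at h
      exact h.symm
    have hNP : (P : Subgroup G) = N := Subgroup.eq_of_le_of_card_ge hPN (by rw [hcN, hPcard])
    have htop : normalizer ((P : Subgroup G) : Set G) = ⊤ := by
      rw [hNP]
      exact Subgroup.normalizer_eq_top_iff.mpr hN
    have hG : Nat.card G = k * p := by
      rw [← hNn, htop, Subgroup.card_top]
    have hkle := Nat.le_of_dvd (by have := hp'.two_le; omega) hkp
    rw [hG] at hbig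
    nlinarith
  · have hKN : N ⊓ normalizer ((P : Subgroup G) : Set G) = normalizer ((P : Subgroup G) : Set G) :=
      Subgroup.eq_of_le_of_card_ge inf_le_right (by rw [hj, h1, hNn, mul_comm])
    have hNnN : normalizer ((P : Subgroup G) : Set G) ≤ N := by
      rw [← hKN]
      exact inf_le_left
    have hfr : normalizer ((P : Subgroup G) : Set G) ⊔ N = ⊤ :=
      Sylow.normalizer_sup_eq_top' P hPN
    rw [sup_eq_right.mpr hNnN] at hfr
    exact hfr

/-- Simplicity from a self-centralising (up to a bounded factor) Sylow subgroup of prime order. -/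
theorem simple_of_sylow_prime {G : Type*} [Group G] [Finite G] (p : ℕ) [hp : Fact p.Prime]
    (m c₀ : ℕ) (hcard : Nat.card G = p * m) (hm : ¬ p ∣ m)
    (σ : G) (hσ : orderOf σ = p)
    (hcent : Nat.card (Subgroup.centralizer ({σ} : Set G)) ∣ p * c₀)
    (hnorm : ∀ N : Subgroup G, N.Normal → N ≠ ⊥ → p ∣ Nat.card N)
    (hnum : ∀ c k, c ∣ c₀ → k ∣ p - 1 → (m / (c * k)) % p = 1 → c = 1 ∧ k.Prime)
    (hbig : p * (p - 1) < Nat.card G) : IsSimpleGroup G := by
  obtain ⟨P, hPcard, k, hk, hkp, hNn⟩ :=
    sylow_prime_normalizer p m c₀ hcard hm σ hσ hcent hnum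
  exact simple_of_sylow_prime' p m hcard hm P hPcard k hk hkp hNn hnorm hbig

end Cfsg.Agent.Helper1
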