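import Mathlib
import Cfsg.Agent.Helper1.Simple

set_option autoImplicit false

namespace Cfsg.Agent.Helper1

open Subgroup

section
variable {G α : Type*} [Group G] [MulAction G α]

/-- A normal subgroup acting nontrivially on a set on which the group is 2-transitive is
transitive on that set. -/
theorem normal_transitive (s : Set α)
    (h2 : ∀ a ∈ s, ∀ b ∈ s, a ≠ b → ∀ a' ∈ s, ∀ b' ∈ s, a' ≠ b' →
      ∃ g : G, g • a = a' ∧ g • b = b')
    (N : Subgroup G) (hN : N.Normal) (n₀ : G) (hn₀ : n₀ ∈ N) (x₀ : α) (hx₀ : x₀ ∈ s)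
    (hmove : n₀ • x₀ ≠ x₀) (hin : n₀ • x₀ ∈ s) :
    ∀ a ∈ s, ∀ b ∈ s, ∃ n ∈ N, n • a = b := by
  intro a ha b hb
  by_cases hab : a = b
  · exact ⟨1, N.one_mem, by rw [one_smul, hab]⟩
  · obtain ⟨g, hg1, hg2⟩ := h2 x₀ hx₀ (n₀ • x₀) hin (Ne.symm hmove) a ha b hb hab
    refine ⟨g * n₀ * g⁻¹, hN.conj_mem _ hn₀ g, ?_⟩
    rw [mul_smul, mul_smul, ← hg1, inv_smul_smul, hg2]

/-- Orbit-stabiliser for a subgroup, with the orbit given as a set. -/
theorem card_eq_ncard_mul (N : Subgroup G) (a : α) (s : Set α)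
    (hs : ∀ x, x ∈ s ↔ ∃ n ∈ N, n • a = x) :
    Nat.card N = s.ncard * Nat.card ↥(N ⊓ MulAction.stabilizer G a) := by
  have h := Subgroup.card_mul_index (MulAction.stabilizer N a)
  rw [MulAction.index_stabilizer] at h
  have e1 : MulAction.orbit N a = s := by
    ext x
    rw [hs]
    constructor
    · rintro ⟨⟨g, hg⟩, rfl⟩
      exact ⟨g, hg, rfl⟩
    · rintro ⟨g, hg, rfl⟩
      exact ⟨⟨g, hg⟩, rfl⟩
  have e2 : Nat.card (MulAction.stabilizer N a)
      = Nat.card ↥(N ⊓ MulAction.stabilizer G a) := by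
    apply Nat.card_congr
    exact
      { toFun := fun g => ⟨g.1.1, Subgroup.mem_inf.mpr ⟨g.1.2, g.2⟩⟩
        invFun := fun g => ⟨⟨g.1, (Subgroup.mem_inf.mp g.2).1⟩, (Subgroup.mem_inf.mp g.2).2⟩
        left_inv := fun g => rfl
        right_inv := fun g => rfl }
  rw [← h, e1, e2, mul_comm]

/-- The order of a nontrivial normal subgroup is divisible by the size of a set on which the
group acts faithfully and 2-transitively. -/
theorem ncard_dvd_card_of_normal (s : Set α)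
    (hinv : ∀ g : G, ∀ x ∈ s, g • x ∈ s)
    (hfaith : ∀ g : G, (∀ x ∈ s, g • x = x) → g = 1)
    (h2 : ∀ a ∈ s, ∀ b ∈ s, a ≠ b → ∀ a' ∈ s, ∀ b' ∈ s, a' ≠ b' →
      ∃ g : G, g • a = a' ∧ g • b = b')
    (N : Subgroup G) (hN : N.Normal) (hbot : N ≠ ⊥) : s.ncard ∣ Nat.card N := by
  obtain ⟨n₀, hn₀, hn₀1⟩ : ∃ n ∈ N, n ≠ 1 := by
    by_contra hcon
    exact hbot ((Subgroup.eq_bot_iff_forall N).mpr fun x hx => by_contra fun h => hcon ⟨x, hx, h⟩)
  obtain ⟨x₀, hx₀, hmove⟩ : ∃ x ∈ s, n₀ • x ≠ x := by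
    by_contra hcon
    exact hn₀1 (hfaith n₀ fun x hx => by_contra fun h => hcon ⟨x, hx, h⟩)
  have htr := normal_transitive s h2 N hN n₀ hn₀ x₀ hx₀ hmove (hinv n₀ x₀ hx₀)
  have h := card_eq_ncard_mul N x₀ s (fun x =>
    ⟨fun hx => htr x₀ hx₀ x hx, fun ⟨n, _, e⟩ => e ▸ hinv n x₀ hx₀⟩)
  exact ⟨_, h⟩

theorem exists_third [Finite α] (s : Set α) (h : 3 ≤ s.ncard) (a b : α) :
    ∃ c ∈ s, c ≠ a ∧ c ≠ b := by
  classical
  by_contra hcon
  have hsub : s ⊆ (({a, b} : Finset α) : Set α) := by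
    intro x hx
    by_contra hx'
    apply hcon
    refine ⟨x, hx, ?_, ?_⟩
    · rintro rfl
      exact hx' (by simp)
    · rintro rfl
      exact hx' (by simp)
  have h1 := Set.ncard_le_ncard hsub (Set.toFinite _)
  rw [Set.ncard_coe_finset] at h1
  have h2 : ({a, b} : Finset α).card ≤ 2 := Finset.card_le_two
  omega

theorem exists_fourth [Finite α] (s : Set α) (h : 4 ≤ s.ncard) (a b c : α) :
    ∃ y ∈ s, y ≠ a ∧ y ≠ b ∧ y ≠ c := by
  classical
  by_contra hcon
  have hsub : s ⊆ (({a, b, c} : Finset α) : Set α) := by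
    intro x hx
    by_contra hx'
    apply hcon
    refine ⟨x, hx, ?_, ?_, ?_⟩
    · rintro rfl
      exact hx' (by simp)
    · rintro rfl
      exact hx' (by simp)
    · rintro rfl
      exact hx' (by simp)
  have h1 := Set.ncard_le_ncard hsub (Set.toFinite _)
  rw [Set.ncard_coe_finset] at h1
  have h2 : ({a, b, c} : Finset α).card ≤ 3 := Finset.card_le_three
  omega

/-- A finite group acting faithfully and 3-transitively on a set whose size is at least 4 and
not a power of 2, with a simple point stabiliser, is simple. -/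
theorem simple_of_three_trans [Finite G] [Finite α] (s : Set α)
    (hinv : ∀ g : G, ∀ x ∈ s, g • x ∈ s)
    (hfaith : ∀ g : G, (∀ x ∈ s, g • x = x) → g = 1)
    (h3 : ∀ a ∈ s, ∀ b ∈ s, ∀ c ∈ s, a ≠ b → a ≠ c → b ≠ c →
      ∀ a' ∈ s, ∀ b' ∈ s, ∀ c' ∈ s, a' ≠ b' → a' ≠ c' → b' ≠ c' →
      ∃ g : G, g • a = a' ∧ g • b = b' ∧ g • c = c')
    (q : ℕ) (hq : q.Prime) (hq2 : q ≠ 2) (hqs : q ∣ s.ncard) (hs4 : 4 ≤ s.ncard)
    (p : α) (hp : p ∈ s) (hsimple : IsSimpleGroup (MulAction.stabilizer G p)) :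
    IsSimpleGroup G := by
  classical
  have hnt : Nontrivial G := by
    obtain ⟨x, y, hxy⟩ := hsimple.toNontrivial.exists_pair_ne
    exact ⟨⟨x, y, fun h => hxy (Subtype.ext h)⟩⟩
  have h2 : ∀ a ∈ s, ∀ b ∈ s, a ≠ b → ∀ a' ∈ s, ∀ b' ∈ s, a' ≠ b' →
      ∃ g : G, g • a = a' ∧ g • b = b' := by
    intro a ha b hb hab a' ha' b' hb' hab'
    obtain ⟨c, hc, hca, hcb⟩ := exists_third s (by omega) a b
    obtain ⟨c', hc', hca', hcb'⟩ := exists_third s (by omega) a' b'
    obtain ⟨g, h1, h2, _⟩ := h3 a ha b hb c hc hab (Ne.symm hca) (Ne.symm hcb) a' ha' b' hb'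
      c' hc' hab' (Ne.symm hca') (Ne.symm hcb')
    exact ⟨g, h1, h2⟩
  refine ⟨fun N hN => ?_⟩
  by_cases hbot : N = ⊥
  · exact Or.inl hbot
  right
  obtain ⟨n₀, hn₀, hn₀1⟩ : ∃ n ∈ N, n ≠ 1 := by
    by_contra hcon
    exact hbot ((Subgroup.eq_bot_iff_forall N).mpr fun x hx => by_contra fun h => hcon ⟨x, hx, h⟩)
  obtain ⟨x₀, hx₀, hmove⟩ : ∃ x ∈ s, n₀ • x ≠ x := by
    by_contra hcon
    exact hn₀1 (hfaith n₀ fun x hx => by_contra fun h => hcon ⟨x, hx, h⟩)
  have htr := normal_transitive s h2 N hN n₀ hn₀ x₀ hx₀ hmove (hinv n₀ x₀ hx₀)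
  have hM : (N.subgroupOf (MulAction.stabilizer G p)).Normal := Subgroup.normal_subgroupOf
  rcases hsimple.eq_bot_or_eq_top_of_normal _ hM with hM1 | hM1
  · exfalso
    have hfree : ∀ n ∈ N, n • p = p → n = 1 := by
      intro n hn hnp
      have hmem : (⟨n, hnp⟩ : MulAction.stabilizer G p)
          ∈ N.subgroupOf (MulAction.stabilizer G p) := hn
      rw [hM1, Subgroup.mem_bot] at hmem
      exact congrArg Subtype.val hmem
    have hcardN : Nat.card N = s.ncard := by
      have h := card_eq_ncard_mul N p s (fun x =>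
        ⟨fun hx => htr p hp x hx, fun ⟨n, _, e⟩ => e ▸ hinv n p hp⟩)
      have hbot' : N ⊓ MulAction.stabilizer G p = ⊥ := by
        rw [Subgroup.eq_bot_iff_forall]
        rintro x ⟨hx1, hx2⟩
        exact hfree x hx1 hx2
      rw [hbot', Subgroup.card_bot, mul_one] at h
      exact h
    have hfact : Fact q.Prime := ⟨hq⟩
    obtain ⟨n, hn⟩ := exists_prime_orderOf_dvd_card' (G := N) q (by rw [hcardN]; exact hqs)
    have hnG : orderOf (n : G) = q := by
      rw [Subgroup.orderOf_coe]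
      exact hn
    have hq3 : 3 ≤ q := by
      have := hq.two_le
      omega
    have hn1 : (n : G) ≠ 1 := fun h => by
      rw [h, orderOf_one] at hnG
      omega
    have hn2 : (n : G) ^ 2 ≠ 1 := fun h => by
      have h' := orderOf_dvd_of_pow_eq_one h
      rw [hnG] at h'
      have := Nat.le_of_dvd (by norm_num) h'
      omega
    have hab : p ≠ (n : G) • p := fun h => hn1 (hfree _ n.2 h.symm)
    have hac : p ≠ (n : G) ^ 2 • p := fun h => hn2 (hfree _ (N.pow_mem n.2 2) h.symm)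
    have hbc : (n : G) • p ≠ (n : G) ^ 2 • p := fun h => by
      apply hab
      have h' : (n : G)⁻¹ • ((n : G) • p) = (n : G)⁻¹ • ((n : G) ^ 2 • p) := congrArg _ h
      rw [inv_smul_smul, ← mul_smul, pow_two, inv_mul_cancel_left] at h'
      exact h'
    obtain ⟨y, hy, hya, hyb, hyc⟩ := exists_fourth s hs4 p ((n : G) • p) ((n : G) ^ 2 • p)
    obtain ⟨g, hg1, hg2, hg3⟩ := h3 p hp _ (hinv (n : G) p hp) _ (hinv ((n : G) ^ 2) p hp)
      hab hac hbc p hp _ (hinv (n : G) p hp) y hy hab (Ne.symm hya) (Ne.symm hyb)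
    have hginv : g⁻¹ • p = p := by
      rw [inv_smul_eq_iff, hg1]
    have hconj : g * (n : G) * g⁻¹ = n := by
      have hmem : (n : G)⁻¹ * (g * n * g⁻¹) ∈ N :=
        N.mul_mem (N.inv_mem n.2) (hN.conj_mem _ n.2 g)
      have hfix : ((n : G)⁻¹ * (g * n * g⁻¹)) • p = p := by
        rw [mul_smul, mul_smul, mul_smul, hginv, hg2, inv_smul_smul]
      have h1 := hfree _ hmem hfix
      exact (inv_mul_eq_one.mp h1).symm
    have hcomm : g * (n : G) = n * g := by
      calc g * (n : G) = (g * n * g⁻¹) * g := by group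
        _ = n * g := by rw [hconj]
    have hfixc : g • ((n : G) ^ 2 • p) = (n : G) ^ 2 • p := by
      rw [pow_two, mul_smul, ← mul_smul g, hcomm, mul_smul, ← mul_smul g, hcomm, mul_smul, hg1]
    rw [hg3] at hfixc
    exact hyc hfixc
  · rw [Subgroup.subgroupOf_eq_top] at hM1
    rw [eq_top_iff]
    intro g _
    obtain ⟨n, hn, hnp⟩ := htr p hp (g • p) (hinv g p hp)
    have h1 : n⁻¹ * g ∈ MulAction.stabilizer G p := by
      rw [MulAction.mem_stabilizer_iff, mul_smul, ← hnp, inv_smul_smul]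
    have h2 := N.mul_mem hn (hM1 h1)
    rwa [mul_inv_cancel_left] at h2

/-- An element of prime order `p` acting faithfully on a set of size `p` is transitive on it. -/
theorem prime_order_transitive [Finite α] (s : Set α) (p : ℕ) (hp : p.Prime) (hs : s.ncard = p)
    (hinv : ∀ g : G, ∀ x ∈ s, g • x ∈ s)
    (σ : G) (hσ : orderOf σ = p) (x₀ : α) (hx₀ : x₀ ∈ s) (hmove : σ • x₀ ≠ x₀) :
    ∀ y ∈ s, ∃ i : ℕ, σ ^ i • x₀ = y := by
  classical
  have haux : ∀ i j : ℕ, i < j → j < p → σ ^ i • x₀ ≠ σ ^ j • x₀ := by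
    intro i j hij hj h
    apply hmove
    have h1 : σ ^ (j - i) • x₀ = x₀ := by
      have e : σ ^ j = σ ^ i * σ ^ (j - i) := by
        rw [← pow_add]
        congr 1
        omega
      rw [e, mul_smul] at h
      exact (smul_left_cancel _ h).symm
    have hcop : Nat.Coprime (j - i) p := by
      rw [Nat.coprime_comm, Nat.Prime.coprime_iff_not_dvd hp]
      intro hdvd
      have := Nat.le_of_dvd (by omega) hdvd
      omega
    obtain ⟨t, -, ht⟩ := Nat.exists_mul_mod_eq_one_of_coprime hcop hp.one_lt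
    have h2 : σ ^ ((j - i) * t) ∈ MulAction.stabilizer G x₀ := by
      rw [pow_mul]
      exact Subgroup.pow_mem _ (MulAction.mem_stabilizer_iff.mpr h1) t
    rw [← pow_mod_orderOf, hσ, ht, pow_one] at h2
    exact MulAction.mem_stabilizer_iff.mp h2
  have hinj : Set.InjOn (fun i : ℕ => σ ^ i • x₀) (Finset.range p : Set ℕ) := by
    intro i hi j hj h
    rw [Finset.coe_range, Set.mem_Iio] at hi hj
    rcases Nat.lt_trichotomy i j with hlt | heq | hgt
    · exact absurd h (haux i j hlt hj)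
    · exact heq
    · exact absurd h.symm (haux j i hgt hi)
  have himg : (((Finset.range p).image (fun i : ℕ => σ ^ i • x₀) : Finset α) : Set α) = s := by
    apply Set.eq_of_subset_of_ncard_le
    · intro y hy
      rw [Finset.mem_coe, Finset.mem_image] at hy
      obtain ⟨i, _, rfl⟩ := hy
      exact hinv _ _ hx₀
    · rw [Set.ncard_coe_finset, Finset.card_image_of_injOn hinj, Finset.card_range, hs]
    · exact Set.toFinite _
  intro y hy
  rw [← himg, Finset.mem_coe, Finset.mem_image] at hy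
  obtain ⟨i, _, h⟩ := hy
  exact ⟨i, h⟩

/-- An element of prime order `p` acting faithfully on a set of size `p` is self-centralising. -/
theorem centralizer_of_prime_degree [Finite α] (s : Set α) (p : ℕ) (hp : p.Prime)
    (hs : s.ncard = p)
    (hinv : ∀ g : G, ∀ x ∈ s, g • x ∈ s)
    (hfaith : ∀ g : G, (∀ x ∈ s, g • x = x) → g = 1)
    (σ : G) (hσ : orderOf σ = p) :
    Subgroup.centralizer ({σ} : Set G) = Subgroup.zpowers σ := by
  have hσ1 : σ ≠ 1 := fun h => by
    rw [h, orderOf_one] at hσ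
    have := hp.two_le
    omega
  obtain ⟨x₀, hx₀, hmove⟩ : ∃ x ∈ s, σ • x ≠ x := by
    by_contra hcon
    exact hσ1 (hfaith σ fun x hx => by_contra fun h => hcon ⟨x, hx, h⟩)
  have htr := prime_order_transitive s p hp hs hinv σ hσ x₀ hx₀ hmove
  apply le_antisymm
  · intro g hg
    rw [mem_centralizer_iff] at hg
    have hcomm : Commute σ g := hg σ rfl
    obtain ⟨j, hj⟩ := htr (g • x₀) (hinv g x₀ hx₀)
    have hone : (σ ^ j)⁻¹ * g = 1 := by
      apply hfaith
      intro y hy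
      obtain ⟨i, rfl⟩ := htr y hy
      have e1 : g • (σ ^ i • x₀) = σ ^ i • (σ ^ j • x₀) := by
        rw [← mul_smul, ← (hcomm.pow_left i).eq, mul_smul, hj]
      have e2 : (σ ^ j)⁻¹ * σ ^ i * σ ^ j = σ ^ i := by
        rw [mul_assoc, ← pow_add, add_comm, pow_add, inv_mul_cancel_left]
      rw [mul_smul, e1, ← mul_smul, ← mul_smul, e2]
    rw [inv_mul_eq_one] at hone
    rw [← hone]
    exact Subgroup.pow_mem _ (mem_zpowers σ) j
  · rintro x ⟨i, rfl⟩
    rw [mem_centralizer_iff]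
    intro h hh
    rw [Set.mem_singleton_iff] at hh
    subst hh
    exact ((Commute.refl h).zpow_right i).eq

/-- Simplicity of a finite group acting faithfully and 2-transitively on a set of prime size,
from the numerical Sylow condition. -/
theorem simple_of_prime_degree [Finite G] [Finite α] (s : Set α) (p : ℕ) [hp : Fact p.Prime]
    (hs : s.ncard = p)
    (hinv : ∀ g : G, ∀ x ∈ s, g • x ∈ s)
    (hfaith : ∀ g : G, (∀ x ∈ s, g • x = x) → g = 1)
    (h2 : ∀ a ∈ s, ∀ b ∈ s, a ≠ b → ∀ a' ∈ s, ∀ b' ∈ s, a' ≠ b' →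
      ∃ g : G, g • a = a' ∧ g • b = b')
    (m : ℕ) (hcard : Nat.card G = p * m) (hm : ¬ p ∣ m)
    (hnum : ∀ k, k ∣ p - 1 → (m / k) % p = 1 → k.Prime)
    (hbig : p * (p - 1) < Nat.card G) : IsSimpleGroup G := by
  obtain ⟨σ, hσ⟩ := exists_prime_orderOf_dvd_card' (G := G) p (by rw [hcard]; exact dvd_mul_right _ _)
  have hcent := centralizer_of_prime_degree s p hp.out hs hinv hfaith σ hσ
  refine simple_of_sylow_prime p m 1 hcard hm σ hσ ?_ ?_ ?_ hbig
  · rw [hcent, Nat.card_zpowers, hσ, mul_one]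
  · intro N hN hbot
    have h := ncard_dvd_card_of_normal s hinv hfaith h2 N hN hbot
    rwa [hs] at h
  · intro c k hc hk hmod
    have hc1 : c = 1 := Nat.dvd_one.mp hc
    subst hc1
    rw [one_mul] at hmod
    exact ⟨rfl, hnum k hk hmod⟩

end

end Cfsg.Agent.Helper1
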