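import Mathlib
import Cfsg.Agent.Helper1.Simple2

set_option autoImplicit false

namespace Cfsg.Agent.Helper1

open Subgroup

/-- Maximality of a subgroup containing a point stabiliser, from the sizes of its orbits on
the orbit of the point: no proper union of them containing the base orbit has size dividing
the size of the whole orbit. -/
theorem isCoatom_of_orbit_sizes {G Ω : Type*} [Group G] [Finite G] [MulAction G Ω] [Finite Ω]
    (ω : Ω) (H : Subgroup G) (hH : MulAction.stabilizer G ω ≤ H)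
    (c : Ω → ℕ) (T : Finset ℕ) (n : ℕ → ℕ)
    (h1 : ∀ g : G, c (g • ω) ∈ T)
    (h2 : ∀ i ∈ T, {x | x ∈ MulAction.orbit G ω ∧ c x = i}.ncard = n i)
    (h3 : ∀ g : G, c (g • ω) = c ω → g ∈ H)
    (h4 : ∀ g g' : G, c (g • ω) = c (g' • ω) → ∃ h ∈ H, h • (g • ω) = g' • ω)
    (h5 : ∀ I ∈ T.powerset, c ω ∈ I → (∑ i ∈ I, n i) ∣ (∑ i ∈ T, n i) → I = {c ω} ∨ I = T)
    (h6 : H ≠ ⊤) : IsCoatom H := by
  classical
  refine ⟨h6, ?_⟩
  intro K hK
  have hsum : ∀ I : Finset ℕ, I ⊆ T →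
      {x | x ∈ MulAction.orbit G ω ∧ c x ∈ I}.ncard = ∑ i ∈ I, n i := by
    intro I
    induction I using Finset.induction_on with
    | empty =>
      intro _
      simp
    | insert i I hi ih =>
      intro hsub
      have hI : I ⊆ T := (Finset.insert_subset_iff.mp hsub).2
      have hiT : i ∈ T := (Finset.insert_subset_iff.mp hsub).1
      have e : {x | x ∈ MulAction.orbit G ω ∧ c x ∈ insert i I}
          = {x | x ∈ MulAction.orbit G ω ∧ c x = i}
            ∪ {x | x ∈ MulAction.orbit G ω ∧ c x ∈ I} := by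
        ext x
        simp only [Set.mem_ofPred_eq, Finset.mem_insert, Set.mem_union]
        tauto
      have hdisj : Disjoint {x | x ∈ MulAction.orbit G ω ∧ c x = i}
          {x | x ∈ MulAction.orbit G ω ∧ c x ∈ I} := by
        rw [Set.disjoint_left]
        rintro x ⟨_, hx1⟩ ⟨_, hx2⟩
        exact hi (hx1 ▸ hx2)
      rw [e, Set.ncard_union_eq hdisj (Set.toFinite _) (Set.toFinite _), h2 i hiT, ih hI,
        Finset.sum_insert hi]
  have hIT : T.filter (fun i => ∃ k ∈ K, c (k • ω) = i) ⊆ T := Finset.filter_subset _ _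
  have hmemI : ∀ k ∈ K, c (k • ω) ∈ T.filter (fun i => ∃ k ∈ K, c (k • ω) = i) := by
    intro k hk
    rw [Finset.mem_filter]
    exact ⟨h1 k, k, hk, rfl⟩
  have h0I : c ω ∈ T.filter (fun i => ∃ k ∈ K, c (k • ω) = i) := by
    have h := hmemI 1 K.one_mem
    rwa [one_smul] at h
  have hKorb : ∀ x, (x ∈ MulAction.orbit G ω
      ∧ c x ∈ T.filter (fun i => ∃ k ∈ K, c (k • ω) = i)) ↔ ∃ k ∈ K, k • ω = x := by
    intro x
    constructor
    · rintro ⟨⟨g, rfl⟩, hx⟩
      rw [Finset.mem_filter] at hx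
      obtain ⟨_, k, hk, hck⟩ := hx
      obtain ⟨h, hhH, hh⟩ := h4 k g hck
      exact ⟨h * k, K.mul_mem (hK.le hhH) hk, by rw [mul_smul]; exact hh⟩
    · rintro ⟨k, hk, rfl⟩
      exact ⟨⟨k, rfl⟩, hmemI k hk⟩
  have hcK := card_eq_ncard_mul K ω
    {x | x ∈ MulAction.orbit G ω ∧ c x ∈ T.filter (fun i => ∃ k ∈ K, c (k • ω) = i)} hKorb
  have hKH : K ⊓ MulAction.stabilizer G ω = MulAction.stabilizer G ω :=
    inf_of_le_right (hH.trans hK.le)
  rw [hKH, hsum _ hIT] at hcK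
  have hGorb : ∀ x, (x ∈ MulAction.orbit G ω ∧ c x ∈ T)
      ↔ ∃ k ∈ (⊤ : Subgroup G), k • ω = x := by
    intro x
    constructor
    · rintro ⟨⟨g, rfl⟩, _⟩
      exact ⟨g, Subgroup.mem_top g, rfl⟩
    · rintro ⟨g, _, rfl⟩
      exact ⟨⟨g, rfl⟩, h1 g⟩
  have hcG := card_eq_ncard_mul (⊤ : Subgroup G) ω
    {x | x ∈ MulAction.orbit G ω ∧ c x ∈ T} hGorb
  rw [top_inf_eq, hsum T (Finset.Subset.refl T), Subgroup.card_top] at hcG
  have hdvd : (∑ i ∈ T.filter (fun i => ∃ k ∈ K, c (k • ω) = i), n i) ∣ (∑ i ∈ T, n i) := by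
    have h := Subgroup.card_subgroup_dvd_card K
    rw [hcK, hcG] at h
    exact (Nat.mul_dvd_mul_iff_right Nat.card_pos).mp h
  rcases h5 _ (Finset.mem_powerset.mpr hIT) h0I hdvd with hI1 | hI2
  · exfalso
    apply not_le_of_gt hK
    intro k hk
    apply h3
    have h := hmemI k hk
    rw [hI1, Finset.mem_singleton] at h
    exact h
  · rw [eq_top_iff]
    intro g _
    have hx : g • ω ∈ MulAction.orbit G ω
        ∧ c (g • ω) ∈ T.filter (fun i => ∃ k ∈ K, c (k • ω) = i) :=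
      ⟨⟨g, rfl⟩, by rw [hI2]; exact h1 g⟩
    obtain ⟨k, hk, hkω⟩ := (hKorb _).mp hx
    have hs : k⁻¹ * g ∈ MulAction.stabilizer G ω := by
      rw [MulAction.mem_stabilizer_iff, mul_smul, ← hkω, inv_smul_smul]
    have hm := K.mul_mem hk (hK.le (hH hs))
    rwa [mul_inv_cancel_left] at hm

end Cfsg.Agent.Helper1
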