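import Mathlib
import Cfsg.Agent.Helper1.Orb1556
import Cfsg.Agent.Helper1.GolayOrb2

set_option autoImplicit false

namespace Cfsg.Agent.Helper1.Golay

open Cfsg
open scoped Pointwise

theorem reach1556_4 (c : ℕ) (hc : c < 4096) (hp : popc (comb c) = 8)
    (hk : popc (comb c &&& comb 15) = 4) : ReachIn (cfgStab [15] []) 38 c := by
  have h1 := List.all_eq_true.mp cover1556_4 c (List.mem_range.mpr hc)
  rw [hp, hk] at h1
  rw [← walk1556_4] at h1
  exact orbit_reach [15] [] (by simp) ws1556 gens1556 38 cert1556_4 c h1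

theorem reach1556_2 (c : ℕ) (hc : c < 4096) (hp : popc (comb c) = 8)
    (hk : popc (comb c &&& comb 15) = 2) : ReachIn (cfgStab [15] []) 19 c := by
  have h1 := List.all_eq_true.mp cover1556_2 c (List.mem_range.mpr hc)
  rw [hp, hk] at h1
  rw [← walk1556_2] at h1
  exact orbit_reach [15] [] (by simp) ws1556 gens1556 19 cert1556_2 c h1

theorem reach1556_0 (c : ℕ) (hc : c < 4096) (hp : popc (comb c) = 8)
    (hk : popc (comb c &&& comb 15) = 0) : ReachIn (cfgStab [15] []) 125 c := by
  have h1 := List.all_eq_true.mp cover1556_0 c (List.mem_range.mpr hc)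
  rw [hp, hk] at h1
  rw [← walk1556_0] at h1
  exact orbit_reach [15] [] (by simp) ws1556 gens1556 125 cert1556_0 c h1

theorem base1556 (c' c'' : ℕ) (hc' : c' < 4096) (hc'' : c'' < 4096) (hp' : popc (comb c') = 8)
    (hp'' : popc (comb c'') = 8)
    (h : popc (comb 15 &&& comb c') = popc (comb 15 &&& comb c'')) :
    ReachIn (cfgStab [15] []) c' c'' := by
  have ht' := List.all_eq_true.mp types1556 c' (List.mem_range.mpr hc')
  have ht'' := List.all_eq_true.mp types1556 c'' (List.mem_range.mpr hc'')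
  rw [hp'] at ht'
  rw [hp''] at ht''
  rw [Nat.land_comm (comb 15) (comb c'), Nat.land_comm (comb 15) (comb c'')] at h
  simp only [Nat.beq_refl, cond_true, Bool.or_eq_true] at ht' ht''
  have h88 : popc (comb 15 &&& comb 15) = 8 := by decide
  rcases ht' with ((h0 | h2) | h4) | h15
  · have e := Nat.eq_of_beq_eq_true h0
    exact reachIn_pair (reach1556_0 c' hc' hp' e) (reach1556_0 c'' hc'' hp'' (by rw [← h, e]))
  · have e := Nat.eq_of_beq_eq_true h2
    exact reachIn_pair (reach1556_2 c' hc' hp' e) (reach1556_2 c'' hc'' hp'' (by rw [← h, e]))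
  · have e := Nat.eq_of_beq_eq_true h4
    exact reachIn_pair (reach1556_4 c' hc' hp' e) (reach1556_4 c'' hc'' hp'' (by rw [← h, e]))
  · have e := Nat.eq_of_beq_eq_true h15
    rw [e, h88] at h
    rcases ht'' with ((h0 | h2) | h4) | h15'
    · have e2 := Nat.eq_of_beq_eq_true h0
      omega
    · have e2 := Nat.eq_of_beq_eq_true h2
      omega
    · have e2 := Nat.eq_of_beq_eq_true h4
      omega
    · have e2 := Nat.eq_of_beq_eq_true h15'
      rw [e, e2]
      exact reachIn_refl _ _

theorem octad_stab_trans (o o' o'' : Finset GolayPt) (ho : o ∈ octads) (ho' : o' ∈ octads)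
    (ho'' : o'' ∈ octads) (h : (o ∩ o').card = (o ∩ o'').card) :
    ∃ g : Equiv.Perm GolayPt, g ∈ M24 ∧ g • o = o ∧ g • o' = o'' :=
  stab_trans_of_base 8 8 15 base1556
    (fun o ho => octads_transitive o _ ho baseOctad_mem) o o' o'' ho ho' ho'' h

end Cfsg.Agent.Helper1.Golay
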