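import Mathlib
import Cfsg.Agent.Helper1.Maximal
import Cfsg.Agent.Helper1.Orb1556b
import Cfsg.Agent.Helper1.Steiner2

set_option autoImplicit false

namespace Cfsg.Agent.Helper1.Golay

open Cfsg Cfsg.Agent.Helper1
open scoped Pointwise

/-- The intersection numbers of an octad. -/
theorem octad_interNum (o : Finset GolayPt) (ho : o ∈ octads) :
    interNum octads o 0 = 30 ∧ interNum octads o 2 = 448 ∧ interNum octads o 4 = 280
      ∧ interNum octads o 8 = 1 ∧ interNum octads o 1 = 0 ∧ interNum octads o 3 = 0 := by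
  have hB := octads_steiner
  have hα := card_golayPt
  have hm := fun j hj => steiner_moment hB ho j hj
  have h8 := interNum_self hB ho
  have h5 := interNum_eq_zero hB ho (i := 5) (by norm_num) (by norm_num)
  have h6 := interNum_eq_zero hB ho (i := 6) (by norm_num) (by norm_num)
  have h7 := interNum_eq_zero hB ho (i := 7) (by norm_num) (by norm_num)
  have m4 := hm 4 (by norm_num)
  have m3 := hm 3 (by norm_num)
  have m2 := hm 2 (by norm_num)
  have m1 := hm 1 (by norm_num)
  have m0 := hm 0 (by norm_num)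
  simp only [Finset.sum_range_succ, Finset.sum_range_zero, h5, h6, h7, h8, hα] at m4 m3 m2 m1 m0
  norm_num [Nat.choose] at m4 m3 m2 m1 m0
  refine ⟨by omega, by omega, by omega, h8, by omega, by omega⟩

theorem octad_meet_cases {o o' : Finset GolayPt} (ho : o ∈ octads) (ho' : o' ∈ octads) :
    (o ∩ o').card = 0 ∨ (o ∩ o').card = 2 ∨ (o ∩ o').card = 4 ∨ (o ∩ o').card = 8 := by
  have h := octad_interNum o ho
  have hle : (o ∩ o').card ≤ 8 := by
    rw [← ho.2]
    exact Finset.card_le_card Finset.inter_subset_left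
  have hB := octads_steiner
  have h1 := card_inter_ne_of_interNum_eq_zero h.2.2.2.2.1 ho'
  have h3 := card_inter_ne_of_interNum_eq_zero h.2.2.2.2.2 ho'
  have h5 := card_inter_ne_of_interNum_eq_zero
    (interNum_eq_zero hB ho (i := 5) (by norm_num) (by norm_num)) ho'
  have h6 := card_inter_ne_of_interNum_eq_zero
    (interNum_eq_zero hB ho (i := 6) (by norm_num) (by norm_num)) ho'
  have h7 := card_inter_ne_of_interNum_eq_zero
    (interNum_eq_zero hB ho (i := 7) (by norm_num) (by norm_num)) ho'
  omega

theorem octad_meet_eight {o o' : Finset GolayPt} (ho : o ∈ octads) (ho' : o' ∈ octads)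
    (h : (o ∩ o').card = 8) : o' = o := by
  have hsub : o ∩ o' = o :=
    Finset.eq_of_subset_of_card_le Finset.inter_subset_left (by rw [h, ho.2])
  have hsub' : o ⊆ o' := by
    rw [← hsub]
    exact Finset.inter_subset_right
  exact (Finset.eq_of_subset_of_card_le hsub' (by rw [ho.2, ho'.2])).symm

theorem smul_octad (g : M24) {o : Finset GolayPt} (ho : o ∈ octads) : g • o ∈ octads :=
  smul_mem_wordsOfWeight g.2 ho

theorem smul_dodecad (g : M24) {d : Finset GolayPt} (hd : d ∈ dodecads) : g • d ∈ dodecads :=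
  smul_mem_wordsOfWeight g.2 hd

theorem orbit_octad (o : Finset GolayPt) (ho : o ∈ octads) (x : Finset GolayPt) :
    x ∈ MulAction.orbit M24 o ↔ x ∈ octads := by
  constructor
  · rintro ⟨g, rfl⟩
    exact smul_octad g ho
  · intro hx
    obtain ⟨g, hg⟩ := octads_transitive o x ho hx
    exact ⟨g, hg⟩

theorem orbit_dodecad (d : Finset GolayPt) (hd : d ∈ dodecads) (x : Finset GolayPt) :
    x ∈ MulAction.orbit M24 d ↔ x ∈ dodecads := by
  constructor
  · rintro ⟨g, rfl⟩
    exact smul_dodecad g hd
  · intro hx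
    obtain ⟨g, hg⟩ := dodecads_transitive d x hd hx
    exact ⟨g, hg⟩

/-- The stabiliser of an octad is maximal. -/
theorem octad_stabilizer_isCoatom (o : Finset GolayPt) (ho : o ∈ octads) :
    IsCoatom (MulAction.stabilizer M24 o) := by
  have hnum := octad_interNum o ho
  have hc : (o ∩ o).card = 8 := by rw [Finset.inter_self]; exact ho.2
  have h2 : ∀ i ∈ ({8, 4, 2, 0} : Finset ℕ),
      {x | x ∈ MulAction.orbit M24 o ∧ (o ∩ x).card = i}.ncard
        = (fun i => if i = 8 then 1 else if i = 4 then 280 else if i = 2 then 448 else 30) i := by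
    intro i hi
    have e : {x | x ∈ MulAction.orbit M24 o ∧ (o ∩ x).card = i}
        = {x | x ∈ octads ∧ (o ∩ x).card = i} := by
      ext x
      simp only [Set.mem_ofPred_eq, orbit_octad o ho]
    rw [e, ncard_setOf_inter]
    simp only [Finset.mem_insert, Finset.mem_singleton] at hi
    rcases hi with rfl | rfl | rfl | rfl
    · simpa using hnum.2.2.2.1
    · simpa using hnum.2.2.1
    · simpa using hnum.2.1
    · simpa using hnum.1
  refine isCoatom_of_orbit_sizes o (MulAction.stabilizer M24 o) le_rfl
    (fun x => (o ∩ x).card) ({8, 4, 2, 0} : Finset ℕ)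
    (fun i => if i = 8 then 1 else if i = 4 then 280 else if i = 2 then 448 else 30)
    ?_ h2 ?_ ?_ ?_ ?_
  · intro g
    have h := octad_meet_cases ho (smul_octad g ho)
    simp only [Finset.mem_insert, Finset.mem_singleton]
    omega
  · intro g hg
    rw [hc] at hg
    exact octad_meet_eight ho (smul_octad g ho) hg
  · intro g g' hgg
    obtain ⟨h, hh, h1, h2⟩ := octad_stab_trans o (g • o) (g' • o) ho (smul_octad g ho)
      (smul_octad g' ho) hgg
    exact ⟨⟨h, hh⟩, h1, h2⟩
  · intro I hI h8 hd
    rw [hc] at h8 ⊢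
    revert I
    decide
  · intro htop
    have h0 := h2 0 (by decide)
    have hne : {x | x ∈ MulAction.orbit M24 o ∧ (o ∩ x).card = 0}.Nonempty := by
      rw [← Set.ncard_pos (Set.toFinite _), h0]
      norm_num
    obtain ⟨x, ⟨g, rfl⟩, hx⟩ := hne
    have hg : g ∈ MulAction.stabilizer M24 o := by rw [htop]; exact Subgroup.mem_top g
    rw [MulAction.mem_stabilizer_iff] at hg
    have hx' : (o ∩ g • o).card = 0 := hx
    rw [hg, hc] at hx'
    omega

end Cfsg.Agent.Helper1.Golay
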