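import Mathlib
import Cfsg.Agent.Helper1.Maximal2
import Cfsg.Prelude.Def_SporadicCombinatorics

set_option autoImplicit false

namespace Cfsg.Agent.Helper1.Golay

open Cfsg
open scoped Pointwise

theorem univ_mem_supports :
    (Finset.univ : Finset GolayPt) ∈ supports (golayCode : Set (GolayPt → ZMod 2)) := by
  refine ⟨ofBits 16777215, ofBits_allOnes_mem, ?_⟩
  rw [← one_eq_ofBits]
  ext p
  simp [support₂]

theorem compl_mem_supports {a : Finset GolayPt}
    (ha : a ∈ supports (golayCode : Set (GolayPt → ZMod 2))) :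
    aᶜ ∈ supports (golayCode : Set (GolayPt → ZMod 2)) := by
  have h := symmDiff_mem_supports univ_mem_supports ha
  have e : symmDiff (Finset.univ : Finset GolayPt) a = aᶜ := top_symmDiff a
  rwa [e] at h

theorem octads_ncard : octads.ncard = 759 := by
  have h := ncard_wordsOfWeight 8
  rw [count8] at h
  exact h

theorem octad_ne_of_disjoint {o o' : Finset GolayPt} (ho : o ∈ octads) (hd : Disjoint o o') :
    o ≠ o' := by
  rintro rfl
  rw [disjoint_self, Finset.bot_eq_empty] at hd
  have h := ho.2
  rw [hd, Finset.card_empty] at h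
  exact absurd h (by decide)

/-- The complement of the union of two disjoint octads is an octad. -/
theorem third_octad {o o' : Finset GolayPt} (ho : o ∈ octads) (ho' : o' ∈ octads)
    (hd : Disjoint o o') : (o ∪ o')ᶜ ∈ octads := by
  refine ⟨compl_mem_supports ?_, ?_⟩
  · have h := symmDiff_mem_supports ho.1 ho'.1
    rwa [hd.symmDiff_eq_sup] at h
  · rw [Finset.card_compl, Finset.card_union_of_disjoint hd, ho.2, ho'.2, card_golayPt]

theorem third_octad_disjoint (o o' : Finset GolayPt) :
    Disjoint o (o ∪ o')ᶜ ∧ Disjoint o' (o ∪ o')ᶜ := by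
  constructor
  · exact Finset.disjoint_left.mpr fun x hx hc =>
      (Finset.mem_compl.mp hc) (Finset.mem_union_left _ hx)
  · exact Finset.disjoint_left.mpr fun x hx hc =>
      (Finset.mem_compl.mp hc) (Finset.mem_union_right _ hx)

/-- The trio spanned by two disjoint octads. -/
theorem trio_of_pair {o o' : Finset GolayPt} (ho : o ∈ octads) (ho' : o' ∈ octads)
    (hd : Disjoint o o') : ({o, o', (o ∪ o')ᶜ} : Finset (Finset GolayPt)) ∈ trios := by
  have h3 := third_octad ho ho' hd
  obtain ⟨d1, d2⟩ := third_octad_disjoint o o'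
  have n1 := octad_ne_of_disjoint ho hd
  have n2 := octad_ne_of_disjoint ho d1
  have n3 := octad_ne_of_disjoint ho' d2
  refine ⟨Finset.card_eq_three.mpr ⟨o, o', _, n1, n2, n3, rfl⟩, ?_, ?_⟩
  · intro x hx
    simp only [Finset.mem_insert, Finset.mem_singleton] at hx
    rcases hx with rfl | rfl | rfl
    · exact ho
    · exact ho'
    · exact h3
  · intro x hx y hy hxy
    simp only [Finset.mem_insert, Finset.mem_singleton] at hx hy
    rcases hx with rfl | rfl | rfl <;> rcases hy with rfl | rfl | rfl
    · exact absurd rfl hxy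
    · exact hd
    · exact d1
    · exact hd.symm
    · exact absurd rfl hxy
    · exact d2
    · exact d1.symm
    · exact d2.symm
    · exact absurd rfl hxy

/-- A trio is spanned by any two of its members. -/
theorem trio_eq_of_pair {T : Finset (Finset GolayPt)} (hT : T ∈ trios) {o o' : Finset GolayPt}
    (ho : o ∈ T) (ho' : o' ∈ T) (hne : o ≠ o') : T = {o, o', (o ∪ o')ᶜ} := by
  obtain ⟨hc, hoct, hdis⟩ := hT
  have hc1 : ((T.erase o).erase o').card = 1 := by
    rw [Finset.card_erase_of_mem (Finset.mem_erase.mpr ⟨hne.symm, ho'⟩),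
      Finset.card_erase_of_mem ho, hc]
  obtain ⟨c, hcs⟩ := Finset.card_eq_one.mp hc1
  have hcm : c ∈ (T.erase o).erase o' := by rw [hcs]; exact Finset.mem_singleton_self c
  have hc2 : c ≠ o' := (Finset.mem_erase.mp hcm).1
  have hc3 : c ≠ o := (Finset.mem_erase.mp (Finset.mem_erase.mp hcm).2).1
  have hcT : c ∈ T := (Finset.mem_erase.mp (Finset.mem_erase.mp hcm).2).2
  have hTe : T = {o, o', c} := by
    rw [← Finset.insert_erase ho, ← Finset.insert_erase (Finset.mem_erase.mpr ⟨hne.symm, ho'⟩),
      hcs]
  have hd1 : Disjoint c o := hdis c hcT o ho hc3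
  have hd2 : Disjoint c o' := hdis c hcT o' ho' hc2
  have hsub : c ⊆ (o ∪ o')ᶜ := by
    intro x hx
    rw [Finset.mem_compl, Finset.mem_union]
    rintro (h | h)
    · exact (Finset.disjoint_left.mp hd1 hx) h
    · exact (Finset.disjoint_left.mp hd2 hx) h
  have hdd : Disjoint o o' := hdis o ho o' ho' hne
  have hcard : ((o ∪ o')ᶜ).card ≤ c.card := by
    rw [Finset.card_compl, Finset.card_union_of_disjoint hdd, (hoct o ho).2, (hoct o' ho').2,
      (hoct c hcT).2, card_golayPt]
  have hceq : c = (o ∪ o')ᶜ := Finset.eq_of_subset_of_card_le hsub hcard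
  rw [hTe, hceq]

theorem trios_ncard : trios.ncard = 3795 := by
  classical
  set P : Finset (Finset GolayPt × Finset GolayPt) :=
    ((blocks octads) ×ˢ (blocks octads)).filter (fun p => Disjoint p.1 p.2) with hPdef
  set f : Finset GolayPt × Finset GolayPt → Finset (Finset GolayPt) :=
    fun p => {p.1, p.2, (p.1 ∪ p.2)ᶜ} with hfdef
  have hP : P.card = 759 * 30 := by
    rw [hPdef, Finset.card_filter, Finset.sum_product]
    have hin : ∀ o ∈ blocks octads,
        (∑ o' ∈ blocks octads, if Disjoint o o' then 1 else 0) = 30 := by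
      intro o ho
      rw [mem_blocks] at ho
      rw [← Finset.card_filter, ← (octad_interNum o ho).1, interNum]
      congr 1
      ext c
      simp only [Finset.mem_filter, Finset.card_eq_zero, Finset.disjoint_iff_inter_eq_empty]
    rw [Finset.sum_congr rfl hin, Finset.sum_const, card_blocks, octads_ncard, smul_eq_mul]
  have hmaps : ∀ p ∈ P, f p ∈ blocks trios := by
    intro p hp
    rw [hPdef, Finset.mem_filter, Finset.mem_product, mem_blocks, mem_blocks] at hp
    rw [mem_blocks]
    exact trio_of_pair hp.1.1 hp.1.2 hp.2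
  have hfib : ∀ T ∈ blocks trios, (P.filter (fun p => f p = T)).card = 6 := by
    intro T hT
    rw [mem_blocks] at hT
    have e : P.filter (fun p => f p = T) = T.offDiag := by
      ext ⟨a, b⟩
      rw [Finset.mem_filter, Finset.mem_offDiag, hPdef, Finset.mem_filter, Finset.mem_product,
        mem_blocks, mem_blocks]
      constructor
      · rintro ⟨⟨⟨ha, hb⟩, hdisj⟩, hf⟩
        have h1 : a ∈ f (a, b) := by simp [hfdef]
        have h2 : b ∈ f (a, b) := by simp [hfdef]
        rw [hf] at h1 h2
        exact ⟨h1, h2, octad_ne_of_disjoint ha hdisj⟩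
      · rintro ⟨ha, hb, hne⟩
        exact ⟨⟨⟨hT.2.1 a ha, hT.2.1 b hb⟩, hT.2.2 a ha b hb hne⟩,
          (trio_eq_of_pair hT ha hb hne).symm⟩
    rw [e, Finset.offDiag_card, hT.1]
  have hsum := Finset.card_eq_sum_card_fiberwise hmaps
  rw [Finset.sum_congr rfl hfib, Finset.sum_const, card_blocks, smul_eq_mul, hP] at hsum
  omega

end Cfsg.Agent.Helper1.Golay
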