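import Mathlib
import Cfsg.Agent.Helper1.GolayOrb3
import Cfsg.Agent.Helper1.Trio

set_option autoImplicit false

namespace Cfsg.Agent.Helper1.Golay

open Cfsg
open scoped Pointwise

/-! ### Pulling a mask back along a position table -/

/-- Bit `j < k` of the result is bit `look t j` of `m`. -/
def pullBits (t m : ℕ) : ℕ → ℕ
  | 0 => 0
  | k + 1 => pullBits t m k + bitAt m (look t k) * 2 ^ k

theorem pullBits_lt (t m : ℕ) : ∀ k, pullBits t m k < 2 ^ k := by
  intro k
  induction k with
  | zero => simp [pullBits]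
  | succ k ih =>
    have hb : bitAt m (look t k) ≤ 1 := by
      rw [bitAt_eq]
      split_ifs <;> omega
    have h2 : bitAt m (look t k) * 2 ^ k ≤ 1 * 2 ^ k := Nat.mul_le_mul_right _ hb
    show pullBits t m k + bitAt m (look t k) * 2 ^ k < 2 ^ (k + 1)
    rw [pow_succ]
    omega

theorem testBit_pullBits (t m : ℕ) :
    ∀ k j, (pullBits t m k).testBit j = (decide (j < k) && m.testBit (look t j)) := by
  intro k
  induction k with
  | zero =>
    intro j
    simp [pullBits]
  | succ k ih =>
    intro j
    show (pullBits t m k + bitAt m (look t k) * 2 ^ k).testBit j = _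
    have hlt := pullBits_lt t m k
    rw [bitAt_eq]
    by_cases hb : m.testBit (look t k) = true
    · rw [if_pos hb, one_mul, Nat.add_comm]
      rcases Nat.lt_trichotomy j k with h | h | h
      · rw [Nat.testBit_two_pow_add_gt h, ih]
        have h' : j < k + 1 := Nat.lt_succ_of_lt h
        simp [h, h']
      · subst h
        rw [Nat.testBit_two_pow_add_eq, Nat.testBit_lt_two_pow hlt]
        simp [hb]
      · have h2 : 2 ^ (k + 1) ≤ 2 ^ j := Nat.pow_le_pow_right (by norm_num) h
        rw [pow_succ] at h2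
        rw [Nat.testBit_lt_two_pow (by omega)]
        have h' : ¬ j < k + 1 := by omega
        simp [h']
    · rw [if_neg hb, zero_mul, Nat.add_zero, ih]
      rcases Nat.lt_trichotomy j k with h | h | h
      · have h' : j < k + 1 := Nat.lt_succ_of_lt h
        simp [h, h']
      · subst h
        simp [hb]
      · have h' : ¬ j < k + 1 := by omega
        have h'' : ¬ j < k := by omega
        simp [h', h'']

theorem support_pullBits (σ : Equiv.Perm GolayPt) (t : ℕ)
    (h : ∀ p, pos (σ p) = look t (pos p)) (m : ℕ) :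
    support₂ (ofBits (pullBits t m 24)) = σ⁻¹ • support₂ (ofBits m) := by
  ext p
  rw [Finset.mem_inv_smul_finset_iff, mem_support₂_ofBits, mem_support₂_ofBits,
    testBit_pullBits, Equiv.Perm.smul_def, h p]
  simp [pos_lt p]

theorem mask_inj {m m' : ℕ} (hm : m < 2 ^ 24) (hm' : m' < 2 ^ 24)
    (h : support₂ (ofBits m) = support₂ (ofBits m')) : m = m' := by
  apply Nat.eq_of_testBit_eq
  intro i
  by_cases hi : i < 24
  · obtain ⟨p, rfl⟩ := pos_surj i hi
    have h1 := mem_support₂_ofBits m p
    have h2 := mem_support₂_ofBits m' p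
    rw [h] at h1
    exact Bool.eq_iff_iff.mpr (h1.symm.trans h2)
  · have h2 : 2 ^ 24 ≤ 2 ^ i := Nat.pow_le_pow_right (by norm_num) (by omega)
    rw [Nat.testBit_lt_two_pow (by omega), Nat.testBit_lt_two_pow (by omega)]

/-! ### Families of point sets given by lists of masks -/

/-- The family of the supports of a list of masks. -/
def famOf (l : List ℕ) : Finset (Finset GolayPt) :=
  (l.map (fun m => support₂ (ofBits m))).toFinset

theorem mem_famOf (l : List ℕ) (s : Finset GolayPt) :
    s ∈ famOf l ↔ ∃ m ∈ l, support₂ (ofBits m) = s := by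
  simp [famOf]

/-- The pulled-back list. -/
def pullFam (t : ℕ) (l : List ℕ) : List ℕ := l.map (fun m => pullBits t m 24)

theorem famOf_pullFam (σ : Equiv.Perm GolayPt) (t : ℕ)
    (h : ∀ p, pos (σ p) = look t (pos p)) (l : List ℕ) :
    famOf (pullFam t l) = σ⁻¹ • famOf l := by
  ext s
  rw [Finset.mem_smul_finset]
  simp only [mem_famOf, pullFam, List.mem_map]
  constructor
  · rintro ⟨_, ⟨m, hm, rfl⟩, rfl⟩
    exact ⟨_, ⟨m, hm, rfl⟩, (support_pullBits σ t h m).symm⟩
  · rintro ⟨_, ⟨m, hm, rfl⟩, rfl⟩
    exact ⟨_, ⟨m, hm, rfl⟩, support_pullBits σ t h m⟩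

/-- Mutual inclusion of two lists of masks. -/
def famEq (l l' : List ℕ) : Bool :=
  l.all (fun m => l'.any (fun m' => Nat.beq m m')) && l'.all (fun m => l.any (fun m' => Nat.beq m m'))

theorem famOf_eq_of_famEq {l l' : List ℕ} (h : famEq l l' = true) : famOf l = famOf l' := by
  rw [famEq, Bool.and_eq_true] at h
  obtain ⟨h1, h2⟩ := h
  have key : ∀ {a b : List ℕ}, a.all (fun m => b.any (fun m' => Nat.beq m m')) = true →
      ∀ s, s ∈ famOf a → s ∈ famOf b := by
    intro a b hab s hs
    rw [mem_famOf] at hs ⊢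
    obtain ⟨m, hm, rfl⟩ := hs
    obtain ⟨m', hm', hb⟩ := List.any_eq_true.mp (List.all_eq_true.mp hab m hm)
    exact ⟨m', hm', by rw [Nat.eq_of_beq_eq_true hb]⟩
  exact Finset.Subset.antisymm (key h1) (key h2)

/-- The check that a list of masks is duplicate free. -/
def nodupB : List ℕ → Bool
  | [] => true
  | a :: l => !(l.any (fun b => Nat.beq a b)) && nodupB l

theorem nodup_of_nodupB : ∀ l : List ℕ, nodupB l = true → l.Nodup := by
  intro l
  induction l with
  | nil => intro _; exact List.nodup_nil
  | cons a l ih =>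
    intro h
    rw [nodupB, Bool.and_eq_true] at h
    refine List.nodup_cons.mpr ⟨?_, ih h.2⟩
    intro ha
    have h1 : l.any (fun b => Nat.beq a b) = true :=
      List.any_eq_true.mpr ⟨a, ha, Nat.beq_refl a⟩
    rw [h1] at h
    exact absurd h.1 (by decide)

/-- Masks below `2 ^ 24`, without repetition. -/
def goodList (l : List ℕ) : Bool := l.all (fun m => Nat.blt m 16777216) && nodupB l

theorem goodList_lt {l : List ℕ} (h : goodList l = true) : ∀ m ∈ l, m < 2 ^ 24 := by
  intro m hm
  rw [goodList, Bool.and_eq_true] at h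
  exact Nat.blt_eq.mp (List.all_eq_true.mp h.1 m hm)

theorem goodList_nodup {l : List ℕ} (h : goodList l = true) : l.Nodup := by
  rw [goodList, Bool.and_eq_true] at h
  exact nodup_of_nodupB l h.2

theorem nodup_supports {l : List ℕ} (h : goodList l = true) :
    (l.map (fun m => support₂ (ofBits m))).Nodup := by
  refine List.Nodup.map_on ?_ (goodList_nodup h)
  intro m hm m' hm' e
  exact mask_inj (goodList_lt h m hm) (goodList_lt h m' hm') e

/-- A symmetric key of a list of masks. -/
def keyN (l : List ℕ) : ℕ := (l.map (fun m => m * m)).sum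

theorem keyN_eq_of_famOf_eq {l l' : List ℕ} (h : goodList l = true) (h' : goodList l' = true)
    (e : famOf l = famOf l') : keyN l = keyN l' := by
  have hsub : ∀ {a b : List ℕ}, goodList a = true → goodList b = true → famOf a = famOf b →
      ∀ m ∈ a, m ∈ b := by
    intro a b ha hb hab m hm
    have h1 : support₂ (ofBits m) ∈ famOf a := (mem_famOf a _).mpr ⟨m, hm, rfl⟩
    rw [hab, mem_famOf] at h1
    obtain ⟨m', hm', e'⟩ := h1
    rw [← mask_inj (goodList_lt hb m' hm') (goodList_lt ha m hm) e']
    exact hm'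
  have hfin : l.toFinset = l'.toFinset := by
    ext m
    rw [List.mem_toFinset, List.mem_toFinset]
    exact ⟨hsub h h' e m, hsub h' h e.symm m⟩
  have hperm := List.perm_of_nodup_nodup_toFinset_eq (goodList_nodup h) (goodList_nodup h') hfin
  exact (hperm.map _).sum_eq

/-! ### Walks -/

/-- `t` is the pull table of an element of `K`. -/
def IsPull (K : Subgroup (Equiv.Perm GolayPt)) (t : ℕ) : Prop :=
  ∃ g ∈ K, ∀ l, famOf (pullFam t l) = g • famOf l

/-- Check of a table against a word. -/
def chkTbl (t w : ℕ) : Bool := (List.range 24).all (fun j => Nat.beq (look t j) (actW 32 w j))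

theorem pos_of_chkTbl (t w : ℕ) (h : chkTbl t w = true) (p : GolayPt) :
    pos (elemW 32 w p) = look t (pos p) := by
  rw [pos_elemW]
  exact (Nat.eq_of_beq_eq_true
    (List.all_eq_true.mp h (pos p) (List.mem_range.mpr (pos_lt p)))).symm

/-- The elements of `M24` fixing a family. -/
def famStab (A : Finset (Finset GolayPt)) : Subgroup (Equiv.Perm GolayPt) :=
  M24 ⊓ MulAction.stabilizer (Equiv.Perm GolayPt) A

theorem mem_famStab (A : Finset (Finset GolayPt)) (g : Equiv.Perm GolayPt) :
    g ∈ famStab A ↔ g ∈ M24 ∧ g • A = A := Iff.rfl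

theorem isPull_word (la : List ℕ) (t w : ℕ) (h1 : chkTbl t w = true)
    (h2 : famEq (pullFam t la) la = true) : IsPull (famStab (famOf la)) t := by
  have hp := pos_of_chkTbl t w h1
  refine ⟨(elemW 32 w)⁻¹, ?_, famOf_pullFam (elemW 32 w) t hp⟩
  rw [mem_famStab]
  refine ⟨inv_mem (genGroup_le (elemW_mem 32 w)), ?_⟩
  rw [← famOf_pullFam _ t hp, famOf_eq_of_famEq h2]

theorem isPull_list (la : List ℕ) (gl : List (ℕ × ℕ))
    (h : gl.all (fun p => chkTbl p.1 p.2 && famEq (pullFam p.1 la) la) = true) :
    ∀ t ∈ gl.map Prod.fst, IsPull (famStab (famOf la)) t := by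
  intro t ht
  obtain ⟨p, hp, rfl⟩ := List.mem_map.mp ht
  have h1 := List.all_eq_true.mp h p hp
  rw [Bool.and_eq_true] at h1
  exact isPull_word la p.1 p.2 h1.1 h1.2

/-- Reachability of table entries. -/
def FamReach (K : Subgroup (Equiv.Perm GolayPt)) (tb : ℕ → List ℕ) (r j : ℕ) : Prop :=
  ∃ g ∈ K, g • famOf (tb r) = famOf (tb j)

theorem famReach_pair {K : Subgroup (Equiv.Perm GolayPt)} {tb : ℕ → List ℕ} {r a b : ℕ}
    (h1 : FamReach K tb r a) (h2 : FamReach K tb r b) :
    ∃ g ∈ K, g • famOf (tb a) = famOf (tb b) := by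
  obtain ⟨g, hg, e1⟩ := h1
  obtain ⟨g', hg', e2⟩ := h2
  exact ⟨g' * g⁻¹, mul_mem hg' (inv_mem hg), by rw [mul_smul, ← e1, inv_smul_smul, e2]⟩

/-- One step of a walk: the entry `e` packs a parent index, a table number and a child index. -/
def famStep (tb : ℕ → List ℕ) (ts : List ℕ) (mask e : ℕ) : ℕ :=
  cond (Nat.blt (e / 8192 % 16) ts.length && mask.testBit (e / 131072)
      && famEq (pullFam (ts.getD (e / 8192 % 16) 0) (tb (e / 131072))) (tb (e % 8192)))
    (mask ||| (1 <<< (e % 8192))) mask

/-- The walk. -/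
def famWalk (tb : ℕ → List ℕ) (ts : List ℕ) : List ℕ → ℕ → ℕ
  | [], m => m
  | e :: es, m => famWalk tb ts es (famStep tb ts m e)

theorem famWalk_sound (K : Subgroup (Equiv.Perm GolayPt)) (tb : ℕ → List ℕ) (ts : List ℕ)
    (hts : ∀ t ∈ ts, IsPull K t) (r : ℕ) :
    ∀ (es : List ℕ) (m : ℕ), (∀ j, m.testBit j = true → FamReach K tb r j) →
      ∀ j, (famWalk tb ts es m).testBit j = true → FamReach K tb r j := by
  intro es
  induction es with
  | nil =>
    intro m hm j h
    exact hm j h
  | cons e es ih =>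
    intro m hm j h
    change (famWalk tb ts es (famStep tb ts m e)).testBit j = true at h
    refine ih (famStep tb ts m e) ?_ j h
    intro j' hj'
    unfold famStep at hj'
    cases hp : (Nat.blt (e / 8192 % 16) ts.length && m.testBit (e / 131072)
      && famEq (pullFam (ts.getD (e / 8192 % 16) 0) (tb (e / 131072))) (tb (e % 8192)))
    · rw [hp, cond_false] at hj'
      exact hm j' hj'
    · rw [hp, cond_true, Nat.testBit_or, Bool.or_eq_true] at hj'
      rcases hj' with h1 | h1
      · exact hm j' h1
      · rw [Nat.one_shiftLeft, Nat.testBit_two_pow] at h1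
        have h2 : e % 8192 = j' := of_decide_eq_true h1
        rw [Bool.and_eq_true, Bool.and_eq_true] at hp
        obtain ⟨⟨hlen, hbit⟩, heq⟩ := hp
        have hlen' : e / 8192 % 16 < ts.length := Nat.blt_eq.mp hlen
        have hmem : ts.getD (e / 8192 % 16) 0 ∈ ts := by
          rw [List.getD_eq_getElem _ _ hlen']
          exact List.getElem_mem hlen'
        obtain ⟨g, hg, hpull⟩ := hts _ hmem
        obtain ⟨g₀, hg₀, e₀⟩ := hm _ hbit
        rw [← h2]
        refine ⟨g * g₀, mul_mem hg hg₀, ?_⟩
        rw [mul_smul, e₀, ← hpull, famOf_eq_of_famEq heq]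

/-- Transitivity on classes from walks. `classes` lists `(type, root, mask, walk)`. -/
theorem fam_base (K : Subgroup (Equiv.Perm GolayPt)) (tb : ℕ → List ℕ) (ts : List ℕ)
    (hts : ∀ t ∈ ts, IsPull K t) (N : ℕ) (cls : ℕ → ℕ)
    (classes : List (ℕ × ℕ × ℕ × List ℕ))
    (hw : classes.all (fun e => Nat.beq (famWalk tb ts e.2.2.2 (1 <<< e.2.1)) e.2.2.1) = true)
    (hc : (List.range N).all (fun j => classes.any (fun e => Nat.beq (cls j) e.1)
      && classes.all (fun e => cond (Nat.beq (cls j) e.1) (e.2.2.1.testBit j) true)) = true)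
    (j j' : ℕ) (hj : j < N) (hj' : j' < N) (h : cls j = cls j') :
    ∃ g ∈ K, g • famOf (tb j) = famOf (tb j') := by
  have h1 := List.all_eq_true.mp hc j (List.mem_range.mpr hj)
  have h2 := List.all_eq_true.mp hc j' (List.mem_range.mpr hj')
  rw [Bool.and_eq_true] at h1 h2
  obtain ⟨e, he, hte⟩ := List.any_eq_true.mp h1.1
  have hte' : cls j = e.1 := Nat.eq_of_beq_eq_true hte
  have m1 := List.all_eq_true.mp h1.2 e he
  have m2 := List.all_eq_true.mp h2.2 e he
  rw [hte', Nat.beq_refl, cond_true] at m1
  rw [← h, hte', Nat.beq_refl, cond_true] at m2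
  have hwalk := Nat.eq_of_beq_eq_true (List.all_eq_true.mp hw e he)
  rw [← hwalk] at m1 m2
  have hroot : ∀ i, (1 <<< e.2.1).testBit i = true → FamReach K tb e.2.1 i := by
    intro i hi
    rw [Nat.one_shiftLeft, Nat.testBit_two_pow] at hi
    have h3 : e.2.1 = i := of_decide_eq_true hi
    rw [← h3]
    exact ⟨1, one_mem _, one_smul _ _⟩
  exact famReach_pair (famWalk_sound K tb ts hts e.2.1 e.2.2.2 _ hroot j m1)
    (famWalk_sound K tb ts hts e.2.1 e.2.2.2 _ hroot j' m2)

/-! ### Types -/

/-- The type of a family relative to another: the sum of the squares of the intersection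
sizes. -/
def famType (A X : Finset (Finset GolayPt)) : ℕ := ∑ a ∈ A, ∑ x ∈ X, (a ∩ x).card ^ 2

theorem famType_smul (g : Equiv.Perm GolayPt) (A X : Finset (Finset GolayPt)) :
    famType (g • A) (g • X) = famType A X := by
  have hinj : Function.Injective (fun s : Finset GolayPt => g • s) := MulAction.injective g
  have eA : g • A = A.image (fun s => g • s) := rfl
  have eX : g • X = X.image (fun s => g • s) := rfl
  rw [famType, famType, eA, eX, Finset.sum_image (fun a _ b _ h => hinj h)]
  refine Finset.sum_congr rfl fun a _ => ?_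
  rw [Finset.sum_image (fun a _ b _ h => hinj h)]
  refine Finset.sum_congr rfl fun x _ => ?_
  rw [← Finset.smul_finset_inter, Finset.card_smul_finset]

theorem famType_smul_left (g : Equiv.Perm GolayPt) (A X : Finset (Finset GolayPt)) :
    famType (g • A) X = famType A (g⁻¹ • X) := by
  rw [← famType_smul g⁻¹ (g • A) X, inv_smul_smul]

/-- The type of two lists of masks. -/
def typN (la lx : List ℕ) : ℕ :=
  (la.map (fun a => (lx.map (fun x => popc (a &&& x) ^ 2)).sum)).sum

theorem famType_famOf {la lx : List ℕ} (ha : goodList la = true) (hx : goodList lx = true) :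
    famType (famOf la) (famOf lx) = typN la lx := by
  rw [famType, famOf, List.sum_toFinset _ (nodup_supports ha), List.map_map, typN]
  congr 1
  refine List.map_congr_left fun a _ => ?_
  show ∑ x ∈ famOf lx, (support₂ (ofBits a) ∩ x).card ^ 2 = _
  rw [famOf, List.sum_toFinset _ (nodup_supports hx), List.map_map]
  congr 1
  refine List.map_congr_left fun x _ => ?_
  show (support₂ (ofBits a) ∩ support₂ (ofBits x)).card ^ 2 = _
  rw [card_support_inter]

end Cfsg.Agent.Helper1.Golay
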