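import Mathlib
import Cfsg.Agent.Helper1.Fam
import Cfsg.Agent.Helper1.Maximal

set_option autoImplicit false

namespace Cfsg.Agent.Helper1.Golay

open Cfsg
open scoped Pointwise

/-- A set of families invariant under `M24`. -/
def FamInv (𝔛 : Set (Finset (Finset GolayPt))) : Prop := ∀ g ∈ M24, ∀ X ∈ 𝔛, g • X ∈ 𝔛

/-- `tb` enumerates the set `𝔛` of families bijectively on the indices below `N`. -/
structure IsTable (𝔛 : Set (Finset (Finset GolayPt))) (tb : ℕ → List ℕ) (N : ℕ) : Prop where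
  mem : ∀ j < N, famOf (tb j) ∈ 𝔛
  inj : ∀ j < N, ∀ j' < N, famOf (tb j) = famOf (tb j') → j = j'
  surj : ∀ X ∈ 𝔛, ∃ j < N, famOf (tb j) = X
  good : ∀ j < N, goodList (tb j) = true
  trans : ∀ j < N, ∃ g ∈ M24, g • famOf (tb 0) = famOf (tb j)

theorem lt_of_chain (f : ℕ → ℕ) (N : ℕ) (h : ∀ j, j + 1 < N → f j < f (j + 1)) :
    ∀ j j', j < j' → j' < N → f j < f j' := by
  intro j j' hjj'
  induction j' with
  | zero => omega
  | succ k ih =>
    intro hk
    rcases Nat.lt_succ_iff_lt_or_eq.mp hjj' with h1 | h1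
    · exact lt_trans (ih h1 (by omega)) (h k hk)
    · subst h1
      exact h j hk

/-- The mask with the lowest `N` bits set. -/
def fullMask (N : ℕ) : ℕ := 2 ^ N - 1

theorem isTable_of_checks (𝔛 : Set (Finset (Finset GolayPt))) (tb : ℕ → List ℕ) (N : ℕ)
    (hinv : FamInv 𝔛) (hcard : 𝔛.ncard = N) (hbase : famOf (tb 0) ∈ 𝔛) (gl : List (ℕ × ℕ))
    (hg : gl.all (fun p => chkTbl p.1 p.2 && famEq (pullFam p.1 []) []) = true)
    (walk : List ℕ)
    (hw : Nat.beq (famWalk tb (gl.map Prod.fst) walk (1 <<< 0)) (fullMask N) = true)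
    (hgood : (List.range N).all (fun j => goodList (tb j)) = true)
    (hkey : (List.range (N - 1)).all
      (fun j => Nat.blt (keyN (tb j)) (keyN (tb (j + 1)))) = true) :
    IsTable 𝔛 tb N := by
  classical
  have hts := isPull_list [] gl hg
  have hreach : ∀ j < N, FamReach (famStab (famOf [])) tb 0 j := by
    intro j hj
    refine famWalk_sound _ tb _ hts 0 walk (1 <<< 0) ?_ j ?_
    · intro i hi
      rw [Nat.one_shiftLeft, Nat.testBit_two_pow] at hi
      have h3 : 0 = i := of_decide_eq_true hi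
      rw [← h3]
      exact ⟨1, one_mem _, one_smul _ _⟩
    · rw [Nat.eq_of_beq_eq_true hw, fullMask, Nat.testBit_two_pow_sub_one]
      exact decide_eq_true hj
  have htrans : ∀ j < N, ∃ g ∈ M24, g • famOf (tb 0) = famOf (tb j) := by
    intro j hj
    obtain ⟨g, hg', e⟩ := hreach j hj
    exact ⟨g, ((mem_famStab _ g).mp hg').1, e⟩
  have hmem : ∀ j < N, famOf (tb j) ∈ 𝔛 := by
    intro j hj
    obtain ⟨g, hg', e⟩ := htrans j hj
    rw [← e]
    exact hinv g hg' _ hbase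
  have hgood' : ∀ j < N, goodList (tb j) = true := fun j hj =>
    List.all_eq_true.mp hgood j (List.mem_range.mpr hj)
  have hchain : ∀ j j', j < j' → j' < N → keyN (tb j) < keyN (tb j') := by
    refine lt_of_chain (fun j => keyN (tb j)) N ?_
    intro j hj
    exact Nat.blt_eq.mp (List.all_eq_true.mp hkey j (List.mem_range.mpr (by omega)))
  have hinj : ∀ j < N, ∀ j' < N, famOf (tb j) = famOf (tb j') → j = j' := by
    intro j hj j' hj' e
    have hk := keyN_eq_of_famOf_eq (hgood' j hj) (hgood' j' hj') e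
    rcases Nat.lt_trichotomy j j' with h | h | h
    · exact absurd hk (ne_of_lt (hchain j j' h hj'))
    · exact h
    · exact absurd hk.symm (ne_of_lt (hchain j' j h hj))
  refine ⟨hmem, hinj, ?_, hgood', htrans⟩
  have himg : ((Finset.range N).image (fun j => famOf (tb j))).card = N := by
    rw [Finset.card_image_of_injOn, Finset.card_range]
    intro j hj j' hj' e
    exact hinj j (Finset.mem_range.mp hj) j' (Finset.mem_range.mp hj') e
  have hsub : (Finset.range N).image (fun j => famOf (tb j)) ⊆ blocks 𝔛 := by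
    intro X hX
    obtain ⟨j, hj, rfl⟩ := Finset.mem_image.mp hX
    exact mem_blocks.mpr (hmem j (Finset.mem_range.mp hj))
  have heq := Finset.eq_of_subset_of_card_le hsub (by rw [card_blocks, hcard, himg])
  intro X hX
  have hXb : X ∈ blocks 𝔛 := mem_blocks.mpr hX
  rw [← heq] at hXb
  obtain ⟨j, hj, e⟩ := Finset.mem_image.mp hXb
  exact ⟨j, Finset.mem_range.mp hj, e⟩

/-- Orbit data of the stabiliser of the family `A` on the set `𝔛`: the type separates the
orbits, with the given orbit sizes. -/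
structure OrbData (A : Finset (Finset GolayPt)) (𝔛 : Set (Finset (Finset GolayPt)))
    (n : ℕ → ℕ) (Ts : Finset ℕ) : Prop where
  trans : ∀ X ∈ 𝔛, ∀ X' ∈ 𝔛, famType A X = famType A X' →
    ∃ g ∈ M24, g • A = A ∧ g • X = X'
  count : ∀ τ ∈ Ts, {X | X ∈ 𝔛 ∧ famType A X = τ}.ncard = n τ
  types : ∀ X ∈ 𝔛, famType A X ∈ Ts

theorem orbData_of_checks {𝔛 : Set (Finset (Finset GolayPt))} {tb : ℕ → List ℕ} {N : ℕ}
    (hT : IsTable 𝔛 tb N) (la : List ℕ) (hla : goodList la = true) (gl : List (ℕ × ℕ))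
    (hg : gl.all (fun p => chkTbl p.1 p.2 && famEq (pullFam p.1 la) la) = true)
    (cls : ℕ → ℕ)
    (hcls : (List.range N).all (fun j => Nat.beq (typN la (tb j)) (cls j)) = true)
    (classes : List (ℕ × ℕ × ℕ × List ℕ))
    (hw : classes.all (fun e =>
      Nat.beq (famWalk tb (gl.map Prod.fst) e.2.2.2 (1 <<< e.2.1)) e.2.2.1) = true)
    (hc : (List.range N).all (fun j => classes.any (fun e => Nat.beq (cls j) e.1)
      && classes.all (fun e => cond (Nat.beq (cls j) e.1) (e.2.2.1.testBit j) true)) = true)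
    (n : ℕ → ℕ) (Ts : Finset ℕ)
    (hn : ∀ τ ∈ Ts, ((Finset.range N).filter (fun j => cls j = τ)).card = n τ)
    (hTs : ∀ e ∈ classes, e.1 ∈ Ts) : OrbData (famOf la) 𝔛 n Ts := by
  have hts := isPull_list la gl hg
  have htyp : ∀ j < N, famType (famOf la) (famOf (tb j)) = cls j := by
    intro j hj
    rw [famType_famOf hla (hT.good j hj)]
    exact Nat.eq_of_beq_eq_true (List.all_eq_true.mp hcls j (List.mem_range.mpr hj))
  refine ⟨?_, ?_, ?_⟩
  · intro X hX X' hX' hty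
    obtain ⟨j, hj, rfl⟩ := hT.surj X hX
    obtain ⟨j', hj', rfl⟩ := hT.surj X' hX'
    rw [htyp j hj, htyp j' hj'] at hty
    obtain ⟨g, hg', e⟩ := fam_base _ tb _ hts N cls classes hw hc j j' hj hj' hty
    exact ⟨g, ((mem_famStab _ g).mp hg').1, ((mem_famStab _ g).mp hg').2, e⟩
  · intro τ hτ
    rw [← hn τ hτ]
    have hinj : Set.InjOn (fun j => famOf (tb j))
        ↑((Finset.range N).filter (fun j => cls j = τ)) := by
      intro j hj j' hj' e
      rw [Finset.mem_coe, Finset.mem_filter, Finset.mem_range] at hj hj'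
      exact hT.inj j hj.1 j' hj'.1 e
    have e : {X | X ∈ 𝔛 ∧ famType (famOf la) X = τ}
        = (fun j => famOf (tb j)) '' ↑((Finset.range N).filter (fun j => cls j = τ)) := by
      ext X
      simp only [Set.mem_ofPred_eq, Set.mem_image, Finset.coe_filter, Finset.mem_range]
      constructor
      · rintro ⟨hX, hτ'⟩
        obtain ⟨j, hj, rfl⟩ := hT.surj X hX
        rw [htyp j hj] at hτ'
        exact ⟨j, ⟨hj, hτ'⟩, rfl⟩
      · rintro ⟨j, ⟨hj, hτ'⟩, rfl⟩
        exact ⟨hT.mem j hj, by rw [htyp j hj]; exact hτ'⟩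
    rw [e, hinj.ncard_image, Set.ncard_coe_finset]
  · intro X hX
    obtain ⟨j, hj, rfl⟩ := hT.surj X hX
    rw [htyp j hj]
    have h1 := List.all_eq_true.mp hc j (List.mem_range.mpr hj)
    rw [Bool.and_eq_true] at h1
    obtain ⟨e, he, hte⟩ := List.any_eq_true.mp h1.1
    rw [Nat.eq_of_beq_eq_true hte]
    exact hTs e he

theorem OrbData.smul {A : Finset (Finset GolayPt)} {𝔛 : Set (Finset (Finset GolayPt))}
    {n : ℕ → ℕ} {Ts : Finset ℕ} (h : OrbData A 𝔛 n Ts) (hinv : FamInv 𝔛)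
    {t : Equiv.Perm GolayPt} (ht : t ∈ M24) : OrbData (t • A) 𝔛 n Ts := by
  have hti : t⁻¹ ∈ M24 := inv_mem ht
  refine ⟨?_, ?_, ?_⟩
  · intro X hX X' hX' hty
    rw [famType_smul_left, famType_smul_left] at hty
    obtain ⟨g, hg, hgA, hgX⟩ := h.trans _ (hinv _ hti X hX) _ (hinv _ hti X' hX') hty
    refine ⟨t * g * t⁻¹, mul_mem (mul_mem ht hg) hti, ?_, ?_⟩
    · rw [mul_smul, mul_smul, inv_smul_smul, hgA]
    · rw [mul_smul, mul_smul, hgX, smul_inv_smul]
  · intro τ hτ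
    rw [← h.count τ hτ]
    have e : {X | X ∈ 𝔛 ∧ famType (t • A) X = τ}
        = (fun X => t • X) '' {X | X ∈ 𝔛 ∧ famType A X = τ} := by
      ext X
      simp only [Set.mem_ofPred_eq, Set.mem_image]
      constructor
      · rintro ⟨hX, hτ'⟩
        refine ⟨t⁻¹ • X, ⟨hinv _ hti X hX, ?_⟩, smul_inv_smul t X⟩
        rw [← famType_smul_left]
        exact hτ'
      · rintro ⟨Y, ⟨hY, hτ'⟩, rfl⟩
        exact ⟨hinv _ ht Y hY, by rw [famType_smul]; exact hτ'⟩
    rw [e, Set.ncard_image_of_injective _ (MulAction.injective t)]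
  · intro X hX
    rw [famType_smul_left]
    exact h.types _ (hinv _ hti X hX)

/-- The orbits of the stabiliser are the type classes. -/
theorem orbit_eq_of_orbData {A : Finset (Finset GolayPt)}
    {𝔛 : Set (Finset (Finset GolayPt))} {n : ℕ → ℕ} {Ts : Finset ℕ} (h : OrbData A 𝔛 n Ts)
    (hinv : FamInv 𝔛) (X : Finset (Finset GolayPt)) (hX : X ∈ 𝔛) :
    MulAction.orbit ↥(MulAction.stabilizer M24 A) X
      = {X' | X' ∈ 𝔛 ∧ famType A X' = famType A X} := by
  ext X'
  constructor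
  · rintro ⟨g, rfl⟩
    have hgA : ((g : M24) : Equiv.Perm GolayPt) • A = A := MulAction.mem_stabilizer_iff.mp g.2
    refine ⟨hinv _ (g : M24).2 X hX, ?_⟩
    have e1 := famType_smul ((g : M24) : Equiv.Perm GolayPt) A X
    rw [hgA] at e1
    exact e1
  · rintro ⟨hX', hty⟩
    obtain ⟨g, hg, hgA, hgX⟩ := h.trans X hX X' hX' hty.symm
    exact ⟨⟨⟨g, hg⟩, MulAction.mem_stabilizer_iff.mpr hgA⟩, hgX⟩

theorem exists_rep {A : Finset (Finset GolayPt)} {𝔛 : Set (Finset (Finset GolayPt))}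
    {n : ℕ → ℕ} {Ts : Finset ℕ} (h : OrbData A 𝔛 n Ts) (hinv : FamInv 𝔛) (τ : ℕ)
    (hτ : τ ∈ Ts) (hn : n τ ≠ 0) :
    ∃ X ∈ 𝔛, MulAction.orbit ↥(MulAction.stabilizer M24 A) X
        = {X' | X' ∈ 𝔛 ∧ famType A X' = τ}
      ∧ (MulAction.orbit ↥(MulAction.stabilizer M24 A) X).ncard = n τ := by
  have hc := h.count τ hτ
  have hne : {X | X ∈ 𝔛 ∧ famType A X = τ}.Nonempty := by
    rw [← Set.ncard_pos (Set.toFinite _), hc]
    omega
  obtain ⟨X, hX, hXτ⟩ := hne
  have e := orbit_eq_of_orbData h hinv X hX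
  rw [hXτ] at e
  exact ⟨X, hX, e, by rw [e, hc]⟩

/-- Maximality of the stabiliser from the orbit data. -/
theorem isCoatom_of_orbData {T : Finset (Finset GolayPt)} {𝔛 : Set (Finset (Finset GolayPt))}
    {n : ℕ → ℕ} {Ts : Finset ℕ} (h : OrbData T 𝔛 n Ts) (hinv : FamInv 𝔛) (hT : T ∈ 𝔛)
    (htr : ∀ X ∈ 𝔛, ∃ g ∈ M24, g • T = X) (h1 : n (famType T T) = 1)
    (hne : ∃ X ∈ 𝔛, X ≠ T)
    (h5 : ∀ I ∈ Ts.powerset, famType T T ∈ I → (∑ i ∈ I, n i) ∣ (∑ i ∈ Ts, n i) →
      I = {famType T T} ∨ I = Ts) :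
    IsCoatom (MulAction.stabilizer M24 T) := by
  have horb : ∀ x, x ∈ MulAction.orbit M24 T ↔ x ∈ 𝔛 := by
    intro x
    constructor
    · rintro ⟨g, rfl⟩
      exact hinv _ g.2 T hT
    · intro hx
      obtain ⟨g, hg, e⟩ := htr x hx
      exact ⟨⟨g, hg⟩, e⟩
  have hself : ∀ X ∈ 𝔛, famType T X = famType T T → X = T := by
    intro X hX hty
    have hc := h.count _ (h.types T hT)
    rw [h1, Set.ncard_eq_one] at hc
    obtain ⟨Y, hY⟩ := hc
    have m1 : X ∈ {X | X ∈ 𝔛 ∧ famType T X = famType T T} := ⟨hX, hty⟩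
    have m2 : T ∈ {X | X ∈ 𝔛 ∧ famType T X = famType T T} := ⟨hT, rfl⟩
    rw [hY, Set.mem_singleton_iff] at m1 m2
    rw [m1, m2]
  refine Cfsg.Agent.Helper1.isCoatom_of_orbit_sizes (G := M24) T (MulAction.stabilizer M24 T)
    le_rfl (famType T) Ts n ?_ ?_ ?_ ?_ h5 ?_
  · intro g
    exact h.types _ (hinv _ g.2 T hT)
  · intro i hi
    rw [← h.count i hi]
    congr 1
    ext x
    simp only [Set.mem_ofPred_eq, horb]
  · intro g hg
    exact MulAction.mem_stabilizer_iff.mpr (hself _ (hinv _ g.2 T hT) hg)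
  · intro g g' hgg
    obtain ⟨k, hk, hkT, hkX⟩ := h.trans _ (hinv _ g.2 T hT) _ (hinv _ g'.2 T hT) hgg
    exact ⟨⟨k, hk⟩, MulAction.mem_stabilizer_iff.mpr hkT, hkX⟩
  · intro htop
    obtain ⟨X, hX, hXT⟩ := hne
    obtain ⟨g, hg, e⟩ := htr X hX
    have hmem : (⟨g, hg⟩ : M24) ∈ MulAction.stabilizer M24 T := by
      rw [htop]
      exact Subgroup.mem_top _
    exact hXT (e ▸ MulAction.mem_stabilizer_iff.mp hmem)

end Cfsg.Agent.Helper1.Golay
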