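import Mathlib
import Cfsg.Agent.Helper1.FamTab

set_option autoImplicit false

namespace Cfsg.Agent.Helper1.Golay

open Cfsg
open scoped Pointwise

theorem IsTable.transitive {𝔛 : Set (Finset (Finset GolayPt))} {tb : ℕ → List ℕ} {N : ℕ}
    (hT : IsTable 𝔛 tb N) (X Y : Finset (Finset GolayPt)) (hX : X ∈ 𝔛) (hY : Y ∈ 𝔛) :
    ∃ g ∈ M24, g • X = Y := by
  obtain ⟨j, hj, rfl⟩ := hT.surj X hX
  obtain ⟨j', hj', rfl⟩ := hT.surj Y hY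
  obtain ⟨g, hg, e⟩ := hT.trans j hj
  obtain ⟨g', hg', e'⟩ := hT.trans j' hj'
  exact ⟨g' * g⁻¹, mul_mem hg' (inv_mem hg), by rw [mul_smul, ← e, inv_smul_smul, e']⟩

/-- Transport of orbit data from the base family to any family of its table. -/
theorem orbData_any {𝔄 : Set (Finset (Finset GolayPt))} {tbA : ℕ → List ℕ} {NA : ℕ}
    (hTA : IsTable 𝔄 tbA NA) {la : List ℕ} (hla : famOf la ∈ 𝔄)
    {𝔛 : Set (Finset (Finset GolayPt))} {n : ℕ → ℕ} {Ts : Finset ℕ}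
    (h : OrbData (famOf la) 𝔛 n Ts) (hinv : FamInv 𝔛) (A : Finset (Finset GolayPt))
    (hA : A ∈ 𝔄) : OrbData A 𝔛 n Ts ∧ famType A A = famType (famOf la) (famOf la) := by
  obtain ⟨g, hg, rfl⟩ := hTA.transitive _ A hla hA
  exact ⟨h.smul hinv hg, famType_smul g _ _⟩

theorem orbits3 {A : Finset (Finset GolayPt)} {𝔛 : Set (Finset (Finset GolayPt))}
    {n : ℕ → ℕ} {Ts : Finset ℕ} (h : OrbData A 𝔛 n Ts) (hinv : FamInv 𝔛) {a b c : ℕ}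
    (hTs : Ts = {a, b, c}) (ha : n a ≠ 0) (hb : n b ≠ 0) (hc : n c ≠ 0) :
    ∃ X₁ ∈ 𝔛, ∃ X₂ ∈ 𝔛, ∃ X₃ ∈ 𝔛,
      (MulAction.orbit ↥(MulAction.stabilizer M24 A) X₁).ncard = n a
      ∧ (MulAction.orbit ↥(MulAction.stabilizer M24 A) X₂).ncard = n b
      ∧ (MulAction.orbit ↥(MulAction.stabilizer M24 A) X₃).ncard = n c
      ∧ 𝔛 = MulAction.orbit ↥(MulAction.stabilizer M24 A) X₁
          ∪ MulAction.orbit ↥(MulAction.stabilizer M24 A) X₂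
          ∪ MulAction.orbit ↥(MulAction.stabilizer M24 A) X₃ := by
  subst hTs
  obtain ⟨X₁, h1, e1, c1⟩ := exists_rep h hinv a (by simp) ha
  obtain ⟨X₂, h2, e2, c2⟩ := exists_rep h hinv b (by simp) hb
  obtain ⟨X₃, h3, e3, c3⟩ := exists_rep h hinv c (by simp) hc
  refine ⟨X₁, h1, X₂, h2, X₃, h3, c1, c2, c3, ?_⟩
  rw [e1, e2, e3]
  ext X
  simp only [Set.mem_union, Set.mem_ofPred_eq]
  constructor
  · intro hX
    have ht := h.types X hX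
    simp only [Finset.mem_insert, Finset.mem_singleton] at ht
    rcases ht with ht | ht | ht
    · exact Or.inl (Or.inl ⟨hX, ht⟩)
    · exact Or.inl (Or.inr ⟨hX, ht⟩)
    · exact Or.inr ⟨hX, ht⟩
  · rintro ((⟨hX, _⟩ | ⟨hX, _⟩) | ⟨hX, _⟩) <;> exact hX

theorem orbits4 {A : Finset (Finset GolayPt)} {𝔛 : Set (Finset (Finset GolayPt))}
    {n : ℕ → ℕ} {Ts : Finset ℕ} (h : OrbData A 𝔛 n Ts) (hinv : FamInv 𝔛) {a b c d : ℕ}
    (hTs : Ts = {a, b, c, d}) (ha : n a ≠ 0) (hb : n b ≠ 0) (hc : n c ≠ 0) (hd : n d ≠ 0) :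
    ∃ X₁ ∈ 𝔛, ∃ X₂ ∈ 𝔛, ∃ X₃ ∈ 𝔛, ∃ X₄ ∈ 𝔛,
      (MulAction.orbit ↥(MulAction.stabilizer M24 A) X₁).ncard = n a
      ∧ (MulAction.orbit ↥(MulAction.stabilizer M24 A) X₂).ncard = n b
      ∧ (MulAction.orbit ↥(MulAction.stabilizer M24 A) X₃).ncard = n c
      ∧ (MulAction.orbit ↥(MulAction.stabilizer M24 A) X₄).ncard = n d
      ∧ 𝔛 = MulAction.orbit ↥(MulAction.stabilizer M24 A) X₁
          ∪ MulAction.orbit ↥(MulAction.stabilizer M24 A) X₂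
          ∪ MulAction.orbit ↥(MulAction.stabilizer M24 A) X₃
          ∪ MulAction.orbit ↥(MulAction.stabilizer M24 A) X₄ := by
  subst hTs
  obtain ⟨X₁, h1, e1, c1⟩ := exists_rep h hinv a (by simp) ha
  obtain ⟨X₂, h2, e2, c2⟩ := exists_rep h hinv b (by simp) hb
  obtain ⟨X₃, h3, e3, c3⟩ := exists_rep h hinv c (by simp) hc
  obtain ⟨X₄, h4, e4, c4⟩ := exists_rep h hinv d (by simp) hd
  refine ⟨X₁, h1, X₂, h2, X₃, h3, X₄, h4, c1, c2, c3, c4, ?_⟩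
  rw [e1, e2, e3, e4]
  ext X
  simp only [Set.mem_union, Set.mem_ofPred_eq]
  constructor
  · intro hX
    have ht := h.types X hX
    simp only [Finset.mem_insert, Finset.mem_singleton] at ht
    rcases ht with ht | ht | ht | ht
    · exact Or.inl (Or.inl (Or.inl ⟨hX, ht⟩))
    · exact Or.inl (Or.inl (Or.inr ⟨hX, ht⟩))
    · exact Or.inl (Or.inr ⟨hX, ht⟩)
    · exact Or.inr ⟨hX, ht⟩
  · rintro (((⟨hX, _⟩ | ⟨hX, _⟩) | ⟨hX, _⟩) | ⟨hX, _⟩) <;> exact hX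

theorem self_class {T : Finset (Finset GolayPt)} {𝔛 : Set (Finset (Finset GolayPt))}
    {n : ℕ → ℕ} {Ts : Finset ℕ} (h : OrbData T 𝔛 n Ts) (hT : T ∈ 𝔛) {s : ℕ}
    (hs : famType T T = s) (h1 : n s = 1) : {X | X ∈ 𝔛 ∧ famType T X = s} = {T} := by
  have hc := h.count s (hs ▸ h.types T hT)
  rw [h1, Set.ncard_eq_one] at hc
  obtain ⟨Y, hY⟩ := hc
  have m2 : T ∈ {X | X ∈ 𝔛 ∧ famType T X = s} := ⟨hT, hs⟩
  rw [hY, Set.mem_singleton_iff] at m2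
  rw [hY, m2]

theorem orbits3_self {T : Finset (Finset GolayPt)} {𝔛 : Set (Finset (Finset GolayPt))}
    {n : ℕ → ℕ} {Ts : Finset ℕ} (h : OrbData T 𝔛 n Ts) (hinv : FamInv 𝔛) (hT : T ∈ 𝔛)
    {s a b c : ℕ} (hTs : Ts = {s, a, b, c}) (hs : famType T T = s) (h1 : n s = 1)
    (ha : n a ≠ 0) (hb : n b ≠ 0) (hc : n c ≠ 0) :
    ∃ X₁ ∈ 𝔛, ∃ X₂ ∈ 𝔛, ∃ X₃ ∈ 𝔛,
      (MulAction.orbit ↥(MulAction.stabilizer M24 T) X₁).ncard = n a
      ∧ (MulAction.orbit ↥(MulAction.stabilizer M24 T) X₂).ncard = n b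
      ∧ (MulAction.orbit ↥(MulAction.stabilizer M24 T) X₃).ncard = n c
      ∧ 𝔛 = {T} ∪ MulAction.orbit ↥(MulAction.stabilizer M24 T) X₁
          ∪ MulAction.orbit ↥(MulAction.stabilizer M24 T) X₂
          ∪ MulAction.orbit ↥(MulAction.stabilizer M24 T) X₃ := by
  have hself := self_class h hT hs h1
  subst hTs
  obtain ⟨X₁, h1, e1, c1⟩ := exists_rep h hinv a (by simp) ha
  obtain ⟨X₂, h2, e2, c2⟩ := exists_rep h hinv b (by simp) hb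
  obtain ⟨X₃, h3, e3, c3⟩ := exists_rep h hinv c (by simp) hc
  refine ⟨X₁, h1, X₂, h2, X₃, h3, c1, c2, c3, ?_⟩
  rw [e1, e2, e3, ← hself]
  ext X
  simp only [Set.mem_union, Set.mem_ofPred_eq]
  constructor
  · intro hX
    have ht := h.types X hX
    simp only [Finset.mem_insert, Finset.mem_singleton] at ht
    rcases ht with ht | ht | ht | ht
    · exact Or.inl (Or.inl (Or.inl ⟨hX, ht⟩))
    · exact Or.inl (Or.inl (Or.inr ⟨hX, ht⟩))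
    · exact Or.inl (Or.inr ⟨hX, ht⟩)
    · exact Or.inr ⟨hX, ht⟩
  · rintro (((⟨hX, _⟩ | ⟨hX, _⟩) | ⟨hX, _⟩) | ⟨hX, _⟩) <;> exact hX

theorem orbits4_self {T : Finset (Finset GolayPt)} {𝔛 : Set (Finset (Finset GolayPt))}
    {n : ℕ → ℕ} {Ts : Finset ℕ} (h : OrbData T 𝔛 n Ts) (hinv : FamInv 𝔛) (hT : T ∈ 𝔛)
    {s a b c d : ℕ} (hTs : Ts = {s, a, b, c, d}) (hs : famType T T = s) (h1 : n s = 1)
    (ha : n a ≠ 0) (hb : n b ≠ 0) (hc : n c ≠ 0) (hd : n d ≠ 0) :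
    ∃ X₁ ∈ 𝔛, ∃ X₂ ∈ 𝔛, ∃ X₃ ∈ 𝔛, ∃ X₄ ∈ 𝔛,
      (MulAction.orbit ↥(MulAction.stabilizer M24 T) X₁).ncard = n a
      ∧ (MulAction.orbit ↥(MulAction.stabilizer M24 T) X₂).ncard = n b
      ∧ (MulAction.orbit ↥(MulAction.stabilizer M24 T) X₃).ncard = n c
      ∧ (MulAction.orbit ↥(MulAction.stabilizer M24 T) X₄).ncard = n d
      ∧ 𝔛 = {T} ∪ MulAction.orbit ↥(MulAction.stabilizer M24 T) X₁
          ∪ MulAction.orbit ↥(MulAction.stabilizer M24 T) X₂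
          ∪ MulAction.orbit ↥(MulAction.stabilizer M24 T) X₃
          ∪ MulAction.orbit ↥(MulAction.stabilizer M24 T) X₄ := by
  have hself := self_class h hT hs h1
  subst hTs
  obtain ⟨X₁, h1, e1, c1⟩ := exists_rep h hinv a (by simp) ha
  obtain ⟨X₂, h2, e2, c2⟩ := exists_rep h hinv b (by simp) hb
  obtain ⟨X₃, h3, e3, c3⟩ := exists_rep h hinv c (by simp) hc
  obtain ⟨X₄, h4, e4, c4⟩ := exists_rep h hinv d (by simp) hd
  refine ⟨X₁, h1, X₂, h2, X₃, h3, X₄, h4, c1, c2, c3, c4, ?_⟩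
  rw [e1, e2, e3, e4, ← hself]
  ext X
  simp only [Set.mem_union, Set.mem_ofPred_eq]
  constructor
  · intro hX
    have ht := h.types X hX
    simp only [Finset.mem_insert, Finset.mem_singleton] at ht
    rcases ht with ht | ht | ht | ht | ht
    · exact Or.inl (Or.inl (Or.inl (Or.inl ⟨hX, ht⟩)))
    · exact Or.inl (Or.inl (Or.inl (Or.inr ⟨hX, ht⟩)))
    · exact Or.inl (Or.inl (Or.inr ⟨hX, ht⟩))
    · exact Or.inl (Or.inr ⟨hX, ht⟩)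
    · exact Or.inr ⟨hX, ht⟩
  · rintro ((((⟨hX, _⟩ | ⟨hX, _⟩) | ⟨hX, _⟩) | ⟨hX, _⟩) | ⟨hX, _⟩) <;> exact hX

/-- Maximality of the stabiliser of a family of a table. -/
theorem isCoatom_of_table {𝔛 : Set (Finset (Finset GolayPt))} {tb : ℕ → List ℕ} {N : ℕ}
    (hTab : IsTable 𝔛 tb N) (hinv : FamInv 𝔛) (hN : 1 < 𝔛.ncard)
    {T : Finset (Finset GolayPt)} {n : ℕ → ℕ} {Ts : Finset ℕ} (h : OrbData T 𝔛 n Ts)
    (hT : T ∈ 𝔛) {s : ℕ} (hs : famType T T = s) (h1 : n s = 1)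
    (h5 : ∀ I ∈ Ts.powerset, s ∈ I → (∑ i ∈ I, n i) ∣ (∑ i ∈ Ts, n i) → I = {s} ∨ I = Ts) :
    IsCoatom (MulAction.stabilizer M24 T) := by
  subst hs
  exact isCoatom_of_orbData h hinv hT (fun X hX => hTab.transitive T X hT hX) h1
    (Set.exists_ne_of_one_lt_ncard hN T) h5

end Cfsg.Agent.Helper1.Golay
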