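import Mathlib
import Cfsg.Agent.Helper1.FamTab

set_option autoImplicit false
set_option maxRecDepth 1000000

namespace Cfsg.Agent.Helper1.Golay

open Cfsg
open scoped Pointwise

/-- The position tables of the three generators with their words. -/
def m24GL : List (ℕ × ℕ) := [(956302485175575353788796878166559809, 1), (1795248432537898728475572672376535, 2), (974380510768821363662145534143076928, 3)]

theorem m24GL_ok : m24GL.all (fun p => chkTbl p.1 p.2 && famEq (pullFam p.1 []) []) = true := by
  decide +kernel

end Cfsg.Agent.Helper1.Golay
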