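import Mathlib
import Cfsg.Agent.Helper1.FamTrioTab

set_option autoImplicit false

namespace Cfsg.Agent.Helper1.Golay

open Cfsg
open scoped Pointwise

theorem trios_inv : FamInv trios := by
  intro g hg X hX
  obtain ⟨hc, hoct, hdis⟩ := hX
  refine ⟨by rw [Finset.card_smul_finset]; exact hc, ?_, ?_⟩
  · intro o ho
    obtain ⟨o', ho', rfl⟩ := Finset.mem_smul_finset.mp ho
    exact smul_mem_wordsOfWeight hg (hoct o' ho')
  · intro o ho o' ho' hne
    obtain ⟨a, ha, rfl⟩ := Finset.mem_smul_finset.mp ho
    obtain ⟨b, hb, rfl⟩ := Finset.mem_smul_finset.mp ho'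
    have hab : a ≠ b := fun h => hne (by rw [h])
    exact (Finset.disjoint_image (MulAction.injective g)).mpr (hdis a ha b hb hab)

theorem octad_of_coord (c : ℕ) (h : popc (comb c) = 8) : support₂ (ofBits (comb c)) ∈ octads :=
  ⟨⟨_, ofBits_comb_mem c, rfl⟩, by rw [card_support₂, hammingNorm_ofBits, h]⟩

theorem disjoint_of_popc (m n : ℕ) (h : popc (m &&& n) = 0) :
    Disjoint (support₂ (ofBits m)) (support₂ (ofBits n)) := by
  rw [Finset.disjoint_iff_inter_eq_empty, ← Finset.card_eq_zero, card_support_inter, h]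

theorem trio_of_coords (c1 c2 c3 : ℕ)
    (h8 : popc (comb c1) = 8 ∧ popc (comb c2) = 8 ∧ popc (comb c3) = 8)
    (h12 : popc (comb c1 &&& comb c2) = 0) (h13 : popc (comb c1 &&& comb c3) = 0)
    (h23 : popc (comb c2 &&& comb c3) = 0)
    (hg : goodList [comb c1, comb c2, comb c3] = true) :
    famOf [comb c1, comb c2, comb c3] ∈ trios := by
  refine ⟨?_, ?_, ?_⟩
  · rw [famOf, List.toFinset_card_of_nodup (nodup_supports hg)]
    rfl
  · intro o ho
    rw [mem_famOf] at ho
    obtain ⟨m, hm, rfl⟩ := ho
    simp only [List.mem_cons, List.not_mem_nil, or_false] at hm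
    rcases hm with rfl | rfl | rfl
    · exact octad_of_coord _ h8.1
    · exact octad_of_coord _ h8.2.1
    · exact octad_of_coord _ h8.2.2
  · intro o ho o' ho' hne
    rw [mem_famOf] at ho ho'
    obtain ⟨m, hm, rfl⟩ := ho
    obtain ⟨m', hm', rfl⟩ := ho'
    simp only [List.mem_cons, List.not_mem_nil, or_false] at hm hm'
    rcases hm with rfl | rfl | rfl <;> rcases hm' with rfl | rfl | rfl
    · exact absurd rfl hne
    · exact disjoint_of_popc _ _ h12
    · exact disjoint_of_popc _ _ h13
    · exact (disjoint_of_popc _ _ h12).symm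
    · exact absurd rfl hne
    · exact disjoint_of_popc _ _ h23
    · exact (disjoint_of_popc _ _ h13).symm
    · exact (disjoint_of_popc _ _ h23).symm
    · exact absurd rfl hne

theorem trio_base : famOf (trioTb 0) ∈ trios := by
  have e : trioTb 0 = [comb 1347, comb 981, comb 3734] := by decide +kernel
  rw [e]
  exact trio_of_coords 1347 981 3734 (by decide +kernel) (by decide +kernel) (by decide +kernel)
    (by decide +kernel) (by decide +kernel)

theorem trio_isTable : IsTable trios trioTb 3795 := by
  refine isTable_of_checks trios trioTb 3795 trios_inv trios_ncard trio_base m24GL m24GL_ok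
    trioWalk ?_ ?_ ?_
  · exact trioWalk_ok
  · exact trioGood_ok
  · exact trioKey_ok

end Cfsg.Agent.Helper1.Golay
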