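import Mathlib
import Cfsg.Agent.Helper1.FamOctTab
import Cfsg.Agent.Helper1.FamTrio
import Cfsg.Agent.Helper1.FamFinal

set_option autoImplicit false

namespace Cfsg.Agent.Helper1.Golay

open Cfsg
open scoped Pointwise

/-- The octads as one-element families. -/
def octFam : Set (Finset (Finset GolayPt)) :=
  (fun o => ({o} : Finset (Finset GolayPt))) '' octads

theorem octFam_inv : FamInv octFam := by
  rintro g hg _ ⟨o, ho, rfl⟩
  exact ⟨g • o, smul_mem_wordsOfWeight hg ho, (Finset.smul_finset_singleton (a := g) o).symm⟩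

theorem octFam_ncard : octFam.ncard = 759 := by
  rw [octFam, Set.ncard_image_of_injective _ Finset.singleton_injective, octads_ncard]

theorem oct_base : famOf (octTb 0) ∈ octFam := by
  have e : octTb 0 = [comb 345] := by decide +kernel
  rw [e]
  exact ⟨_, octad_of_coord 345 (by decide +kernel), by simp [famOf]⟩

theorem oct_isTable : IsTable octFam octTb 759 := by
  refine isTable_of_checks octFam octTb 759 octFam_inv octFam_ncard oct_base m24GL
    m24GL_ok octWalk ?_ ?_ ?_
  · exact octWalk_ok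
  · exact octGood_ok
  · exact octKey_ok

theorem orbit_singleton_eq (H : Subgroup M24) (o : Finset GolayPt) :
    MulAction.orbit H ({o} : Finset (Finset GolayPt))
      = (fun o => ({o} : Finset (Finset GolayPt))) '' MulAction.orbit H o := by
  ext X
  constructor
  · rintro ⟨g, rfl⟩
    exact ⟨g • o, ⟨g, rfl⟩, (Finset.smul_finset_singleton o).symm⟩
  · rintro ⟨_, ⟨g, rfl⟩, rfl⟩
    exact ⟨g, Finset.smul_finset_singleton o⟩

theorem orbits3_oct {A : Finset (Finset GolayPt)} {n : ℕ → ℕ} {Ts : Finset ℕ}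
    (h : OrbData A octFam n Ts) {a b c : ℕ} (hTs : Ts = {a, b, c}) (ha : n a ≠ 0)
    (hb : n b ≠ 0) (hc : n c ≠ 0) :
    ∃ X₁ ∈ octads, ∃ X₂ ∈ octads, ∃ X₃ ∈ octads,
      (MulAction.orbit ↥(MulAction.stabilizer M24 A) X₁).ncard = n a
      ∧ (MulAction.orbit ↥(MulAction.stabilizer M24 A) X₂).ncard = n b
      ∧ (MulAction.orbit ↥(MulAction.stabilizer M24 A) X₃).ncard = n c
      ∧ octads = MulAction.orbit ↥(MulAction.stabilizer M24 A) X₁
          ∪ MulAction.orbit ↥(MulAction.stabilizer M24 A) X₂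
          ∪ MulAction.orbit ↥(MulAction.stabilizer M24 A) X₃ := by
  obtain ⟨_, ⟨o₁, h1, rfl⟩, _, ⟨o₂, h2, rfl⟩, _, ⟨o₃, h3, rfl⟩, c1, c2, c3, hU⟩ :=
    orbits3 h octFam_inv hTs ha hb hc
  rw [orbit_singleton_eq, Set.ncard_image_of_injective _ Finset.singleton_injective] at c1 c2 c3
  refine ⟨o₁, h1, o₂, h2, o₃, h3, c1, c2, c3, ?_⟩
  rw [orbit_singleton_eq, orbit_singleton_eq, orbit_singleton_eq, ← Set.image_union,
    ← Set.image_union, octFam] at hU
  exact Set.image_injective.mpr Finset.singleton_injective hU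

end Cfsg.Agent.Helper1.Golay
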