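import Mathlib
import Cfsg.Agent.Helper1.Trio

set_option autoImplicit false

namespace Cfsg.Agent.Helper1.Golay

open Cfsg
open scoped Pointwise

open Classical in
/-- The octad through a set (when there is one). -/
noncomputable def octOf (s : Finset GolayPt) : Finset GolayPt :=
  if h : ∃ o, o ∈ octads ∧ s ⊆ o then Classical.choose h else ∅

theorem octOf_spec {s : Finset GolayPt} (hs : s.card = 5) : octOf s ∈ octads ∧ s ⊆ octOf s := by
  have h : ∃ o, o ∈ octads ∧ s ⊆ o := (octads_steiner.2 s hs).exists
  rw [octOf, dif_pos h]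
  exact Classical.choose_spec h

theorem octOf_unique {s : Finset GolayPt} (hs : s.card = 5) {o : Finset GolayPt}
    (ho : o ∈ octads) (hso : s ⊆ o) : o = octOf s :=
  (octads_steiner.2 s hs).unique ⟨ho, hso⟩ (octOf_spec hs)

/-- The tetrad of the point `p` relative to the tetrad `t`. -/
noncomputable def tetOf (t : Finset GolayPt) (p : GolayPt) : Finset GolayPt :=
  octOf (insert p t) \ t

section
variable {t : Finset GolayPt} (ht : t.card = 4) {p : GolayPt} (hp : p ∉ t)
include ht hp

theorem card_insert_tet : (insert p t).card = 5 := by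
  rw [Finset.card_insert_of_notMem hp, ht]

theorem oct_tet_mem : octOf (insert p t) ∈ octads := (octOf_spec (card_insert_tet ht hp)).1

theorem subset_oct_tet : t ⊆ octOf (insert p t) :=
  (Finset.subset_insert p t).trans (octOf_spec (card_insert_tet ht hp)).2

theorem mem_oct_tet : p ∈ octOf (insert p t) :=
  (octOf_spec (card_insert_tet ht hp)).2 (Finset.mem_insert_self p t)

theorem tetOf_card : (tetOf t p).card = 4 := by
  rw [tetOf, Finset.card_sdiff_of_subset (subset_oct_tet ht hp), (oct_tet_mem ht hp).2, ht]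

theorem mem_tetOf_self : p ∈ tetOf t p :=
  Finset.mem_sdiff.mpr ⟨mem_oct_tet ht hp, hp⟩

theorem union_tetOf : t ∪ tetOf t p = octOf (insert p t) :=
  Finset.union_sdiff_of_subset (subset_oct_tet ht hp)

theorem tetOf_eq_of_mem {q : GolayPt} (hq : q ∈ tetOf t p) : tetOf t q = tetOf t p := by
  have hq' := Finset.mem_sdiff.mp hq
  have hsub : insert q t ⊆ octOf (insert p t) :=
    Finset.insert_subset hq'.1 (subset_oct_tet ht hp)
  have e := octOf_unique (card_insert_tet ht hq'.2) (oct_tet_mem ht hp) hsub
  rw [tetOf, tetOf, e]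

end

theorem tetOf_pair {t : Finset GolayPt} (ht : t.card = 4) {p q : GolayPt} (hp : p ∉ t)
    (hq : q ∉ t) (hne : tetOf t p ≠ tetOf t q) :
    tetOf t p ∪ tetOf t q ∈ octads ∧ Disjoint (tetOf t p) (tetOf t q) := by
  have ho₁ := oct_tet_mem ht hp
  have ho₂ := oct_tet_mem ht hq
  have hs₁ := subset_oct_tet ht hp
  have hs₂ := subset_oct_tet ht hq
  have hne' : octOf (insert p t) ≠ octOf (insert q t) := by
    intro h
    apply hne
    rw [tetOf, tetOf, h]
  have hsub : t ⊆ octOf (insert p t) ∩ octOf (insert q t) := Finset.subset_inter hs₁ hs₂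
  have hle : 4 ≤ (octOf (insert p t) ∩ octOf (insert q t)).card := by
    rw [← ht]
    exact Finset.card_le_card hsub
  have hcard : (octOf (insert p t) ∩ octOf (insert q t)).card = 4 := by
    rcases octad_meet_cases ho₁ ho₂ with h | h | h | h
    · omega
    · omega
    · exact h
    · exact absurd (octad_meet_eight ho₁ ho₂ h).symm hne'
  have hint : octOf (insert p t) ∩ octOf (insert q t) = t :=
    (Finset.eq_of_subset_of_card_le hsub (by rw [hcard, ht])).symm
  have hmem : ∀ x, x ∈ t ↔ x ∈ octOf (insert p t) ∧ x ∈ octOf (insert q t) := by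
    intro x
    rw [← Finset.mem_inter, hint]
  have hdis : Disjoint (tetOf t p) (tetOf t q) := by
    rw [Finset.disjoint_left]
    intro x hx hx'
    rw [tetOf, Finset.mem_sdiff] at hx hx'
    exact hx.2 ((hmem x).mpr ⟨hx.1, hx'.1⟩)
  refine ⟨⟨?_, ?_⟩, hdis⟩
  · have h := symmDiff_mem_supports ho₁.1 ho₂.1
    have e : tetOf t p ∪ tetOf t q = symmDiff (octOf (insert p t)) (octOf (insert q t)) := by
      ext x
      simp only [tetOf, Finset.mem_union, Finset.mem_sdiff, Finset.mem_symmDiff, hmem]
      tauto
    rw [e]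
    exact h
  · rw [Finset.card_union_of_disjoint hdis, tetOf_card ht hp, tetOf_card ht hq]

/-- The sextet of a tetrad. -/
noncomputable def sextOf (t : Finset GolayPt) : Finset (Finset GolayPt) :=
  insert t ((Finset.univ \ t).image (tetOf t))

theorem mem_sextOf_image {t u : Finset GolayPt} :
    u ∈ (Finset.univ \ t).image (tetOf t) ↔ ∃ p, p ∉ t ∧ tetOf t p = u := by
  simp [Finset.mem_image]

theorem sextOf_mem {t : Finset GolayPt} (ht : t.card = 4) : sextOf t ∈ sextets := by
  have hnot : t ∉ (Finset.univ \ t).image (tetOf t) := by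
    intro h
    obtain ⟨p, hp, e⟩ := mem_sextOf_image.mp h
    have := mem_tetOf_self ht hp
    rw [e] at this
    exact hp this
  have hbi : ((Finset.univ \ t).image (tetOf t)).biUnion id = Finset.univ \ t := by
    ext x
    simp only [Finset.mem_biUnion, id, Finset.mem_sdiff, Finset.mem_univ, true_and]
    constructor
    · rintro ⟨u, hu, hx⟩
      obtain ⟨p, hp, rfl⟩ := mem_sextOf_image.mp hu
      exact (Finset.mem_sdiff.mp hx).2
    · intro hx
      exact ⟨tetOf t x, mem_sextOf_image.mpr ⟨x, hx, rfl⟩, mem_tetOf_self ht hx⟩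
  have hpd : ∀ u ∈ (Finset.univ \ t).image (tetOf t), ∀ v ∈ (Finset.univ \ t).image (tetOf t),
      u ≠ v → Disjoint (id u) (id v) := by
    intro u hu v hv huv
    obtain ⟨p, hp, rfl⟩ := mem_sextOf_image.mp hu
    obtain ⟨q, hq, rfl⟩ := mem_sextOf_image.mp hv
    exact (tetOf_pair ht hp hq huv).2
  have hcard5 : ((Finset.univ \ t).image (tetOf t)).card = 5 := by
    have h1 := Finset.card_biUnion hpd
    rw [hbi, Finset.card_sdiff_of_subset (Finset.subset_univ t), Finset.card_univ, card_golayPt,
      ht] at h1
    have h2 : ∑ u ∈ (Finset.univ \ t).image (tetOf t), (id u).card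
        = ∑ _u ∈ (Finset.univ \ t).image (tetOf t), 4 := by
      refine Finset.sum_congr rfl fun u hu => ?_
      obtain ⟨p, hp, rfl⟩ := mem_sextOf_image.mp hu
      exact tetOf_card ht hp
    rw [h2, Finset.sum_const, smul_eq_mul] at h1
    omega
  refine ⟨?_, ?_, ?_⟩
  · rw [sextOf, Finset.card_insert_of_notMem hnot, hcard5]
  · intro u hu
    rw [sextOf, Finset.mem_insert] at hu
    rcases hu with rfl | hu
    · exact ht
    · obtain ⟨p, hp, rfl⟩ := mem_sextOf_image.mp hu
      exact tetOf_card ht hp
  · intro u hu v hv huv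
    rw [sextOf, Finset.mem_insert] at hu hv
    rcases hu with rfl | hu <;> rcases hv with rfl | hv
    · exact absurd rfl huv
    · obtain ⟨q, hq, rfl⟩ := mem_sextOf_image.mp hv
      rw [union_tetOf ht hq]
      exact oct_tet_mem ht hq
    · obtain ⟨p, hp, rfl⟩ := mem_sextOf_image.mp hu
      rw [Finset.union_comm, union_tetOf ht hp]
      exact oct_tet_mem ht hp
    · obtain ⟨p, hp, rfl⟩ := mem_sextOf_image.mp hu
      obtain ⟨q, hq, rfl⟩ := mem_sextOf_image.mp hv
      exact (tetOf_pair ht hp hq huv).1

theorem sextet_eq_sextOf {S : Finset (Finset GolayPt)} (hS : S ∈ sextets) {t : Finset GolayPt}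
    (htS : t ∈ S) : S = sextOf t := by
  have ht : t.card = 4 := hS.2.1 t htS
  have hsub : S ⊆ sextOf t := by
    intro u hu
    by_cases hut : u = t
    · rw [hut]
      exact Finset.mem_insert_self t _
    · have hu8 := hS.2.2 t htS u hu (Ne.symm hut)
      have hu4 := hS.2.1 u hu
      have hci := Finset.card_union_add_card_inter t u
      rw [hu8.2, ht, hu4] at hci
      have hdis : Disjoint t u := by
        rw [Finset.disjoint_iff_inter_eq_empty, ← Finset.card_eq_zero]
        omega
      have hne : u.Nonempty := by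
        rw [← Finset.card_pos, hu4]
        norm_num
      obtain ⟨p, hp⟩ := hne
      have hpt : p ∉ t := fun h => (Finset.disjoint_left.mp hdis h) hp
      have hins : insert p t ⊆ t ∪ u :=
        Finset.insert_subset (Finset.mem_union_right _ hp) Finset.subset_union_left
      have e := octOf_unique (card_insert_tet ht hpt) hu8 hins
      have e2 : tetOf t p = u := by
        rw [tetOf, ← e, Finset.union_sdiff_cancel_left hdis]
      exact Finset.mem_insert_of_mem (mem_sextOf_image.mpr ⟨p, hpt, e2⟩)
  exact Finset.eq_of_subset_of_card_le hsub (by rw [hS.1, (sextOf_mem ht).1])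

theorem sextets_ncard : sextets.ncard = 1771 := by
  classical
  have hs : ((Finset.univ : Finset GolayPt).powersetCard 4).card = 10626 := by
    rw [Finset.card_powersetCard, Finset.card_univ, card_golayPt]
    decide
  have hmaps : ∀ t ∈ (Finset.univ : Finset GolayPt).powersetCard 4, sextOf t ∈ blocks sextets := by
    intro t ht
    rw [mem_blocks]
    exact sextOf_mem (Finset.mem_powersetCard.mp ht).2
  have hfib : ∀ S ∈ blocks sextets,
      (((Finset.univ : Finset GolayPt).powersetCard 4).filter (fun t => sextOf t = S)).card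
        = 6 := by
    intro S hS
    rw [mem_blocks] at hS
    have e : ((Finset.univ : Finset GolayPt).powersetCard 4).filter (fun t => sextOf t = S)
        = S := by
      ext t
      rw [Finset.mem_filter, Finset.mem_powersetCard]
      constructor
      · rintro ⟨_, h⟩
        rw [← h]
        exact Finset.mem_insert_self t _
      · intro h
        exact ⟨⟨Finset.subset_univ t, hS.2.1 t h⟩, (sextet_eq_sextOf hS h).symm⟩
    rw [e, hS.1]
  have hsum := Finset.card_eq_sum_card_fiberwise hmaps
  rw [Finset.sum_congr rfl hfib, Finset.sum_const, card_blocks, smul_eq_mul, hs] at hsum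
  omega

theorem tetrad_unique_sextet (t : Finset GolayPt) (ht : t.card = 4) :
    ∃! S : Finset (Finset GolayPt), S ∈ sextets ∧ t ∈ S :=
  ⟨sextOf t, ⟨sextOf_mem ht, Finset.mem_insert_self t _⟩,
    fun _ hS => sextet_eq_sextOf hS.1 hS.2⟩

end Cfsg.Agent.Helper1.Golay
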