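import Mathlib
import Cfsg.Agent.Helper1.FamSextTab
import Cfsg.Agent.Helper1.FamTrio
import Cfsg.Agent.Helper1.Sextet

set_option autoImplicit false

namespace Cfsg.Agent.Helper1.Golay

open Cfsg
open scoped Pointwise

theorem sextets_inv : FamInv sextets := by
  intro g hg X hX
  obtain ⟨hc, h4, hu⟩ := hX
  refine ⟨by rw [Finset.card_smul_finset]; exact hc, ?_, ?_⟩
  · intro t ht
    obtain ⟨t', ht', rfl⟩ := Finset.mem_smul_finset.mp ht
    rw [Finset.card_smul_finset]
    exact h4 t' ht'
  · intro t ht u hu' hne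
    obtain ⟨a, ha, rfl⟩ := Finset.mem_smul_finset.mp ht
    obtain ⟨b, hb, rfl⟩ := Finset.mem_smul_finset.mp hu'
    have hab : a ≠ b := fun h => hne (by rw [h])
    rw [← Finset.smul_finset_union]
    exact smul_mem_wordsOfWeight hg (hu a ha b hb hab)

theorem support_union (m n : ℕ) :
    support₂ (ofBits m) ∪ support₂ (ofBits n) = support₂ (ofBits (m ||| n)) := by
  ext p
  rw [Finset.mem_union, mem_support₂_ofBits, mem_support₂_ofBits, mem_support₂_ofBits,
    Nat.testBit_or, Bool.or_eq_true]

theorem sextet_of_masks (l : List ℕ) (hg : goodList l = true) (hlen : l.length = 6)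
    (h4 : l.all (fun m => Nat.beq (popc m) 4) = true) (cert : List ℕ)
    (hu : l.all (fun a => l.all (fun b => Nat.beq a b
      || cert.any (fun c => Nat.beq (comb c) (a ||| b) && Nat.beq (popc (comb c)) 8))) = true) :
    famOf l ∈ sextets := by
  refine ⟨?_, ?_, ?_⟩
  · rw [famOf, List.toFinset_card_of_nodup (nodup_supports hg), List.length_map, hlen]
  · intro t ht
    rw [mem_famOf] at ht
    obtain ⟨m, hm, rfl⟩ := ht
    rw [card_support₂, hammingNorm_ofBits]
    exact Nat.eq_of_beq_eq_true (List.all_eq_true.mp h4 m hm)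
  · intro t ht u hu' hne
    rw [mem_famOf] at ht hu'
    obtain ⟨a, ha, rfl⟩ := ht
    obtain ⟨b, hb, rfl⟩ := hu'
    have h1 := List.all_eq_true.mp (List.all_eq_true.mp hu a ha) b hb
    rw [Bool.or_eq_true] at h1
    rcases h1 with h1 | h1
    · exact absurd (by rw [Nat.eq_of_beq_eq_true h1]) hne
    · obtain ⟨c, _, hc⟩ := List.any_eq_true.mp h1
      rw [Bool.and_eq_true] at hc
      rw [support_union, ← Nat.eq_of_beq_eq_true hc.1]
      exact octad_of_coord c (Nat.eq_of_beq_eq_true hc.2)

theorem sext_base : famOf (sextTb 0) ∈ sextets := by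
  have e : sextTb 0 = [403456, 606272, 1081368, 2098434, 4194341, 8393344] := by decide +kernel
  rw [e]
  exact sextet_of_masks _ (by decide +kernel) rfl (by decide +kernel)
    [106, 506, 898, 1000, 1053, 1511, 1551, 1637, 1951, 2037, 2448, 2578, 2680, 3191, 3469]
    (by decide +kernel)

theorem sext_isTable : IsTable sextets sextTb 1771 := by
  refine isTable_of_checks sextets sextTb 1771 sextets_inv sextets_ncard sext_base m24GL
    m24GL_ok sextWalk ?_ ?_ ?_
  · exact sextWalk_ok
  · exact sextGood_ok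
  · exact sextKey_ok

end Cfsg.Agent.Helper1.Golay
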