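import Mathlib
import Cfsg.Agent.S5076

set_option autoImplicit false

namespace Cfsg.Agent.Helper1

open Cfsg

variable {G : Type*} [Group G]

/-- Every automorphism induced by the whole group on a self-normalizing subgroup is inner. -/
theorem aut_top_inner (S : Subgroup G) (hN : Subgroup.normalizer (S : Set G) ≤ S)
    (α : MulAut S) (hα : α ∈ autInducedBy ⊤ S) :
    ∃ s ∈ S, ∀ x : S, ((α x : S) : G) = s * (x : G) * s⁻¹ := by
  unfold autInducedBy at hα
  induction hα using Subgroup.closure_induction with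
  | mem β hβ =>
    obtain ⟨g, -, hg⟩ := hβ
    refine ⟨g, hN ?_, hg⟩
    rw [Subgroup.mem_normalizer_iff]
    intro h
    constructor
    · intro hh
      have h1 := hg ⟨h, hh⟩
      rw [← h1]
      exact (β ⟨h, hh⟩).2
    · intro hh
      obtain ⟨x, hx⟩ := β.surjective ⟨g * h * g⁻¹, hh⟩
      have h1 := hg x
      rw [hx] at h1
      have h2 : h = (x : G) := mul_left_cancel (mul_right_cancel h1)
      rw [h2]
      exact x.2
  | one => exact ⟨1, S.one_mem, fun x => by simp⟩
  | mul β γ _ _ ihβ ihγ =>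
    obtain ⟨s, hs, hs'⟩ := ihβ
    obtain ⟨t, ht, ht'⟩ := ihγ
    refine ⟨s * t, S.mul_mem hs ht, fun x => ?_⟩
    rw [MulAut.mul_apply, hs', ht']
    group
  | inv β _ ihβ =>
    obtain ⟨s, hs, hs'⟩ := ihβ
    refine ⟨s⁻¹, S.inv_mem hs, fun x => ?_⟩
    have h1 := hs' (β⁻¹ x)
    rw [MulAut.apply_inv_self] at h1
    rw [h1]
    group

/-- The fusion system of a finite group on a self-normalizing Sylow 2-subgroup without proper
nontrivial strongly closed subgroups is simple. -/
theorem fusion_simple_of_sylow [Finite G] (S : Sylow 2 G)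
    (hS : (S : Subgroup G) ≠ ⊥)
    (hN : Subgroup.normalizer ((S : Subgroup G) : Set G) ≤ (S : Subgroup G))
    (hC : ∀ T : Subgroup G, T ≤ (S : Subgroup G) → T ≠ ⊥ →
      (∀ x ∈ T, ∀ h : G, h * x * h⁻¹ ∈ (S : Subgroup G) → h * x * h⁻¹ ∈ T) →
      T = (S : Subgroup G)) :
    (groupFusionSystem (S : Subgroup G)).IsSimple 2 := by
  refine ⟨Cfsg.Agent.S5076.result 2 S, hS, ?_⟩
  intro T E hE
  obtain ⟨⟨-, -, hsub, hsc, -, hfrat⟩, -⟩ := hE
  by_cases hT : T = ⊥
  · exact Or.inl hT
  right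
  have hTS : T = (S : Subgroup G) := by
    apply hC T hsc.1 hT
    intro x hx h hh
    have hR : Subgroup.zpowers x ≤ T := (Subgroup.zpowers_le).mpr hx
    have hφ : conjHom (Subgroup.zpowers x) h
        ∈ (groupFusionSystem (S : Subgroup G)).Hom (Subgroup.zpowers x) := by
      refine ⟨hR.trans hsc.1, ?_, h, fun y => rfl⟩
      intro y
      obtain ⟨k, hk⟩ := Subgroup.mem_zpowers_iff.mp y.2
      show h * (y : G) * h⁻¹ ∈ (S : Subgroup G)
      rw [← hk, ← conj_zpow]
      exact zpow_mem hh k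
    exact hsc.2 _ hR _ hφ ⟨x, Subgroup.mem_zpowers x⟩
  subst hTS
  refine ⟨rfl, fun P => ?_⟩
  apply Set.eq_of_subset_of_subset (hsub P)
  intro φ hφ
  have hP : P ≤ (S : Subgroup G) := hφ.1
  obtain ⟨α, hα, φ₀, hφ₀, hfac⟩ := hfrat P hP φ hφ
  rw [Cfsg.Agent.S5076.autGroup_groupFusion_eq _ _ le_rfl] at hα
  obtain ⟨s, hs, hs'⟩ := aut_top_inner _ hN α hα
  have h0 : ∀ x : P, φ₀ x ∈ (S : Subgroup G) := (E.le_of_mem hφ₀).2
  have hcomp := E.comp_mem hφ₀ (E.conj_mem (le_refl _) hs) h0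
  have heq : (conjHom (S : Subgroup G) s).comp (φ₀.codRestrict (S : Subgroup G) h0) = φ := by
    ext x
    show s * (φ₀ x) * s⁻¹ = φ x
    rw [hfac x (h0 x), hs']
  rw [← heq]
  exact hcomp

/-- Transfer of the hypotheses along an isomorphism from a model group. -/
theorem fusion_simple_transfer {M : Type*} [Group M] [Finite G] (ι : M ≃* G)
    (n N : ℕ) (hn : 0 < n) (hM : Nat.card M = N) (hN2 : ¬ 2 ^ (n + 1) ∣ N)
    (S₀ : Subgroup M) (hcard : Nat.card S₀ = 2 ^ n)
    (hnorm : Subgroup.normalizer (S₀ : Set M) ≤ S₀)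
    (hC : ∀ T : Subgroup M, T ≤ S₀ → T ≠ ⊥ →
      (∀ x ∈ T, ∀ h : M, h * x * h⁻¹ ∈ S₀ → h * x * h⁻¹ ∈ T) → T = S₀)
    (S : Sylow 2 G) : (groupFusionSystem (S : Subgroup G)).IsSimple 2 := by
  have key : ∃ ψ : M ≃* G, (S : Subgroup G) = S₀.map ψ.toMonoidHom := by
    have hp : IsPGroup 2 (S₀.map ι.toMonoidHom) :=
      IsPGroup.of_card (n := n) (by rw [Subgroup.card_map_of_injective ι.injective, hcard])
    obtain ⟨Q, hQ⟩ := hp.exists_le_sylow
    have hQcard : Nat.card (Q : Subgroup G) ≤ 2 ^ n := by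
      obtain ⟨k, hk⟩ := IsPGroup.iff_card.mp Q.isPGroup'
      have hdvd := Subgroup.card_subgroup_dvd_card (Q : Subgroup G)
      rw [hk, ← Nat.card_congr ι.toEquiv, hM] at hdvd
      have hk1 : k ≤ n := by
        by_contra hcon
        exact hN2 ((pow_dvd_pow 2 (by omega)).trans hdvd)
      rw [hk]
      exact Nat.pow_le_pow_right (by norm_num) hk1
    have hQeq : S₀.map ι.toMonoidHom = (Q : Subgroup G) :=
      Subgroup.eq_of_le_of_card_ge hQ
        (by rw [Subgroup.card_map_of_injective ι.injective, hcard]; exact hQcard)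
    obtain ⟨g, hg⟩ := MulAction.exists_smul_eq G Q S
    refine ⟨ι.trans (MulAut.conj g), ?_⟩
    rw [← hg, Sylow.coe_subgroup_smul, ← hQeq]
    show (S₀.map ι.toMonoidHom).map (MulAut.conj g).toMonoidHom = _
    rw [Subgroup.map_map]
    rfl
  obtain ⟨ψ, hψ⟩ := key
  apply fusion_simple_of_sylow S
  · rw [hψ]
    intro h
    have h1 : Nat.card ↥(S₀.map ψ.toMonoidHom) = 1 := by
      rw [h]
      exact Subgroup.card_bot
    rw [Subgroup.card_map_of_injective ψ.injective, hcard] at h1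
    have h2 : 1 < 2 ^ n := Nat.one_lt_two_pow (by omega)
    omega
  · rw [hψ]
    intro x hx
    rw [Subgroup.mem_map_equiv]
    apply hnorm
    rw [Subgroup.mem_normalizer_iff] at hx ⊢
    intro h
    have h1 := hx (ψ h)
    rw [Subgroup.mem_map_equiv, Subgroup.mem_map_equiv, ψ.symm_apply_apply, map_mul, map_mul,
      map_inv, ψ.symm_apply_apply] at h1
    exact h1
  · intro T hTS hT hsc
    rw [hψ] at hTS hsc ⊢
    have h0 : T.comap ψ.toMonoidHom = S₀ := by
      apply hC
      · intro x hx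
        have h1 := hTS (Subgroup.mem_comap.mp hx)
        rw [Subgroup.mem_map_equiv] at h1
        have h2 : ψ.symm (ψ x) = x := ψ.symm_apply_apply x
        rw [← h2]
        exact h1
      · intro hbot
        apply hT
        rw [Subgroup.eq_bot_iff_forall]
        intro y hy
        have h1 : ψ.symm y ∈ T.comap ψ.toMonoidHom := by
          rw [Subgroup.mem_comap]
          show ψ (ψ.symm y) ∈ T
          rw [ψ.apply_symm_apply]
          exact hy
        rw [hbot, Subgroup.mem_bot] at h1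
        have h2 : ψ (ψ.symm y) = ψ 1 := by rw [h1]
        rw [ψ.apply_symm_apply, map_one] at h2
        exact h2
      · intro x hx h hh
        rw [Subgroup.mem_comap]
        show ψ (h * x * h⁻¹) ∈ T
        rw [map_mul, map_mul, map_inv]
        apply hsc (ψ x) (Subgroup.mem_comap.mp hx) (ψ h)
        rw [← map_inv, ← map_mul, ← map_mul]
        exact Subgroup.mem_map_of_mem ψ.toMonoidHom hh
    ext y
    rw [Subgroup.mem_map_equiv, ← h0, Subgroup.mem_comap]
    show y ∈ T ↔ ψ (ψ.symm y) ∈ T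
    rw [ψ.apply_symm_apply]

end Cfsg.Agent.Helper1
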