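import Mathlib
import Cfsg.Agent.Helper1.FusSimple

set_option autoImplicit false

namespace Cfsg.Agent.Helper1

open Cfsg

/-- The transfer lemma for a subgroup of an ambient group. -/
theorem fusion_simple_sub {A : Type*} [Group A] (H K : Subgroup A) (hKH : K ≤ H) (n N : ℕ)
    (hn : 0 < n) (hcard : Nat.card ↥H = N) (hN2 : ¬ 2 ^ (n + 1) ∣ N)
    (hK : Nat.card ↥K = 2 ^ n)
    (hnorm : ∀ x ∈ H, (∀ y ∈ K, x * y * x⁻¹ ∈ K) → (∀ y ∈ K, x⁻¹ * y * x ∈ K) → x ∈ K)
    (hcl : ∀ T : Subgroup A, T ≤ K → T ≠ ⊥ →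
      (∀ x ∈ T, ∀ h ∈ H, h * x * h⁻¹ ∈ K → h * x * h⁻¹ ∈ T) → T = K)
    {G : Type*} [Group G] [Finite G] (ι : ↥H ≃* G) (S : Sylow 2 G) :
    (groupFusionSystem (S : Subgroup G)).IsSimple 2 := by
  refine fusion_simple_transfer ι n N hn hcard hN2 (K.subgroupOf H) ?_ ?_ ?_ S
  · rw [Nat.card_congr (Subgroup.subgroupOfEquivOfLe hKH).toEquiv]
    exact hK
  · intro x hx
    rw [Subgroup.mem_subgroupOf]
    apply hnorm _ x.2
    · intro y hy
      have h := (Subgroup.mem_normalizer_iff.mp hx ⟨y, hKH hy⟩).mp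
        (Subgroup.mem_subgroupOf.mpr hy)
      exact Subgroup.mem_subgroupOf.mp h
    · intro y hy
      have h := (Subgroup.mem_normalizer_iff''.mp hx ⟨y, hKH hy⟩).mp
        (Subgroup.mem_subgroupOf.mpr hy)
      exact Subgroup.mem_subgroupOf.mp h
  · intro T hTS hT hsc
    have hT' : T.map H.subtype = K := by
      apply hcl
      · rintro _ ⟨y, hy, rfl⟩
        exact Subgroup.mem_subgroupOf.mp (hTS hy)
      · intro h0
        exact hT ((Subgroup.map_eq_bot_iff_of_injective T H.subtype_injective).mp h0)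
      · rintro _ ⟨y, hy, rfl⟩ h hh hK'
        have h3 := hsc y hy ⟨h, hh⟩ (Subgroup.mem_subgroupOf.mpr hK')
        exact ⟨_, h3, rfl⟩
    apply le_antisymm hTS
    intro x hx
    have hx' : (x : A) ∈ T.map H.subtype := by
      rw [hT']
      exact Subgroup.mem_subgroupOf.mp hx
    obtain ⟨y, hy, e⟩ := hx'
    have e2 : y = x := Subtype.ext e
    rw [← e2]
    exact hy

end Cfsg.Agent.Helper1
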