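import Mathlib
import Cfsg.Agent.Helper1.Golay10

set_option autoImplicit false

namespace Cfsg.Agent.Helper1.Golay

open Cfsg
open scoped Pointwise

/-- Check of a level inside a set stabilizer with fixed points: for each allowed position `q`
the `q`-th word maps `q` to `β`, fixes the positions in `βs` and maps the set `D` into itself. -/
def chkSetLevel2 (D : ℕ) (βs : List ℕ) (β W mask : ℕ) : Bool :=
  (List.range 24).all (fun q => cond (Nat.beq (bitAt mask q) 1)
    (Nat.beq (actW 32 (slot W q) q) β && (βs.all (fun j => Nat.beq (actW 32 (slot W q) j) j)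
      && (List.range 24).all (fun i =>
        cond (Nat.beq (bitAt D i) 1) (Nat.beq (bitAt D (actW 32 (slot W q) i)) 1) true)))
    true)

theorem setLevel2_sound (D : ℕ) (βs : List ℕ) (β W mask : ℕ)
    (h : chkSetLevel2 D βs β W mask = true) (hβ : β < 24) (q : GolayPt)
    (hq : mask.testBit (pos q) = true) :
    ∃ g ∈ genGroup, g q = unpos β ∧ (∀ j ∈ βs, j < 24 → g (unpos j) = unpos j) ∧
      g • support₂ (ofBits D) = support₂ (ofBits D) := by
  have h1 := List.all_eq_true.mp h (pos q) (List.mem_range.mpr (pos_lt q))
  rw [(bitAt_eq_one_iff mask (pos q)).mpr hq, Nat.beq_refl, cond_true, Bool.and_eq_true,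
    Bool.and_eq_true] at h1
  obtain ⟨a1, a2, a3⟩ := h1
  refine ⟨elemW 32 (slot W (pos q)), elemW_mem _ _, ?_, ?_, ?_⟩
  · apply pos_injective
    rw [pos_elemW, pos_unpos β hβ]
    exact Nat.eq_of_beq_eq_true a1
  · intro j hj hj24
    apply pos_injective
    rw [pos_elemW, pos_unpos j hj24]
    exact Nat.eq_of_beq_eq_true (List.all_eq_true.mp a2 j hj)
  · apply smul_eq_of_forall_mem
    intro p hp
    rw [mem_support₂_ofBits] at hp ⊢
    have h2 := List.all_eq_true.mp a3 (pos p) (List.mem_range.mpr (pos_lt p))
    rw [(bitAt_eq_one_iff D (pos p)).mpr hp, Nat.beq_refl, cond_true] at h2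
    rw [pos_elemW]
    exact (bitAt_eq_one_iff _ _).mp (Nat.eq_of_beq_eq_true h2)

/-- The base points outside the base dodecad. -/
def cp (k : ℕ) : GolayPt := unpos ([5, 7, 10].getD k 0)

/-- Packed words of level 1 of the chain inside the stabilizer of the base dodecad. -/
def m12W1 : ℕ := 1922307908956820456364728323424975066737259929730575060604417515406516296487784354601075873062469520160591963900770508846299627175689554538589424839859870678457772024173665979810683185028461997611863236921646695363218420526182027686362521635126412841901354160780425329568109563436872445316647816491392813368502146478038996499721388856753719712119642914816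

theorem m12_check1 : chkSetLevel2 340831 [] 0 m12W1 340831 = true := by
  decide +kernel

theorem m12_mask1 : ∀ q : GolayPt, (340831 : ℕ).testBit (pos q) = true → 
    (340831 : ℕ).testBit (pos q) = true := by
  decide +kernel

/-- Packed words of level 2 of the chain inside the stabilizer of the base dodecad. -/
def m12W2 : ℕ := 15598943510676002715368260398397484081179358727274042706903234205035475105595535275978275869145596444437879558812554316568841349512918251720947742519629454994913916719708992788509824604186281542300970466701309831035932486082756189219957247849189818256745310188059042640451831057777283369800168046329108028157140724316121539921106566645290630262030336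

theorem m12_check2 : chkSetLevel2 340831 [0] 1 m12W2 340830 = true := by
  decide +kernel

theorem m12_mask2 : ∀ q : GolayPt, (340831 : ℕ).testBit (pos q) = true → q ≠ unpos 0 → 
    (340830 : ℕ).testBit (pos q) = true := by
  decide +kernel

/-- Packed words of level 3 of the chain inside the stabilizer of the base dodecad. -/
def m12W3 : ℕ := 40921596856096209048368430357537648013090677455724554126429844075178345785643492375771746677977276180552797702890974706715481481739532369697775664263916288136727576135734391960566851318956289029848735893189099695955479803550250681407285453217786688852017558276364224362714960651230060788205576591262169076923532614775336631345846739793799624627355578793984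

theorem m12_check3 : chkSetLevel2 340831 [0, 1] 2 m12W3 340828 = true := by
  decide +kernel

theorem m12_mask3 : ∀ q : GolayPt, (340831 : ℕ).testBit (pos q) = true → q ≠ unpos 0 → q ≠ unpos 1 → 
    (340828 : ℕ).testBit (pos q) = true := by
  decide +kernel

/-- Packed words of level 4 of the chain inside the stabilizer of the base dodecad. -/
def m12W4 : ℕ := 159571256947746955119610264204167039234187956896260333441856718041237831318268712617893335537200789609589638689520111407171849070343172853151330358422222612853287530924950426107741953892020963287669708260796047549340268162241264182262184607479989467136928461595206526023804688125590410159430359552176381313979264114910948346897787085858248520644779942111870976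

theorem m12_check4 : chkSetLevel2 340831 [0, 1, 2] 3 m12W4 340824 = true := by
  decide +kernel

theorem m12_mask4 : ∀ q : GolayPt, (340831 : ℕ).testBit (pos q) = true → q ≠ unpos 0 → q ≠ unpos 1 → q ≠ unpos 2 → 
    (340824 : ℕ).testBit (pos q) = true := by
  decide +kernel

/-- Packed words of level 5 of the chain inside the stabilizer of the base dodecad. -/
def m12W5 : ℕ := 64987412558991892052335906743927988939592008333253341961120791174409783305164858437792341056862649470606659963042197866673494386782860579401628023042254416615665336305071826965939140295486389318965315450410842424858887401573099701698028752639763194229273049766130796459950067507510349240511997317776971686177168872681688616271950053052391308533004081427382272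

theorem m12_check5 : chkSetLevel2 340831 [0, 1, 2, 3] 4 m12W5 340816 = true := by
  decide +kernel

theorem m12_mask5 : ∀ q : GolayPt, (340831 : ℕ).testBit (pos q) = true → q ≠ unpos 0 → q ≠ unpos 1 → q ≠ unpos 2 → q ≠ unpos 3 → 
    (340816 : ℕ).testBit (pos q) = true := by
  decide +kernel

/-- Packed words of level 1 of the chain inside the stabilizer of the base dodecad and a
point of it, acting on the complement. -/
def m11W1 : ℕ := 244335287579986499442300577120070418653115084253165546700710043797296961480857621789673688884320236261082385612126764592485129066571562854316769082112507279425227019242624496630855243852400764659415339756732601737757368180452553290045236435847159411890127099488808951769972424641233468431668260244661041915122128030172351799481090252724020095753736702305468699768031756033578352261658784926373503426953870300585720357863889913360420346511926766098972672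

theorem m11_check1 : chkSetLevel2 340831 [0] 5 m11W1 16436384 = true := by
  decide +kernel

theorem m11_mask1 : ∀ q : GolayPt, (340831 : ℕ).testBit (pos q) = false → 
    (16436384 : ℕ).testBit (pos q) = true := by
  decide +kernel

/-- Packed words of level 2 of the chain inside the stabilizer of the base dodecad and a
point of it, acting on the complement. -/
def m11W2 : ℕ := 6417240592674612002320468669767255802610407524137955776801247055329683608824681560390319487871467203968617616968059023792094426432871467762161744977537409562869416585550132662174633221092304097601469582778698776728242336445714636651627644611735714675409876054339385244609395903865731875085154972265465137123187779110174535163229786365211419832322221459458782232827821865838818098551025564039401629829877099516257705923707788424147946878620743001291358208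

theorem m11_check2 : chkSetLevel2 340831 [0, 5] 7 m11W2 16436352 = true := by
  decide +kernel

theorem m11_mask2 : ∀ q : GolayPt, (340831 : ℕ).testBit (pos q) = false → q ≠ cp 0 → 
    (16436352 : ℕ).testBit (pos q) = true := by
  decide +kernel

/-- Packed words of level 3 of the chain inside the stabilizer of the base dodecad and a
point of it, acting on the complement. -/
def m11W3 : ℕ := 3283244192858487298093935868921174522472458583139399013694672582773335759402777423572915787593760559616301781441472404992021917536832123000712175200786162840366324945000521269796931384000654933773810855599010190659716902608433170499044894268582456807673556965279047709724084788101571473027194402765301927026930807740801826420690431856131618192756376212656569512366236588276334163705748690420036280276143278029076232540036301273255062722665827038610325504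

theorem m11_check3 : chkSetLevel2 340831 [0, 5, 7] 10 m11W3 16436224 = true := by
  decide +kernel

theorem m11_mask3 : ∀ q : GolayPt, (340831 : ℕ).testBit (pos q) = false → q ≠ cp 0 → q ≠ cp 1 → 
    (16436224 : ℕ).testBit (pos q) = true := by
  decide +kernel

theorem m12_lvl : ∀ k < 5, ∀ q : GolayPt, (340831 : ℕ).testBit (pos q) = true →
    (∀ i < k, q ≠ unpos i) →
    ∃ h ∈ genGroup, h q = unpos k ∧ (∀ i < k, h (unpos i) = unpos i) ∧
      h • support₂ (ofBits 340831) = support₂ (ofBits 340831) := by
  intro k hk q hD hq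
  interval_cases k
  · obtain ⟨g, hg, e, f, s⟩ := setLevel2_sound _ _ _ _ _ m12_check1 (by norm_num) q
      (m12_mask1 q hD )
    refine ⟨g, hg, e, ?_, s⟩
    intro i hi
    exact f i (by interval_cases i <;> simp) (by omega)
  · obtain ⟨g, hg, e, f, s⟩ := setLevel2_sound _ _ _ _ _ m12_check2 (by norm_num) q
      (m12_mask2 q hD (hq 0 (by norm_num)))
    refine ⟨g, hg, e, ?_, s⟩
    intro i hi
    exact f i (by interval_cases i <;> simp) (by omega)
  · obtain ⟨g, hg, e, f, s⟩ := setLevel2_sound _ _ _ _ _ m12_check3 (by norm_num) q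
      (m12_mask3 q hD (hq 0 (by norm_num)) (hq 1 (by norm_num)))
    refine ⟨g, hg, e, ?_, s⟩
    intro i hi
    exact f i (by interval_cases i <;> simp) (by omega)
  · obtain ⟨g, hg, e, f, s⟩ := setLevel2_sound _ _ _ _ _ m12_check4 (by norm_num) q
      (m12_mask4 q hD (hq 0 (by norm_num)) (hq 1 (by norm_num)) (hq 2 (by norm_num)))
    refine ⟨g, hg, e, ?_, s⟩
    intro i hi
    exact f i (by interval_cases i <;> simp) (by omega)
  · obtain ⟨g, hg, e, f, s⟩ := setLevel2_sound _ _ _ _ _ m12_check5 (by norm_num) q
      (m12_mask5 q hD (hq 0 (by norm_num)) (hq 1 (by norm_num)) (hq 2 (by norm_num)) (hq 3 (by norm_num)))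
    refine ⟨g, hg, e, ?_, s⟩
    intro i hi
    exact f i (by interval_cases i <;> simp) (by omega)

theorem m11_lvl : ∀ k < 3, ∀ q : GolayPt, (340831 : ℕ).testBit (pos q) = false →
    (∀ i < k, q ≠ cp i) →
    ∃ h ∈ genGroup, h q = cp k ∧ (∀ i < k, h (cp i) = cp i) ∧ h (unpos 0) = unpos 0 ∧
      h • support₂ (ofBits 340831) = support₂ (ofBits 340831) := by
  intro k hk q hD hq
  interval_cases k
  · obtain ⟨g, hg, e, f, s⟩ := setLevel2_sound _ _ _ _ _ m11_check1 (by norm_num) q
      (m11_mask1 q hD )
    refine ⟨g, hg, e, ?_, f 0 (by simp) (by norm_num), s⟩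
    intro i hi
    exact absurd hi (Nat.not_lt_zero i)
  · obtain ⟨g, hg, e, f, s⟩ := setLevel2_sound _ _ _ _ _ m11_check2 (by norm_num) q
      (m11_mask2 q hD (hq 0 (by norm_num)))
    refine ⟨g, hg, e, ?_, f 0 (by simp) (by norm_num), s⟩
    intro i hi
    interval_cases i
    · exact f 5 (by simp) (by norm_num)
  · obtain ⟨g, hg, e, f, s⟩ := setLevel2_sound _ _ _ _ _ m11_check3 (by norm_num) q
      (m11_mask3 q hD (hq 0 (by norm_num)) (hq 1 (by norm_num)))
    refine ⟨g, hg, e, ?_, f 0 (by simp) (by norm_num), s⟩
    intro i hi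
    interval_cases i
    · exact f 5 (by simp) (by norm_num)
    · exact f 7 (by simp) (by norm_num)

theorem apply_mem_of_smul_eq {g : Equiv.Perm GolayPt} {s : Finset GolayPt} (hs : g • s = s)
    {p : GolayPt} (hp : p ∈ s) : g p ∈ s := by
  have h1 : g • p ∈ g • s := Finset.smul_mem_smul_finset hp
  rw [hs] at h1
  exact h1

theorem apply_notMem_of_smul_eq {g : Equiv.Perm GolayPt} {s : Finset GolayPt}
    (hs : g • s = s) {p : GolayPt} (hp : p ∉ s) : g p ∉ s := by
  intro h
  have h1 : g • p ∈ g • s := by
    rw [hs]
    exact h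
  rw [Finset.smul_mem_smul_finset_iff] at h1
  exact hp h1

theorem m12_to_base_aux (x : Fin 5 ↪ GolayPt) (hx : ∀ i, x i ∈ support₂ (ofBits 340831)) :
    ∀ k ≤ 5, ∃ g ∈ genGroup, g • support₂ (ofBits 340831) = support₂ (ofBits 340831) ∧
      ∀ i : Fin 5, i.val < k → g (x i) = unpos i.val := by
  intro k
  induction k with
  | zero =>
    intro _
    exact ⟨1, one_mem _, one_smul _ _, fun i hi => absurd hi (Nat.not_lt_zero _)⟩
  | succ k ih =>
    intro hk
    obtain ⟨g, hg, hgs, hgx⟩ := ih (Nat.le_of_succ_le hk)
    have hk5 : k < 5 := hk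
    have hne : ∀ i < k, g (x ⟨k, hk5⟩) ≠ unpos i := by
      intro i hi e
      have hi5 : i < 5 := lt_trans hi hk5
      have h1 := hgx ⟨i, hi5⟩ hi
      have h2 : x ⟨k, hk5⟩ = x ⟨i, hi5⟩ := g.injective (e.trans h1.symm)
      have h3 := x.injective h2
      rw [Fin.mk.injEq] at h3
      omega
    have hD : (340831 : ℕ).testBit (pos (g (x ⟨k, hk5⟩))) = true :=
      (mem_support₂_ofBits _ _).mp (apply_mem_of_smul_eq hgs (hx _))
    obtain ⟨h, hh, e1, e2, e3⟩ := m12_lvl k hk5 (g (x ⟨k, hk5⟩)) hD hne
    refine ⟨h * g, mul_mem hh hg, by rw [mul_smul, hgs, e3], ?_⟩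
    intro i hi
    rw [Equiv.Perm.mul_apply]
    rcases Nat.lt_succ_iff_lt_or_eq.mp hi with h' | h'
    · rw [hgx i h']
      exact e2 i.val h'
    · have hi' : i = ⟨k, hk5⟩ := Fin.ext h'
      rw [hi', e1]

theorem m11_to_base_aux (x : Fin 3 ↪ GolayPt) (hx : ∀ i, x i ∉ support₂ (ofBits 340831)) :
    ∀ k ≤ 3, ∃ g ∈ genGroup, g • support₂ (ofBits 340831) = support₂ (ofBits 340831) ∧
      g (unpos 0) = unpos 0 ∧ ∀ i : Fin 3, i.val < k → g (x i) = cp i.val := by
  intro k
  induction k with
  | zero =>
    intro _
    exact ⟨1, one_mem _, one_smul _ _, rfl, fun i hi => absurd hi (Nat.not_lt_zero _)⟩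
  | succ k ih =>
    intro hk
    obtain ⟨g, hg, hgs, hg0, hgx⟩ := ih (Nat.le_of_succ_le hk)
    have hk3 : k < 3 := hk
    have hne : ∀ i < k, g (x ⟨k, hk3⟩) ≠ cp i := by
      intro i hi e
      have hi3 : i < 3 := lt_trans hi hk3
      have h1 := hgx ⟨i, hi3⟩ hi
      have h2 : x ⟨k, hk3⟩ = x ⟨i, hi3⟩ := g.injective (e.trans h1.symm)
      have h3 := x.injective h2
      rw [Fin.mk.injEq] at h3
      omega
    have hD : (340831 : ℕ).testBit (pos (g (x ⟨k, hk3⟩))) = false := by
      cases hb : (340831 : ℕ).testBit (pos (g (x ⟨k, hk3⟩)))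
      · rfl
      · exact absurd ((mem_support₂_ofBits _ _).mpr hb) (apply_notMem_of_smul_eq hgs (hx _))
    obtain ⟨h, hh, e1, e2, e0, e3⟩ := m11_lvl k hk3 (g (x ⟨k, hk3⟩)) hD hne
    refine ⟨h * g, mul_mem hh hg, by rw [mul_smul, hgs, e3], ?_, ?_⟩
    · rw [Equiv.Perm.mul_apply, hg0, e0]
    · intro i hi
      rw [Equiv.Perm.mul_apply]
      rcases Nat.lt_succ_iff_lt_or_eq.mp hi with h' | h'
      · rw [hgx i h']
        exact e2 i.val h'
      · have hi' : i = ⟨k, hk3⟩ := Fin.ext h'
        rw [hi', e1]

theorem conj_smul_eq {t g : Equiv.Perm GolayPt} {d0 d : Finset GolayPt} (ht : t • d0 = d)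
    (hg : g • d0 = d0) : (t * g * t⁻¹) • d = d := by
  rw [mul_smul, mul_smul, ← ht, inv_smul_smul, hg]

/-- Existence part of sharp 5-transitivity of a dodecad stabilizer on the dodecad. -/
theorem m12_exists (d : Finset GolayPt) (hd : d ∈ dodecads) (x y : Fin 5 ↪ GolayPt)
    (hx : ∀ i, x i ∈ d) (hy : ∀ i, y i ∈ d) :
    ∃ g ∈ M24, g • d = d ∧ ∀ i, g (x i) = y i := by
  obtain ⟨t, ht⟩ := dodecads_transitive _ d baseDodecad_mem hd
  have ht' : (t : Equiv.Perm GolayPt) • support₂ (ofBits 340831) = d := by
    rw [← comb_one]
    exact ht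
  have hmem : ∀ p ∈ d, (t : Equiv.Perm GolayPt)⁻¹ p ∈ support₂ (ofBits 340831) := by
    intro p hp
    have h1 : (t : Equiv.Perm GolayPt)⁻¹ • p ∈ support₂ (ofBits 340831) := by
      rw [Finset.inv_smul_mem_iff, ht']
      exact hp
    exact h1
  obtain ⟨gx, hgx, sx, ex⟩ := m12_to_base_aux
    (x.trans (t : Equiv.Perm GolayPt)⁻¹.toEmbedding) (fun i => hmem _ (hx i)) 5 le_rfl
  obtain ⟨gy, hgy, sy, ey⟩ := m12_to_base_aux
    (y.trans (t : Equiv.Perm GolayPt)⁻¹.toEmbedding) (fun i => hmem _ (hy i)) 5 le_rfl
  refine ⟨(t : Equiv.Perm GolayPt) * (gy⁻¹ * gx) * (t : Equiv.Perm GolayPt)⁻¹,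
    mul_mem (mul_mem t.2 (mul_mem (inv_mem (genGroup_le hgy)) (genGroup_le hgx))) (inv_mem t.2),
    conj_smul_eq ht' (by rw [mul_smul, sx, inv_smul_eq_iff, sy]), ?_⟩
  intro i
  have h1 : gx ((t : Equiv.Perm GolayPt)⁻¹ (x i)) = unpos i.val := ex i i.isLt
  have h2 : gy ((t : Equiv.Perm GolayPt)⁻¹ (y i)) = unpos i.val := ey i i.isLt
  rw [Equiv.Perm.mul_apply, Equiv.Perm.mul_apply, Equiv.Perm.mul_apply, h1, ← h2]
  have h3 : gy⁻¹ (gy ((t : Equiv.Perm GolayPt)⁻¹ (y i))) = (t : Equiv.Perm GolayPt)⁻¹ (y i) :=
    gy.symm_apply_apply _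
  rw [h3]
  exact (t : Equiv.Perm GolayPt).apply_symm_apply (y i)

/-- The stabilizer of a dodecad and a point of it is 3-transitive on the complement. -/
theorem m11_exists (d : Finset GolayPt) (hd : d ∈ dodecads) (p : GolayPt) (hp : p ∈ d)
    (x y : Fin 3 ↪ GolayPt) (hx : ∀ i, x i ∉ d) (hy : ∀ i, y i ∉ d) :
    ∃ g ∈ M24, g • d = d ∧ g p = p ∧ ∀ i, g (x i) = y i := by
  obtain ⟨t1, ht1⟩ := dodecads_transitive _ d baseDodecad_mem hd
  have ht1' : (t1 : Equiv.Perm GolayPt) • support₂ (ofBits 340831) = d := by
    rw [← comb_one]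
    exact ht1
  have h0 : unpos 0 ∈ support₂ (ofBits 340831) := by
    rw [mem_support₂_ofBits]
    decide +kernel
  have h0d : (t1 : Equiv.Perm GolayPt) (unpos 0) ∈ d := by
    have h1 : (t1 : Equiv.Perm GolayPt) • unpos 0 ∈ (t1 : Equiv.Perm GolayPt)
        • support₂ (ofBits 340831) := Finset.smul_mem_smul_finset h0
    rw [ht1'] at h1
    exact h1
  obtain ⟨h, hh, hs, hp'⟩ := dodecad_stab_trans d hd _ p h0d hp
  have ht' : (h * (t1 : Equiv.Perm GolayPt)) • support₂ (ofBits 340831) = d := by
    rw [mul_smul, ht1', hs]
  have htm : h * (t1 : Equiv.Perm GolayPt) ∈ M24 := mul_mem hh t1.2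
  have htp : (h * (t1 : Equiv.Perm GolayPt)) (unpos 0) = p := by
    rw [Equiv.Perm.mul_apply, hp']
  generalize h * (t1 : Equiv.Perm GolayPt) = t at ht' htm htp
  have hmem : ∀ q, q ∉ d → t⁻¹ q ∉ support₂ (ofBits 340831) := by
    intro q hq hq'
    have h1 : t⁻¹ • q ∈ support₂ (ofBits 340831) := hq'
    rw [Finset.inv_smul_mem_iff, ht'] at h1
    exact hq h1
  obtain ⟨gx, hgx, sx, fx, ex⟩ := m11_to_base_aux
    (x.trans t⁻¹.toEmbedding) (fun i => hmem _ (hx i)) 3 le_rfl
  obtain ⟨gy, hgy, sy, fy, ey⟩ := m11_to_base_aux
    (y.trans t⁻¹.toEmbedding) (fun i => hmem _ (hy i)) 3 le_rfl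
  refine ⟨t * (gy⁻¹ * gx) * t⁻¹,
    mul_mem (mul_mem htm (mul_mem (inv_mem (genGroup_le hgy)) (genGroup_le hgx))) (inv_mem htm),
    conj_smul_eq ht' (by rw [mul_smul, sx, inv_smul_eq_iff, sy]), ?_, ?_⟩
  · have h1 : t⁻¹ p = unpos 0 := by
      rw [← htp]
      exact t.symm_apply_apply _
    have h2 : gy⁻¹ (unpos 0) = unpos 0 := by
      have h3 : gy⁻¹ (gy (unpos 0)) = unpos 0 := gy.symm_apply_apply _
      rw [fy] at h3
      exact h3
    rw [Equiv.Perm.mul_apply, Equiv.Perm.mul_apply, Equiv.Perm.mul_apply, h1, fx, h2, htp]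
  · intro i
    have h1 : gx (t⁻¹ (x i)) = cp i.val := ex i i.isLt
    have h2 : gy (t⁻¹ (y i)) = cp i.val := ey i i.isLt
    rw [Equiv.Perm.mul_apply, Equiv.Perm.mul_apply, Equiv.Perm.mul_apply, h1, ← h2]
    have h3 : gy⁻¹ (gy (t⁻¹ (y i))) = t⁻¹ (y i) := gy.symm_apply_apply _
    rw [h3]
    exact t.apply_symm_apply (y i)

end Cfsg.Agent.Helper1.Golay
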