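import Mathlib
import Cfsg.Agent.Helper1.Golay11

set_option autoImplicit false

namespace Cfsg.Agent.Helper1.Golay

open Cfsg
open scoped Pointwise

theorem ncard_embeddings_in {α : Type*} [Fintype α] [DecidableEq α] (d : Finset α) (n : ℕ) :
    {y : Fin n ↪ α | ∀ i, y i ∈ d}.ncard = d.card.descFactorial n := by
  rw [← Nat.card_coe_set_eq]
  have e : {y : Fin n ↪ α | ∀ i, y i ∈ d} ≃ (Fin n ↪ {p // p ∈ d}) :=
    { toFun := fun y => ⟨fun i => ⟨y.1 i, y.2 i⟩, fun a b h =>
        y.1.injective (congrArg Subtype.val h)⟩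
      invFun := fun z => ⟨⟨fun i => (z i).1, fun a b h => z.injective (Subtype.ext h)⟩,
        fun i => (z i).2⟩
      left_inv := fun y => rfl
      right_inv := fun z => rfl }
  rw [Nat.card_congr e, Nat.card_eq_fintype_card, Fintype.card_embedding_eq, Fintype.card_coe,
    Fintype.card_fin]

theorem m12_stab_trivial (d : Finset GolayPt) (hd : d ∈ dodecads) (x : Fin 5 ↪ GolayPt)
    (hx : ∀ i, x i ∈ d) :
    MulAction.stabilizer M24 d ⊓ MulAction.stabilizer M24 x = ⊥ := by
  have h : Nat.card ↥(MulAction.stabilizer M24 d)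
      = {y | ∃ h ∈ MulAction.stabilizer M24 d, h • x = y}.ncard
        * Nat.card ↥(MulAction.stabilizer M24 d ⊓ MulAction.stabilizer M24 x) :=
    card_eq_orbit_mul' (MulAction.stabilizer M24 d) x
  have e : {y | ∃ h ∈ MulAction.stabilizer M24 d, h • x = y}
      = {y : Fin 5 ↪ GolayPt | ∀ i, y i ∈ d} := by
    ext y
    constructor
    · rintro ⟨h, hh, rfl⟩ i
      rw [MulAction.mem_stabilizer_iff] at hh
      have hh' : (h : Equiv.Perm GolayPt) • d = d := hh
      exact apply_mem_of_smul_eq hh' (hx i)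
    · intro hy
      obtain ⟨g, hg, h1, h2⟩ := m12_exists d hd x y hx hy
      exact ⟨⟨g, hg⟩, MulAction.mem_stabilizer_iff.mpr h1,
        Function.Embedding.ext (fun i => h2 i)⟩
  rw [e, ncard_embeddings_in, hd.2, card_stabilizer_dodecad d hd] at h
  have h2 : Nat.descFactorial 12 5 = 95040 := by decide
  rw [h2] at h
  have h3 : Nat.card ↥(MulAction.stabilizer M24 d ⊓ MulAction.stabilizer M24 x) = 1 := by
    omega
  exact Subgroup.card_eq_one.mp h3

end Cfsg.Agent.Helper1.Golay
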