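import Mathlib
import Cfsg.Prelude.Def_SolvableStructure

set_option autoImplicit false

namespace Cfsg.Agent.Helper1

/-- A chain of normal subgroups from `A` up to `B` with cyclic steps. -/
inductive SSChain {G : Type*} [Group G] (A : Subgroup G) : Subgroup G → Prop
  | refl (hA : A.Normal) : SSChain A A
  | step (B : Subgroup G) (g : G) (h : SSChain A B)
      (hn : (B ⊔ Subgroup.zpowers g).Normal) : SSChain A (B ⊔ Subgroup.zpowers g)

variable {G : Type*} [Group G]

theorem SSChain.normal_right {A B : Subgroup G} (h : SSChain A B) : B.Normal := by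
  cases h with
  | refl hA => exact hA
  | step B g h hn => exact hn

theorem SSChain.trans {A B C : Subgroup G} (h1 : SSChain A B) (h2 : SSChain B C) :
    SSChain A C := by
  induction h2 with
  | refl _ => exact h1
  | step C g _ hn ih => exact SSChain.step C g ih hn

theorem ssChain_of_fin {n : ℕ} (H : Fin (n + 1) → Subgroup G) (hn : ∀ i, (H i).Normal)
    (hs : ∀ i : Fin n, ∃ g : G, H i.succ = H i.castSucc ⊔ Subgroup.zpowers g)
    (i : Fin (n + 1)) : SSChain (H 0) (H i) := by
  induction i using Fin.induction with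
  | zero => exact SSChain.refl (hn 0)
  | succ i ih =>
    obtain ⟨g, hg⟩ := hs i
    rw [hg]
    exact SSChain.step _ g ih (hg ▸ hn i.succ)

theorem fin_of_ssChain {A B : Subgroup G} (h : SSChain A B) :
    ∃ (n : ℕ) (H : Fin (n + 1) → Subgroup G), H 0 = A ∧ H (Fin.last n) = B ∧
      (∀ i, (H i).Normal) ∧
      ∀ i : Fin n, ∃ g : G, H i.succ = H i.castSucc ⊔ Subgroup.zpowers g := by
  induction h with
  | refl hA => exact ⟨0, fun _ => A, rfl, rfl, fun _ => hA, fun i => i.elim0⟩
  | step B g h hn ih =>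
    obtain ⟨n, H, h0, hl, hnorm, hstep⟩ := ih
    refine ⟨n + 1, Fin.snoc (α := fun _ => Subgroup G) H (B ⊔ Subgroup.zpowers g),
      ?_, ?_, ?_, ?_⟩
    · rw [← Fin.castSucc_zero, Fin.snoc_castSucc]
      exact h0
    · rw [Fin.snoc_last]
    · intro i
      induction i using Fin.lastCases with
      | last =>
        rw [Fin.snoc_last]
        exact hn
      | cast j =>
        rw [Fin.snoc_castSucc]
        exact hnorm j
    · intro i
      induction i using Fin.lastCases with
      | last =>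
        refine ⟨g, ?_⟩
        rw [Fin.succ_last, Fin.snoc_last, Fin.snoc_castSucc, hl]
      | cast j =>
        obtain ⟨g', hg'⟩ := hstep j
        refine ⟨g', ?_⟩
        rw [Fin.succ_castSucc, Fin.snoc_castSucc, Fin.snoc_castSucc, hg']

theorem isSupersolvable_iff : Cfsg.IsSupersolvable G ↔ SSChain (⊥ : Subgroup G) ⊤ := by
  constructor
  · rintro ⟨n, H, h0, hl, hn, hs⟩
    have h := ssChain_of_fin H hn hs (Fin.last n)
    rwa [h0, hl] at h
  · intro h
    obtain ⟨n, H, h0, hl, hn, hs⟩ := fin_of_ssChain h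
    exact ⟨n, H, h0, hl, hn, hs⟩

theorem SSChain.map {K : Type*} [Group K] (f : G →* K) (hf : Function.Surjective f)
    {A B : Subgroup G} (h : SSChain A B) : SSChain (A.map f) (B.map f) := by
  induction h with
  | refl hA => exact SSChain.refl (hA.map f hf)
  | step B g h hn ih =>
    have e : (B ⊔ Subgroup.zpowers g).map f = B.map f ⊔ Subgroup.zpowers (f g) := by
      rw [Subgroup.map_sup, MonoidHom.map_zpowers]
    rw [e]
    exact SSChain.step _ _ ih (e ▸ hn.map f hf)

theorem exists_comap_sup_zpowers {K : Type*} [Group K] (f : K →* G) (B : Subgroup G)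
    [B.Normal] (g : G) :
    ∃ k : K, (B ⊔ Subgroup.zpowers g).comap f = B.comap f ⊔ Subgroup.zpowers k := by
  obtain ⟨ψ, hψ⟩ : ∃ ψ : K →* G ⧸ B, ψ = (QuotientGroup.mk' B).comp f := ⟨_, rfl⟩
  have hψ1 : ∀ x : K, ψ x = 1 ↔ f x ∈ B := by
    intro x
    rw [hψ]
    exact QuotientGroup.eq_one_iff (f x)
  obtain ⟨Z, hZ⟩ : ∃ Z : Subgroup (G ⧸ B),
      Z = Subgroup.zpowers (QuotientGroup.mk' B g) ⊓ ψ.range := ⟨_, rfl⟩
  haveI : IsCyclic Z := by
    rw [hZ]
    exact Subgroup.isCyclic_of_le
      (inf_le_left : _ ≤ Subgroup.zpowers (QuotientGroup.mk' B g))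
  obtain ⟨⟨z, hz⟩, hgen⟩ := IsCyclic.exists_generator (α := Z)
  have hz' : z ∈ Subgroup.zpowers (QuotientGroup.mk' B g) ⊓ ψ.range := hZ ▸ hz
  obtain ⟨hz1, k, hk⟩ := Subgroup.mem_inf.mp hz'
  refine ⟨k, le_antisymm ?_ ?_⟩
  · intro x hx
    rw [Subgroup.mem_comap] at hx
    have hxZ : ψ x ∈ Z := by
      rw [hZ]
      refine Subgroup.mem_inf.mpr ⟨?_, x, rfl⟩
      obtain ⟨b, hb, c, hc, hbc⟩ := Subgroup.mem_sup_of_normal_left.mp hx
      obtain ⟨m, rfl⟩ := Subgroup.mem_zpowers_iff.mp hc
      refine Subgroup.mem_zpowers_iff.mpr ⟨m, ?_⟩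
      rw [hψ, MonoidHom.comp_apply, ← hbc, map_mul, ← map_zpow]
      have hb1 : QuotientGroup.mk' B b = 1 := (QuotientGroup.eq_one_iff b).mpr hb
      rw [hb1, one_mul]
    obtain ⟨m, hm⟩ := Subgroup.mem_zpowers_iff.mp (hgen ⟨ψ x, hxZ⟩)
    have hm' : z ^ m = ψ x := by
      have := congrArg Subtype.val hm
      simpa using this
    have hmem : x * (k ^ m)⁻¹ ∈ B.comap f := by
      rw [Subgroup.mem_comap, ← hψ1, map_mul, map_inv, map_zpow, hk, hm', mul_inv_cancel]
    have e : x = x * (k ^ m)⁻¹ * k ^ m := by group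
    rw [e]
    exact mul_mem (Subgroup.mem_sup_left hmem)
      (Subgroup.mem_sup_right (zpow_mem (Subgroup.mem_zpowers k) m))
  · apply sup_le
    · exact Subgroup.comap_mono le_sup_left
    · rw [Subgroup.zpowers_le, Subgroup.mem_comap]
      obtain ⟨m, hm⟩ := Subgroup.mem_zpowers_iff.mp hz1
      have h1 : ψ (k) = QuotientGroup.mk' B (g ^ m) := by
        rw [hk, ← hm, map_zpow]
      have h2 : (g ^ m)⁻¹ * f k ∈ B := by
        rw [← QuotientGroup.eq]
        rw [hψ] at h1
        exact h1.symm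
      have e : f k = g ^ m * ((g ^ m)⁻¹ * f k) := by group
      rw [e]
      exact mul_mem (Subgroup.mem_sup_right (zpow_mem (Subgroup.mem_zpowers g) m))
        (Subgroup.mem_sup_left h2)

theorem SSChain.comap {K : Type*} [Group K] (f : K →* G) {A B : Subgroup G}
    (h : SSChain A B) : SSChain (A.comap f) (B.comap f) := by
  induction h with
  | refl hA => exact SSChain.refl (hA.comap f)
  | step B g h hn ih =>
    haveI := h.normal_right
    obtain ⟨k, hk⟩ := exists_comap_sup_zpowers f B g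
    rw [hk]
    exact SSChain.step _ _ ih (hk ▸ hn.comap f)

theorem isSupersolvable_subgroup (h : Cfsg.IsSupersolvable G) (H : Subgroup G) :
    Cfsg.IsSupersolvable H := by
  rw [isSupersolvable_iff] at h ⊢
  have h' := h.comap H.subtype
  have e : (⊥ : Subgroup G).comap H.subtype = ⊥ := by
    rw [MonoidHom.comap_bot]
    exact (MonoidHom.ker_eq_bot_iff _).mpr H.subtype_injective
  rwa [e, Subgroup.comap_top] at h'

theorem isSupersolvable_of_surjective {K : Type*} [Group K] (f : G →* K)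
    (hf : Function.Surjective f) (h : Cfsg.IsSupersolvable G) : Cfsg.IsSupersolvable K := by
  rw [isSupersolvable_iff] at h ⊢
  have h' := h.map f hf
  rwa [Subgroup.map_bot, Subgroup.map_top_of_surjective f hf] at h'

theorem isSupersolvable_of_ssChain_of_quotient (N : Subgroup G) [N.Normal]
    (h1 : SSChain ⊥ N) (h2 : Cfsg.IsSupersolvable (G ⧸ N)) : Cfsg.IsSupersolvable G := by
  rw [isSupersolvable_iff] at h2 ⊢
  have h' := h2.comap (QuotientGroup.mk' N)
  rw [MonoidHom.comap_bot, QuotientGroup.ker_mk', Subgroup.comap_top] at h'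
  exact h1.trans h'

theorem ssChain_bot_of_isCyclic (N : Subgroup G) [hN : N.Normal] [IsCyclic N] :
    SSChain ⊥ N := by
  obtain ⟨⟨g, hgN⟩, hg⟩ := IsCyclic.exists_generator (α := N)
  have e : ⊥ ⊔ Subgroup.zpowers g = N := by
    rw [bot_sup_eq]
    apply le_antisymm
    · rw [Subgroup.zpowers_le]
      exact hgN
    · intro x hx
      obtain ⟨m, hm⟩ := Subgroup.mem_zpowers_iff.mp (hg ⟨x, hx⟩)
      refine Subgroup.mem_zpowers_iff.mpr ⟨m, ?_⟩
      have := congrArg Subtype.val hm
      simpa using this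
  have h := SSChain.step (A := (⊥ : Subgroup G)) ⊥ g (SSChain.refl inferInstance)
    (e.symm ▸ hN)
  rwa [e] at h

theorem isSupersolvable_of_cyclic_normal (N : Subgroup G) [N.Normal] [IsCyclic N]
    (h : Cfsg.IsSupersolvable (G ⧸ N)) : Cfsg.IsSupersolvable G :=
  isSupersolvable_of_ssChain_of_quotient N (ssChain_bot_of_isCyclic N) h

theorem isSupersolvable_of_subsingleton [Subsingleton G] : Cfsg.IsSupersolvable G := by
  rw [isSupersolvable_iff]
  have e : (⊤ : Subgroup G) = ⊥ := Subgroup.eq_bot_of_subsingleton ⊤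
  rw [e]
  exact SSChain.refl inferInstance

theorem SSChain.exists_normal_zpowers {B : Subgroup G} (h : SSChain ⊥ B) :
    B = ⊥ ∨ ∃ g : G, g ≠ 1 ∧ (Subgroup.zpowers g).Normal := by
  induction h with
  | refl _ => left; rfl
  | step B g h hn ih =>
    rcases ih with rfl | ⟨g', hg', hn'⟩
    · by_cases hg : g = 1
      · left
        rw [hg, Subgroup.zpowers_one_eq_bot, bot_sup_eq]
      · right
        exact ⟨g, hg, by rwa [bot_sup_eq] at hn⟩
    · right
      exact ⟨g', hg', hn'⟩

theorem exists_normal_prime_card [Finite G] [Nontrivial G] (h : Cfsg.IsSupersolvable G) :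
    ∃ N : Subgroup G, N.Normal ∧ (Nat.card N).Prime := by
  rw [isSupersolvable_iff] at h
  rcases h.exists_normal_zpowers with h0 | ⟨g, hg, hn⟩
  · exfalso
    obtain ⟨x, hx⟩ := exists_ne (1 : G)
    have hx' : x ∈ (⊤ : Subgroup G) := Subgroup.mem_top x
    rw [h0] at hx'
    exact hx (Subgroup.mem_bot.mp hx')
  · have hm : orderOf g ≠ 1 := by rwa [Ne, orderOf_eq_one_iff]
    obtain ⟨p, hp, hpm⟩ := Nat.exists_prime_and_dvd hm
    refine ⟨Subgroup.zpowers (g ^ (orderOf g / p)), ?_, ?_⟩
    · constructor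
      intro x hx y
      obtain ⟨k, rfl⟩ := Subgroup.mem_zpowers_iff.mp hx
      have h1 : y * g * y⁻¹ ∈ Subgroup.zpowers g := hn.conj_mem g (Subgroup.mem_zpowers g) y
      obtain ⟨j, hj⟩ := Subgroup.mem_zpowers_iff.mp h1
      have e1 : y * g ^ (orderOf g / p) * y⁻¹ = (g ^ (orderOf g / p)) ^ j := by
        rw [← conj_pow, ← hj, ← zpow_natCast, ← zpow_mul, mul_comm, zpow_mul, zpow_natCast]
      have e2 : y * (g ^ (orderOf g / p)) ^ k * y⁻¹ = ((g ^ (orderOf g / p)) ^ j) ^ k := by
        rw [← conj_zpow, e1]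
      rw [e2]
      exact zpow_mem (zpow_mem (Subgroup.mem_zpowers _) j) k
    · rw [Nat.card_zpowers, orderOf_pow_orderOf_div (orderOf_pos g).ne' hpm]
      exact hp

theorem normal_map_inl {H : Type*} [Group H] (A : Subgroup G) [hA : A.Normal] :
    (A.map (MonoidHom.inl G H)).Normal := by
  constructor
  rintro _ ⟨a, ha, rfl⟩ ⟨x, y⟩
  refine ⟨x * a * x⁻¹, hA.conj_mem a ha x, ?_⟩
  ext <;> simp

theorem SSChain.map_inl {H : Type*} [Group H] {A B : Subgroup G} (h : SSChain A B) :
    SSChain (A.map (MonoidHom.inl G H)) (B.map (MonoidHom.inl G H)) := by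
  induction h with
  | refl hA => exact SSChain.refl (normal_map_inl A)
  | step B g h hn ih =>
    have e : (B ⊔ Subgroup.zpowers g).map (MonoidHom.inl G H) =
        B.map (MonoidHom.inl G H) ⊔ Subgroup.zpowers (MonoidHom.inl G H g) := by
      rw [Subgroup.map_sup, MonoidHom.map_zpowers]
    rw [e]
    exact SSChain.step _ _ ih (e ▸ normal_map_inl _)

theorem isSupersolvable_prod {H : Type*} [Group H] (hG : Cfsg.IsSupersolvable G)
    (hH : Cfsg.IsSupersolvable H) : Cfsg.IsSupersolvable (G × H) := by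
  rw [isSupersolvable_iff] at hG hH ⊢
  have h1 := hG.map_inl (H := H)
  have h2 := hH.comap (MonoidHom.snd G H)
  rw [Subgroup.map_bot] at h1
  rw [MonoidHom.comap_bot, Subgroup.comap_top] at h2
  have e : (⊤ : Subgroup G).map (MonoidHom.inl G H) = (MonoidHom.snd G H).ker := by
    ext ⟨x, y⟩
    rw [MonoidHom.mem_ker]
    constructor
    · rintro ⟨a, -, ha⟩
      have := congrArg Prod.snd ha
      simpa using this.symm
    · intro hy
      refine ⟨x, Subgroup.mem_top x, ?_⟩
      have hy' : y = 1 := hy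
      rw [hy']
      rfl
  rw [e] at h1
  exact h1.trans h2

end Cfsg.Agent.Helper1
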