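import Mathlib
import Cfsg.Agent.Helper1.Supersolvable

set_option autoImplicit false

namespace Cfsg.Agent.Helper1

universe u

theorem card_quotient_lt {G : Type*} [Group G] [Finite G] (N : Subgroup G) [N.Normal]
    (h : 1 < Nat.card N) : Nat.card (G ⧸ N) < Nat.card G := by
  rw [← Subgroup.index_eq_card, ← Subgroup.card_mul_index N]
  have hpos : 0 < N.index := Nat.pos_of_ne_zero Subgroup.index_ne_zero_of_finite
  nlinarith

theorem isCoatom_map_mk {G : Type*} [Group G] (N : Subgroup G) [N.Normal] (M : Subgroup G)
    (hM : IsCoatom M) (hNM : N ≤ M) : IsCoatom (M.map (QuotientGroup.mk' N)) := by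
  have hsurj := QuotientGroup.mk'_surjective N
  have hker : (QuotientGroup.mk' N).ker ≤ M := by
    rw [QuotientGroup.ker_mk']
    exact hNM
  have hcm : (M.map (QuotientGroup.mk' N)).comap (QuotientGroup.mk' N) = M :=
    Subgroup.comap_map_eq_self hker
  constructor
  · intro htop
    apply hM.1
    rw [← hcm, htop, Subgroup.comap_top]
  · intro K hK
    have h1 : M < K.comap (QuotientGroup.mk' N) := by
      rw [lt_iff_le_and_ne]
      constructor
      · rw [← hcm]
        exact Subgroup.comap_mono hK.le
      · intro heq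
        apply hK.ne
        rw [heq, Subgroup.map_comap_eq_self_of_surjective hsurj]
    have h2 := hM.2 _ h1
    rw [← Subgroup.map_comap_eq_self_of_surjective hsurj K, h2,
      Subgroup.map_top_of_surjective _ hsurj]

theorem card_comap_mk {G : Type*} [Group G] [Finite G] (N : Subgroup G) [N.Normal]
    (K : Subgroup (G ⧸ N)) :
    Nat.card (K.comap (QuotientGroup.mk' N)) = Nat.card K * Nat.card N := by
  have h1 := Subgroup.card_mul_index (K.comap (QuotientGroup.mk' N))
  have h4 : (K.comap (QuotientGroup.mk' N)).index = K.index :=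
    Subgroup.index_comap_of_surjective K (QuotientGroup.mk'_surjective N)
  rw [h4] at h1
  have h2 := Subgroup.card_mul_index K
  have h3 := Subgroup.card_mul_index N
  rw [Subgroup.index_eq_card N] at h3
  have hpos : 0 < K.index := Nat.pos_of_ne_zero Subgroup.index_ne_zero_of_finite
  apply Nat.eq_of_mul_eq_mul_right hpos
  rw [h1, ← h3, ← h2]
  ring

theorem prime_index_of_isSupersolvable : ∀ (n : ℕ) (G : Type u) [Group G] [Finite G],
    Nat.card G = n → Cfsg.IsSupersolvable G → ∀ M : Subgroup G, IsCoatom M → M.index.Prime := by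
  intro n
  induction n using Nat.strong_induction_on with
  | _ n ih =>
  intro G _ _ hn hG M hM
  haveI : Nontrivial G := by
    by_contra hnt
    rw [not_nontrivial_iff_subsingleton] at hnt
    apply hM.1
    rw [eq_top_iff]
    intro x _
    rw [Subsingleton.elim x 1]
    exact one_mem _
  obtain ⟨N, hNn, hNp⟩ := exists_normal_prime_card hG
  haveI := hNn
  by_cases hNM : N ≤ M
  · have hq : Nat.card (G ⧸ N) < n := by
      rw [← hn]
      exact card_quotient_lt N hNp.one_lt
    have h1 := ih _ hq (G ⧸ N) rfl
      (isSupersolvable_of_surjective _ (QuotientGroup.mk'_surjective N) hG) _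
      (isCoatom_map_mk N M hM hNM)
    rw [Subgroup.index_map_eq _ (QuotientGroup.mk'_surjective N)
      (by rw [QuotientGroup.ker_mk']; exact hNM)] at h1
    exact h1
  · have hsup : N ⊔ M = ⊤ :=
      hM.2 _ (lt_of_le_of_ne le_sup_right (fun h => hNM (h ▸ le_sup_left)))
    have hinf : N ⊓ M = ⊥ := by
      have hdvd : Nat.card ↥(N ⊓ M) ∣ Nat.card N := Subgroup.card_dvd_of_le inf_le_left
      rcases (Nat.dvd_prime hNp).mp hdvd with h1 | h1
      · exact Subgroup.eq_bot_of_card_eq _ h1
      · exfalso
        apply hNM
        have e : N ⊓ M = N := Subgroup.eq_of_le_of_card_ge inf_le_left h1.ge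
        rw [← e]
        exact inf_le_right
    have hc : Subgroup.IsComplement' N M :=
      Subgroup.isComplement'_of_disjoint_and_mul_eq_univ (disjoint_iff.mpr hinf) (by
        rw [← Subgroup.normal_mul, hsup]
        rfl)
    rw [hc.index_eq_card]
    exact hNp

end Cfsg.Agent.Helper1
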