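import Mathlib
import Cfsg.Agent.Helper1.QuartTab

set_option autoImplicit false
set_option maxRecDepth 1000000

namespace Cfsg.Agent.Helper1.Golay

open Cfsg
open scoped Pointwise

/-- The tables of two generators of the normal subgroup of order nine. -/
def qaT : ℕ := qHTab 17

def qbT : ℕ := qHTab 75

/-- The packed conjugation matrices of the 432 elements. -/
def qMT : ℕ := 0x92916162a2a1525181824142a2a1525181824241a1a2515292916162919262618281424116192629a9a6595649468986a6a9565949468689a6a95659191629264649868919162926151a252a6a659a958a854a45858a454a656a9a956a65959a151a252a858a4a451a152a252428141868649894a8a45854a4a85458a4a85854686494986468949824281814282418142a251a15959a6a65454a858a4a45858a9a956a65959a656a2a251a154a458a85252a151a18142428949868645458a4a85854a4a85854a8a4949864689894686418142824141824281a15252a656a959a858a4a458a854a45656a959a6a659a951a15252a858a454a151a2a25292616195659a6a9868949465956a9a6868946495956a6a926291619898649462629161919162926a6a9595646498689a9a6565949468986a9a65956161929264946868916192926616292915152a1a2424181825152a1a2424182815251a2a16162919262619291414281822824181464689498a4a85854a8a45854a4a854586864989468649498242814182428181492916162a1a2525182814241a1a2525181824142a2a15152929162619192616281824241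

def qM (i k : ℕ) : ℕ := (qMT >>> (8 * i + 2 * k)) &&& 3

/-- The table of `a ^ x * b ^ y`. -/
def qE (x y j : ℕ) : ℕ := lookN qaT x (lookN qbT y j)

/-- The packed indices of elements moving the first point of the dodecad to each of its points. -/
def qTR : ℕ := 0x18c01680144012000fc00d800b40090006c004800240000

def qTri (k : ℕ) : ℕ := (qTR >>> (16 * k)) &&& 65535

theorem qab_ok : (isId qaT 3 && isId qbT 3
    && (List.range 24).all (fun j => Nat.beq (look qaT (look qbT j)) (look qbT (look qaT j))))
    = true := by
  decide +kernel

theorem qE_inj : (List.range 3).all (fun x => (List.range 3).all (fun y =>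
    (Nat.beq x 0 && Nat.beq y 0)
    || (List.range 24).any (fun j => !(Nat.beq (qE x y j) j)))) = true := by
  decide +kernel

theorem qM_ok : (List.range 432).all (fun i =>
    Nat.blt (qM i 0) 3 && Nat.blt (qM i 1) 3 && Nat.blt (qM i 2) 3 && Nat.blt (qM i 3) 3
    && (List.range 24).all (fun j =>
      Nat.beq (look (qHTab i) (look qaT j)) (qE (qM i 0) (qM i 1) (look (qHTab i) j))
      && Nat.beq (look (qHTab i) (look qbT j)) (qE (qM i 2) (qM i 3) (look (qHTab i) j))))
    = true := by
  decide +kernel

theorem qM_ker : Nat.beq ((List.range 432).filter (fun i => Nat.beq (qM i 0) 1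
    && Nat.beq (qM i 1) 0 && Nat.beq (qM i 2) 0 && Nat.beq (qM i 3) 1)).length 9 = true := by
  decide +kernel

theorem qTri_ok : (List.range 12).all (fun k => Nat.blt (qTri k) 432
    && Nat.beq (look (qHTab (qTri k)) 0) (qPos.getD k 0)) = true := by
  decide +kernel

end Cfsg.Agent.Helper1.Golay
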