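import Mathlib
import Cfsg.Agent.Helper1.Sx1603Tab
import Cfsg.Agent.Helper1.Golay9

set_option autoImplicit false

namespace Cfsg.Agent.Helper1.Golay

open Cfsg
open scoped Pointwise
open Matrix

theorem g_d_mem : support₂ (ofBits 340831) ∈ dodecads := by
  rw [← comb_one]
  exact baseDodecad_mem

theorem g_p_mem : unpos 0 ∈ support₂ (ofBits 340831) := by
  rw [mem_support₂_ofBits]
  decide +kernel

/-- The base copy of the smallest Mathieu group. -/
noncomputable def M11b : Subgroup ↥M24 :=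
  MulAction.stabilizer M24 (support₂ (ofBits 340831)) ⊓ MulAction.stabilizer M24 (unpos 0)

theorem card_M11b : Nat.card ↥M11b = 7920 :=
  card_stabilizer_dodecad_point _ g_d_mem _ g_p_mem

theorem mem_M11b (g : ↥M24) : g ∈ M11b ↔
    (g : Equiv.Perm GolayPt) • support₂ (ofBits 340831) = support₂ (ofBits 340831)
      ∧ (g : Equiv.Perm GolayPt) (unpos 0) = unpos 0 := by
  rw [M11b, Subgroup.mem_inf, MulAction.mem_stabilizer_iff, MulAction.mem_stabilizer_iff]
  rfl

theorem tab_mem_M11b {t C : ℕ} (hok : tblOK t = true) (hc : chkCode t C = true)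
    (hd : Nat.beq (pullBits t 340831 24) 340831 = true) (hp : Nat.beq (look t 0) 0 = true) :
    ∃ hm : permT t ∈ M24, (⟨permT t, hm⟩ : ↥M24) ∈ M11b := by
  refine ⟨permT_mem hok hc, ?_⟩
  rw [mem_M11b]
  exact ⟨permT_smul_of_pull' hok hd, permT_fix hok (by norm_num) hp⟩

/-- Elements of the base copy from tables. -/
noncomputable def mk11 (t : ℕ) : ↥M11b := by
  classical
  exact if h : ∃ hm : permT t ∈ M24, (⟨permT t, hm⟩ : ↥M24) ∈ M11b
    then ⟨⟨permT t, h.choose⟩, h.choose_spec⟩ else 1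

theorem mk11_coe {t C : ℕ} (hok : tblOK t = true) (hc : chkCode t C = true)
    (hd : Nat.beq (pullBits t 340831 24) 340831 = true) (hp : Nat.beq (look t 0) 0 = true) :
    (((mk11 t : ↥M11b) : ↥M24) : Equiv.Perm GolayPt) = permT t := by
  rw [mk11, dif_pos (tab_mem_M11b hok hc hd hp)]

theorem gc_tblOK (i : ℕ) (hi : i < 48) : tblOK (gcTab i) = true := by
  have h := List.all_eq_true.mp gc_ok i (List.mem_range.mpr hi)
  simp only [Bool.and_eq_true] at h
  exact h.1.1.1.1

theorem gz_tblOK : tblOK gzT = true := gc_tblOK 4 (by norm_num)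

/-- The listed elements. -/
noncomputable def cE (i : ℕ) : ↥M11b := mk11 (gcTab i)

theorem cE_coe (i : ℕ) (hi : i < 48) :
    (((cE i : ↥M11b) : ↥M24) : Equiv.Perm GolayPt) = permT (gcTab i) := by
  have h := List.all_eq_true.mp gc_ok i (List.mem_range.mpr hi)
  simp only [Bool.and_eq_true] at h
  obtain ⟨⟨⟨⟨hok, hc⟩, hd⟩, hp⟩, -⟩ := h
  exact mk11_coe hok hc hd hp

theorem gc_comm (i : ℕ) (hi : i < 48) :
    permT (gcTab i) * permT gzT = permT gzT * permT (gcTab i) := by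
  have h := List.all_eq_true.mp gc_ok i (List.mem_range.mpr hi)
  simp only [Bool.and_eq_true] at h
  obtain ⟨⟨⟨⟨hok, hc⟩, hd⟩, hp⟩, hcomm⟩ := h
  apply perm_ext_pos
  intro p
  rw [pos_permT_mul hok gz_tblOK, pos_permT_mul gz_tblOK hok]
  exact Nat.eq_of_beq_eq_true (List.all_eq_true.mp hcomm (pos p) (List.mem_range.mpr (pos_lt p)))

/-- The base involution. -/
noncomputable def zz : ↥M11b := cE 4

theorem zz_coe : (((zz : ↥M11b) : ↥M24) : Equiv.Perm GolayPt) = permT gzT :=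
  cE_coe 4 (by norm_num)

/-- The centraliser of the base involution. -/
noncomputable def C0 : Subgroup ↥M11b := Subgroup.centralizer ({zz} : Set ↥M11b)

theorem mem_C0 (g : ↥M11b) : g ∈ C0 ↔
    (((g : ↥M11b) : ↥M24) : Equiv.Perm GolayPt) * permT gzT
      = permT gzT * (((g : ↥M11b) : ↥M24) : Equiv.Perm GolayPt) := by
  rw [C0, Subgroup.mem_centralizer_singleton_iff, ← zz_coe]
  constructor
  · intro h
    have h1 : (((g * zz : ↥M11b) : ↥M24) : Equiv.Perm GolayPt)
        = (((zz * g : ↥M11b) : ↥M24) : Equiv.Perm GolayPt) := by rw [h]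
    exact h1
  · intro h
    exact Subtype.ext (Subtype.ext h)

theorem cE_mem_C0 (i : ℕ) (hi : i < 48) : cE i ∈ C0 := by
  rw [mem_C0, cE_coe i hi]
  exact gc_comm i hi

theorem cE_inj {i j : ℕ} (hi : i < 48) (hj : j < 48) (h : cE i = cE j) : i = j := by
  by_contra hne
  wlog hlt : j < i generalizing i j
  · exact this hj hi h.symm (Ne.symm hne) (by omega)
  have h1 := List.all_eq_true.mp (List.all_eq_true.mp gc_distinct i (List.mem_range.mpr hi)) j
    (List.mem_range.mpr hlt)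
  obtain ⟨p, hp, hpne⟩ := List.any_eq_true.mp h1
  rw [List.mem_range] at hp
  have e : pos ((((cE i : ↥M11b) : ↥M24) : Equiv.Perm GolayPt) (unpos p))
      = pos ((((cE j : ↥M11b) : ↥M24) : Equiv.Perm GolayPt) (unpos p)) := by rw [h]
  rw [cE_coe i hi, cE_coe j hj, pos_permT (gc_tblOK i hi), pos_permT (gc_tblOK j hj),
    pos_unpos p hp] at e
  rw [e, Nat.beq_refl] at hpne
  exact absurd hpne (by decide)

/-- The fixed points of the base involution. -/
noncomputable def Fz8 : Finset GolayPt := support₂ (ofBits 8536111)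

theorem gz_fix_iff (p : GolayPt) : permT gzT p = p ↔ p ∈ Fz8 := by
  have h := List.all_eq_true.mp gz_fix (pos p) (List.mem_range.mpr (pos_lt p))
  have h' : Nat.beq (look gzT (pos p)) (pos p) = Nat.testBit 8536111 (pos p) := by simpa using h
  rw [Fz8, mem_support₂_ofBits, ← h']
  constructor
  · intro e
    have e' := congrArg pos e
    rw [pos_permT gz_tblOK] at e'
    rw [e']
    exact Nat.beq_refl _
  · intro e
    apply pos_injective
    rw [pos_permT gz_tblOK]
    exact Nat.eq_of_beq_eq_true e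

theorem comm_Fz8 {g : Equiv.Perm GolayPt} (h : g * permT gzT = permT gzT * g) :
    g • Fz8 = Fz8 := by
  have hsub : g • Fz8 ⊆ Fz8 := by
    intro x hx
    obtain ⟨p, hp, rfl⟩ := Finset.mem_smul_finset.mp hx
    rw [← gz_fix_iff] at hp ⊢
    have h1 : (g * permT gzT) p = (permT gzT * g) p := by rw [h]
    rw [Equiv.Perm.mul_apply, Equiv.Perm.mul_apply, hp] at h1
    exact h1.symm
  exact Finset.eq_of_subset_of_card_le hsub (by rw [Finset.card_smul_finset])

theorem lt_of_chain03 (f : ℕ → ℕ) (N : ℕ) (h : ∀ j, j + 1 < N → f j < f (j + 1)) :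
    ∀ j j', j < j' → j' < N → f j < f j' := by
  intro j j' hjj'
  induction j' with
  | zero => omega
  | succ k ih =>
    intro hk
    rcases Nat.lt_succ_iff_lt_or_eq.mp hjj' with h1 | h1
    · exact lt_trans (ih h1 (by omega)) (h k hk)
    · subst h1
      exact h j hk

theorem gt_spec (i : ℕ) (hi : i < 165) :
    tblOK (gtTab i) = true
      ∧ ∃ hm : permT (gtTab i) ∈ M24, (⟨permT (gtTab i), hm⟩ : ↥M24) ∈ M11b := by
  have h := List.all_eq_true.mp gt_ok i (List.mem_range.mpr hi)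
  simp only [Bool.and_eq_true] at h
  obtain ⟨⟨⟨hok, hc⟩, hd⟩, hp⟩ := h
  exact ⟨hok, tab_mem_M11b hok hc hd hp⟩

theorem gt_mono (i j : ℕ) (hij : i < j) (hj : j < 165) :
    pullBits (gtTab i) 8536111 24 < pullBits (gtTab j) 8536111 24 := by
  apply lt_of_chain03 (fun i => pullBits (gtTab i) 8536111 24) 165 _ i j hij hj
  intro k hk
  exact Nat.blt_eq.mp (List.all_eq_true.mp gt_lt k (List.mem_range.mpr (by omega)))

theorem card_J03_le : Nat.card ↥(M11b ⊓ MulAction.stabilizer ↥M24 Fz8) ≤ 48 := by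
  have h := card_eq_orbit_mul' M11b Fz8
  rw [card_M11b] at h
  have h165 : 165 ≤ {x | ∃ h ∈ M11b, h • Fz8 = x}.ncard := by
    have hinj : Set.InjOn (fun i => support₂ (ofBits (pullBits (gtTab i) 8536111 24)))
        (↑(Finset.range 165) : Set ℕ) := by
      intro i hi j hj e
      have hi' := Finset.mem_range.mp (Finset.mem_coe.mp hi)
      have hj' := Finset.mem_range.mp (Finset.mem_coe.mp hj)
      have e' := mask_inj (pullBits_lt _ _ 24) (pullBits_lt _ _ 24) e
      rcases Nat.lt_trichotomy i j with hlt | heq | hgt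
      · exact absurd e' (Nat.ne_of_lt (gt_mono i j hlt hj'))
      · exact heq
      · exact absurd e'.symm (Nat.ne_of_lt (gt_mono j i hgt hi'))
    have hsub : (fun i => support₂ (ofBits (pullBits (gtTab i) 8536111 24))) ''
        (↑(Finset.range 165) : Set ℕ)
        ⊆ {x | ∃ h ∈ M11b, h • Fz8 = x} := by
      rintro _ ⟨i, hi, rfl⟩
      obtain ⟨hok, hm, hmem⟩ := gt_spec i (Finset.mem_range.mp (Finset.mem_coe.mp hi))
      refine ⟨(⟨permT (gtTab i), hm⟩ : ↥M24)⁻¹, inv_mem hmem, ?_⟩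
      exact permT_inv_smul hok 8536111
    have h1 := Set.ncard_le_ncard hsub (Set.toFinite _)
    rw [Set.InjOn.ncard_image hinj, Set.ncard_coe_finset, Finset.card_range] at h1
    exact h1
  by_contra hcon
  have h2 : 49 ≤ Nat.card ↥(M11b ⊓ MulAction.stabilizer ↥M24 Fz8) := by omega
  have h3 := Nat.mul_le_mul h165 h2
  omega

theorem card_C0_le : Nat.card ↥C0 ≤ 48 := by
  have hle : C0.map M11b.subtype ≤ M11b ⊓ MulAction.stabilizer ↥M24 Fz8 := by
    rintro _ ⟨g, hg, rfl⟩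
    refine Subgroup.mem_inf.mpr ⟨g.2, ?_⟩
    rw [MulAction.mem_stabilizer_iff]
    exact comm_Fz8 ((mem_C0 g).mp hg)
  have h1 := Subgroup.card_le_of_le hle
  rw [Subgroup.card_map_of_injective M11b.subtype_injective] at h1
  exact h1.trans card_J03_le

theorem C0_eq : (C0 : Set ↥M11b) = cE '' ↑(Finset.range 48) := by
  symm
  apply Set.eq_of_subset_of_ncard_le
  · rintro _ ⟨i, hi, rfl⟩
    exact cE_mem_C0 i (Finset.mem_range.mp (Finset.mem_coe.mp hi))
  · rw [Set.InjOn.ncard_image, Set.ncard_coe_finset, Finset.card_range]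
    · have h3 := Nat.card_coe_set_eq (C0 : Set ↥M11b)
      rw [← h3]
      exact card_C0_le
    · intro i hi j hj h
      exact cE_inj (Finset.mem_range.mp (Finset.mem_coe.mp hi))
        (Finset.mem_range.mp (Finset.mem_coe.mp hj)) h
  · exact Set.toFinite _

theorem card_C0 : Nat.card ↥C0 = 48 := by
  rw [show Nat.card ↥C0 = (C0 : Set ↥M11b).ncard from Nat.card_coe_set_eq _, C0_eq,
    Set.InjOn.ncard_image, Set.ncard_coe_finset, Finset.card_range]
  intro i hi j hj h
  exact cE_inj (Finset.mem_range.mp (Finset.mem_coe.mp hi))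
    (Finset.mem_range.mp (Finset.mem_coe.mp hj)) h

theorem C0_exists (g : ↥C0) : ∃ i, i < 48 ∧ cE i = (g : ↥M11b) := by
  have hg : (g : ↥M11b) ∈ (C0 : Set ↥M11b) := g.2
  rw [C0_eq] at hg
  obtain ⟨i, hi, e⟩ := hg
  exact ⟨i, Finset.mem_range.mp (Finset.mem_coe.mp hi), e⟩

/-- The index of an element. -/
noncomputable def idxC (g : ↥C0) : ℕ := Classical.choose (C0_exists g)

theorem idxC_lt (g : ↥C0) : idxC g < 48 := (Classical.choose_spec (C0_exists g)).1

theorem idxC_spec (g : ↥C0) : cE (idxC g) = (g : ↥M11b) :=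
  (Classical.choose_spec (C0_exists g)).2

/-- The matrix of the `i`-th element. -/
def MatC (i : ℕ) : Matrix (Fin 2) (Fin 2) (ZMod 3) :=
  !![(gM i 0 : ZMod 3), (gM i 1 : ZMod 3); (gM i 2 : ZMod 3), (gM i 3 : ZMod 3)]

theorem gK_spec (i j : ℕ) (hi : i < 48) (hj : j < 48) :
    gK i j < 48 ∧ cE (gK i j) = cE i * cE j ∧ MatC (gK i j) = MatC i * MatC j := by
  have h := List.all_eq_true.mp (List.all_eq_true.mp gK_ok i (List.mem_range.mpr hi)) j
    (List.mem_range.mpr hj)
  simp only [Bool.and_eq_true] at h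
  obtain ⟨⟨⟨⟨⟨hlt, hperm⟩, h0⟩, h1⟩, h2⟩, h3⟩ := h
  have hlt' := Nat.blt_eq.mp hlt
  refine ⟨hlt', ?_, ?_⟩
  · apply Subtype.ext
    apply Subtype.ext
    simp only [Subgroup.coe_mul]
    rw [cE_coe _ hlt', cE_coe i hi, cE_coe j hj]
    apply perm_ext_pos
    intro p
    rw [pos_permT (gc_tblOK _ hlt'), pos_permT_mul (gc_tblOK i hi) (gc_tblOK j hj)]
    exact Nat.eq_of_beq_eq_true (List.all_eq_true.mp hperm (pos p) (List.mem_range.mpr (pos_lt p)))
  · unfold MatC
    rw [Nat.eq_of_beq_eq_true h0, Nat.eq_of_beq_eq_true h1,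
      Nat.eq_of_beq_eq_true h2, Nat.eq_of_beq_eq_true h3, Matrix.mul_fin_two]
    simp only [ZMod.natCast_mod, Nat.cast_add, Nat.cast_mul]

theorem cE_zero : cE 0 = 1 := by
  apply Subtype.ext
  apply Subtype.ext
  rw [cE_coe 0 (by norm_num)]
  have h := gz_ok
  simp only [Bool.and_eq_true] at h
  have h1 := (permT_pow_eq_one_iff (gc_tblOK 0 (by norm_num)) 1).mpr h.2
  rw [pow_one] at h1
  exact h1

theorem idxC_one : idxC 1 = 0 := by
  apply cE_inj (idxC_lt 1) (by norm_num)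
  rw [idxC_spec, cE_zero]
  rfl

theorem idxC_mul (g g' : ↥C0) : idxC (g * g') = gK (idxC g) (idxC g') := by
  obtain ⟨hlt, hmul, -⟩ := gK_spec _ _ (idxC_lt g) (idxC_lt g')
  apply cE_inj (idxC_lt _) hlt
  rw [idxC_spec, hmul, idxC_spec, idxC_spec]
  rfl

/-- The matrices of the centraliser. -/
noncomputable def phiC : ↥C0 →* Matrix (Fin 2) (Fin 2) (ZMod 3) where
  toFun g := MatC (idxC g)
  map_one' := by
    show MatC (idxC 1) = 1
    rw [idxC_one]
    have h := gM_one
    simp only [Bool.and_eq_true] at h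
    obtain ⟨⟨⟨h0, h1⟩, h2⟩, h3⟩ := h
    rw [MatC, Nat.eq_of_beq_eq_true h0, Nat.eq_of_beq_eq_true h1, Nat.eq_of_beq_eq_true h2,
      Nat.eq_of_beq_eq_true h3]
    ext a b
    fin_cases a <;> fin_cases b <;> simp
  map_mul' g g' := by
    show MatC (idxC (g * g')) = MatC (idxC g) * MatC (idxC g')
    rw [idxC_mul]
    exact (gK_spec _ _ (idxC_lt g) (idxC_lt g')).2.2

theorem cast3_inj03 {a b : ℕ} (ha : a < 3) (hb : b < 3) (h : (a : ZMod 3) = (b : ZMod 3)) :
    a = b := by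
  have h1 := congrArg ZMod.val h
  rwa [ZMod.val_natCast_of_lt ha, ZMod.val_natCast_of_lt hb] at h1

theorem MatC_inj {i j : ℕ} (hi : i < 48) (hj : j < 48) (h : MatC i = MatC j) : i = j := by
  by_contra hne
  wlog hlt : j < i generalizing i j
  · exact this hj hi h.symm (Ne.symm hne) (by omega)
  have h1 := List.all_eq_true.mp (List.all_eq_true.mp gM_distinct i (List.mem_range.mpr hi)) j
    (List.mem_range.mpr hlt)
  have bi := List.all_eq_true.mp gM_ok i (List.mem_range.mpr hi)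
  have bj := List.all_eq_true.mp gM_ok j (List.mem_range.mpr hj)
  simp only [Bool.and_eq_true] at bi bj
  obtain ⟨⟨⟨i0, i1⟩, i2⟩, i3⟩ := bi
  obtain ⟨⟨⟨j0, j1⟩, j2⟩, j3⟩ := bj
  have e00 : (gM i 0 : ZMod 3) = (gM j 0 : ZMod 3) := congrFun (congrFun h 0) 0
  have e01 : (gM i 1 : ZMod 3) = (gM j 1 : ZMod 3) := congrFun (congrFun h 0) 1
  have e10 : (gM i 2 : ZMod 3) = (gM j 2 : ZMod 3) := congrFun (congrFun h 1) 0
  have e11 : (gM i 3 : ZMod 3) = (gM j 3 : ZMod 3) := congrFun (congrFun h 1) 1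
  rw [cast3_inj03 (Nat.blt_eq.mp i0) (Nat.blt_eq.mp j0) e00,
    cast3_inj03 (Nat.blt_eq.mp i1) (Nat.blt_eq.mp j1) e01,
    cast3_inj03 (Nat.blt_eq.mp i2) (Nat.blt_eq.mp j2) e10,
    cast3_inj03 (Nat.blt_eq.mp i3) (Nat.blt_eq.mp j3) e11,
    Nat.beq_refl, Nat.beq_refl, Nat.beq_refl, Nat.beq_refl] at h1
  exact absurd h1 (by decide)

/-- The matrices of the centraliser, as invertible matrices. -/
noncomputable def phiC' : ↥C0 →* Matrix.GeneralLinearGroup (Fin 2) (ZMod 3) :=
  phiC.toHomUnits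

theorem phiC'_inj : Function.Injective phiC' := by
  intro g g' h
  have h1 : MatC (idxC g) = MatC (idxC g') :=
    congrArg (fun u : Matrix.GeneralLinearGroup (Fin 2) (ZMod 3) =>
      (u : Matrix (Fin 2) (Fin 2) (ZMod 3))) h
  have h2 := MatC_inj (idxC_lt g) (idxC_lt g') h1
  apply Subtype.ext
  rw [← idxC_spec g, ← idxC_spec g', h2]

theorem base1603 : Nonempty (↥C0 ≃* Matrix.GeneralLinearGroup (Fin 2) (ZMod 3)) := by
  have hGL : Nat.card (Matrix.GeneralLinearGroup (Fin 2) (ZMod 3)) = 48 := by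
    rw [Matrix.card_GL_field]
    simp [Fin.prod_univ_two, ZMod.card]
  have hbij : Function.Bijective phiC' :=
    phiC'_inj.bijective_of_nat_card_le (by rw [hGL, card_C0])
  exact ⟨MulEquiv.ofBijective phiC' hbij⟩

/-! ### Conjugacy of involutions -/

theorem gw_spec (i : ℕ) (hi : i < 48) (h2 : permT (gcTab i) ^ 2 = 1)
    (h1 : permT (gcTab i) ≠ 1) : ∃ w : ↥M11b, w * cE i = zz * w := by
  have h := List.all_eq_true.mp gw_ok i (List.mem_range.mpr hi)
  simp only [Bool.and_eq_true, Bool.or_eq_true] at h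
  obtain ⟨⟨⟨⟨hok, hc⟩, hd⟩, hp⟩, hor⟩ := h
  have hoki := gc_tblOK i hi
  rcases hor with (hor | hor) | hor
  · exfalso
    rw [(permT_pow_eq_one_iff hoki 2).mp h2] at hor
    exact absurd hor (by decide)
  · exfalso
    apply h1
    have h3 := (permT_pow_eq_one_iff hoki 1).mpr hor
    rwa [pow_one] at h3
  · refine ⟨mk11 (gwTab i), ?_⟩
    apply Subtype.ext
    apply Subtype.ext
    simp only [Subgroup.coe_mul]
    rw [mk11_coe hok hc hd hp, cE_coe i hi, zz_coe]
    apply perm_ext_pos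
    intro p
    rw [pos_permT_mul hok hoki, pos_permT_mul gz_tblOK hok]
    exact Nat.eq_of_beq_eq_true (List.all_eq_true.mp hor (pos p) (List.mem_range.mpr (pos_lt p)))

theorem conj_to_zz (x : ↥M11b) (hx : orderOf x = 2) : ∃ v : ↥M11b, v * x * v⁻¹ = zz := by
  have hx2 : x ^ 2 = 1 := by
    rw [← hx]
    exact pow_orderOf_eq_one x
  have hx1 : x ≠ 1 := by
    intro e
    rw [e, orderOf_one] at hx
    exact absurd hx (by norm_num)
  have hpx : IsPGroup 2 (Subgroup.zpowers x) :=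
    IsPGroup.of_card (n := 1) (by rw [Nat.card_zpowers, hx, pow_one])
  obtain ⟨P, hP⟩ := hpx.exists_le_sylow
  obtain ⟨K, hK⟩ := Sylow.exists_subgroup_card_pow_prime 2 (G := ↥C0) (n := 4)
    (by rw [card_C0]; norm_num)
  have hK0 : Nat.card ↥(K.map C0.subtype) = 16 := by
    rw [Subgroup.card_map_of_injective C0.subtype_injective, hK]
    norm_num
  have hpK : IsPGroup 2 (K.map C0.subtype) :=
    IsPGroup.of_card (n := 4) (by rw [hK0]; norm_num)
  obtain ⟨Q, hQ⟩ := hpK.exists_le_sylow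
  have hQ16 : Nat.card (Q : Subgroup ↥M11b) ≤ 16 := by
    obtain ⟨k, hk⟩ := IsPGroup.iff_card.mp Q.isPGroup'
    have hdvd := Subgroup.card_subgroup_dvd_card (Q : Subgroup ↥M11b)
    rw [hk, card_M11b] at hdvd
    have hk1 : k ≤ 4 := by
      by_contra hcon
      have h1 : 2 ^ 5 ∣ 2 ^ k := pow_dvd_pow 2 (by omega)
      have h2 := h1.trans hdvd
      norm_num at h2
    rw [hk]
    calc 2 ^ k ≤ 2 ^ 4 := Nat.pow_le_pow_right (by norm_num) hk1
      _ = 16 := by norm_num
  have hKQ : K.map C0.subtype = (Q : Subgroup ↥M11b) :=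
    Subgroup.eq_of_le_of_card_ge hQ (by rw [hK0]; exact hQ16)
  obtain ⟨u, hu⟩ := MulAction.exists_smul_eq ↥M11b P Q
  have hxP : x ∈ (P : Subgroup ↥M11b) := hP (Subgroup.mem_zpowers x)
  have hy : u * x * u⁻¹ ∈ (Q : Subgroup ↥M11b) := by
    rw [← hu, Sylow.coe_subgroup_smul]
    exact Subgroup.smul_mem_pointwise_smul x (MulAut.conj u) (P : Subgroup ↥M11b) hxP
  rw [← hKQ] at hy
  obtain ⟨c, hcK, hc⟩ := hy
  obtain ⟨i, hi, hci⟩ := C0_exists c
  have hyi : cE i = u * x * u⁻¹ := hci.trans hc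
  have h5 : (u * x * u⁻¹) ^ 2 = 1 := by
    rw [conj_pow, hx2]
    group
  have hsq : permT (gcTab i) ^ 2 = 1 := by
    rw [← cE_coe i hi, hyi, ← Subgroup.coe_pow, ← Subgroup.coe_pow, h5]
    rfl
  have hne : permT (gcTab i) ≠ 1 := by
    intro e
    apply hx1
    have h4 : cE i = 1 := by
      apply Subtype.ext
      apply Subtype.ext
      rw [cE_coe i hi, e]
      rfl
    rw [hyi] at h4
    have h6 : x = u⁻¹ * (u * x * u⁻¹) * u := by group
    rw [h6, h4]
    group
  obtain ⟨w, hw⟩ := gw_spec i hi hsq hne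
  refine ⟨w * u, ?_⟩
  rw [hyi] at hw
  have h7 : w * u * x * (w * u)⁻¹ = (w * (u * x * u⁻¹)) * w⁻¹ := by group
  rw [h7, hw]
  group

/-! ### Transport -/

theorem cent_equiv03 {G G' : Type*} [Group G] [Group G'] (ψ : G ≃* G') (x : G) :
    Nonempty (↥(Subgroup.centralizer ({x} : Set G))
      ≃* ↥(Subgroup.centralizer ({ψ x} : Set G'))) := by
  have e : (Subgroup.centralizer ({x} : Set G)).map ψ.toMonoidHom
      = Subgroup.centralizer ({ψ x} : Set G') := by
    ext k
    rw [Subgroup.mem_map, Subgroup.mem_centralizer_singleton_iff]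
    constructor
    · rintro ⟨a, ha, rfl⟩
      rw [Subgroup.mem_centralizer_singleton_iff] at ha
      show ψ a * ψ x = ψ x * ψ a
      rw [← map_mul, ← map_mul, ha]
    · intro hk
      refine ⟨ψ.symm k, ?_, ψ.apply_symm_apply k⟩
      rw [Subgroup.mem_centralizer_singleton_iff]
      apply ψ.injective
      rw [map_mul, map_mul, ψ.apply_symm_apply]
      exact hk
  exact ⟨(ψ.subgroupMap _).trans (MulEquiv.subgroupCongr e)⟩

theorem base1603' (x : ↥M11b) (hx : orderOf x = 2) :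
    Nonempty (↥(Subgroup.centralizer ({x} : Set ↥M11b))
      ≃* Matrix.GeneralLinearGroup (Fin 2) (ZMod 3)) := by
  obtain ⟨v, hv⟩ := conj_to_zz x hx
  have h := cent_equiv03 (MulAut.conj v) x
  rw [MulAut.conj_apply, hv] at h
  obtain ⟨e1⟩ := h
  obtain ⟨e2⟩ := base1603
  exact ⟨e1.trans e2⟩

theorem general1603 (K : Subgroup ↥M24) (s : ↥M24)
    (hK : K = M11b.map (MulAut.conj s).toMonoidHom) (x : ↥K) (hx : orderOf x = 2) :
    Nonempty (↥(Subgroup.centralizer ({x} : Set ↥K))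
      ≃* Matrix.GeneralLinearGroup (Fin 2) (ZMod 3)) := by
  subst hK
  let ψ : ↥M11b ≃* ↥(M11b.map (MulAut.conj s).toMonoidHom) := (MulAut.conj s).subgroupMap M11b
  have hx' : orderOf (ψ.symm x) = 2 := by
    rw [MulEquiv.orderOf_eq]
    exact hx
  obtain ⟨e2⟩ := base1603' (ψ.symm x) hx'
  have h := cent_equiv03 ψ (ψ.symm x)
  rw [ψ.apply_symm_apply] at h
  obtain ⟨e1⟩ := h
  exact ⟨e1.symm.trans e2⟩

theorem final1603 (d : Finset GolayPt) (hd : d ∈ dodecads) (p : GolayPt) (hp : p ∈ d)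
    (x : ↥(MulAction.stabilizer M24 d ⊓ MulAction.stabilizer M24 p)) (hx : orderOf x = 2) :
    Nonempty (↥(Subgroup.centralizer
        ({x} : Set ↥(MulAction.stabilizer M24 d ⊓ MulAction.stabilizer M24 p)))
      ≃* Matrix.GeneralLinearGroup (Fin 2) (ZMod 3)) := by
  obtain ⟨g, hg⟩ := dodecads_transitive _ d g_d_mem hd
  have hg' : (g : Equiv.Perm GolayPt) • support₂ (ofBits 340831) = d := hg
  have hp1 : (g : Equiv.Perm GolayPt) (unpos 0) ∈ d := by
    rw [← hg']
    exact Finset.mem_smul_finset.mpr ⟨unpos 0, g_p_mem, rfl⟩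
  obtain ⟨h, hh, hhd, hhp⟩ := dodecad_stab_trans d hd _ p hp1 hp
  have hsd : (⟨h, hh⟩ * g : ↥M24) • support₂ (ofBits 340831) = d := by
    rw [mul_smul, hg]
    exact hhd
  have hsp : (⟨h, hh⟩ * g : ↥M24) • unpos 0 = p := by
    rw [mul_smul]
    exact hhp
  have e1 : MulAction.stabilizer M24 d ⊓ MulAction.stabilizer M24 p
      = M11b.map (MulAut.conj (⟨h, hh⟩ * g : ↥M24)).toMonoidHom := by
    rw [M11b, Subgroup.map_inf _ _ _ (MulAut.conj _).injective,
      ← MulAction.stabilizer_smul_eq_stabilizer_map_conj,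
      ← MulAction.stabilizer_smul_eq_stabilizer_map_conj, hsd, hsp]
  exact general1603 _ _ e1 x hx

end Cfsg.Agent.Helper1.Golay
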