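import Mathlib
import Cfsg.Agent.Helper1.Sx1610

set_option autoImplicit false

namespace Cfsg.Agent.Helper1.Hexa

/-- the three spanning words, indexed -/
def hVj : Fin 3 → Fin 6 → Fin 4 := ![hV1, hV2, hV3]

/-- a monomial map (given by the inverse permutation `s` and the scalars `d`) preserves the
model code -/
abbrev mpres (s : Fin 6 → Fin 6) (d : Fin 6 → Fin 4) : Prop :=
  ∀ j : Fin 3, ∃ t : T3, mw t = fun i => gmul (d i) (hVj j (s i))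

/-- scalars for the 3-cycles -/
def wit3 : Fin 6 → Fin 6 → Fin 6 → Fin 6 → Fin 4 :=
  ![![![![1, 1, 1, 1, 1, 1], ![1, 1, 1, 1, 1, 1], ![1, 1, 1, 1, 1, 1], ![1, 1, 1, 1, 1, 1], ![1, 1, 1, 1, 1, 1], ![1, 1, 1, 1, 1, 1]],
      ![![1, 1, 1, 1, 1, 1], ![1, 1, 1, 1, 1, 1], ![1, 1, 1, 1, 3, 2], ![1, 1, 1, 1, 2, 3], ![1, 1, 3, 2, 1, 1], ![1, 1, 2, 3, 1, 1]],
      ![![1, 1, 1, 1, 1, 1], ![1, 1, 1, 1, 2, 3], ![1, 1, 1, 1, 1, 1], ![1, 1, 1, 1, 3, 2], ![1, 3, 2, 1, 3, 2], ![1, 2, 3, 1, 3, 2]],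
      ![![1, 1, 1, 1, 1, 1], ![1, 1, 1, 1, 3, 2], ![1, 1, 1, 1, 2, 3], ![1, 1, 1, 1, 1, 1], ![1, 2, 1, 3, 2, 3], ![1, 3, 1, 2, 2, 3]],
      ![![1, 1, 1, 1, 1, 1], ![1, 1, 2, 3, 1, 1], ![1, 3, 3, 2, 2, 1], ![1, 2, 3, 2, 3, 1], ![1, 1, 1, 1, 1, 1], ![1, 1, 3, 2, 1, 1]],
      ![![1, 1, 1, 1, 1, 1], ![1, 1, 3, 2, 1, 1], ![1, 2, 2, 3, 1, 3], ![1, 3, 2, 3, 1, 2], ![1, 1, 2, 3, 1, 1], ![1, 1, 1, 1, 1, 1]]],
    ![![![1, 1, 1, 1, 1, 1], ![1, 1, 1, 1, 1, 1], ![1, 1, 1, 1, 2, 3], ![1, 1, 1, 1, 3, 2], ![1, 1, 2, 3, 1, 1], ![1, 1, 3, 2, 1, 1]],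
      ![![1, 1, 1, 1, 1, 1], ![1, 1, 1, 1, 1, 1], ![1, 1, 1, 1, 1, 1], ![1, 1, 1, 1, 1, 1], ![1, 1, 1, 1, 1, 1], ![1, 1, 1, 1, 1, 1]],
      ![![1, 1, 1, 1, 3, 2], ![1, 1, 1, 1, 1, 1], ![1, 1, 1, 1, 1, 1], ![1, 1, 1, 1, 2, 3], ![1, 3, 2, 3, 1, 2], ![1, 2, 3, 2, 3, 1]],
      ![![1, 1, 1, 1, 2, 3], ![1, 1, 1, 1, 1, 1], ![1, 1, 1, 1, 3, 2], ![1, 1, 1, 1, 1, 1], ![1, 2, 2, 3, 1, 3], ![1, 3, 3, 2, 2, 1]],
      ![![1, 1, 3, 2, 1, 1], ![1, 1, 1, 1, 1, 1], ![1, 3, 1, 2, 2, 3], ![1, 2, 3, 1, 3, 2], ![1, 1, 1, 1, 1, 1], ![1, 1, 2, 3, 1, 1]],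
      ![![1, 1, 2, 3, 1, 1], ![1, 1, 1, 1, 1, 1], ![1, 2, 1, 3, 2, 3], ![1, 3, 2, 1, 3, 2], ![1, 1, 3, 2, 1, 1], ![1, 1, 1, 1, 1, 1]]],
    ![![![1, 1, 1, 1, 1, 1], ![1, 1, 1, 1, 3, 2], ![1, 1, 1, 1, 1, 1], ![1, 1, 1, 1, 2, 3], ![1, 3, 3, 2, 2, 1], ![1, 2, 2, 3, 1, 3]],
      ![![1, 1, 1, 1, 2, 3], ![1, 1, 1, 1, 1, 1], ![1, 1, 1, 1, 1, 1], ![1, 1, 1, 1, 3, 2], ![1, 3, 1, 2, 2, 3], ![1, 2, 1, 3, 2, 3]],
      ![![1, 1, 1, 1, 1, 1], ![1, 1, 1, 1, 1, 1], ![1, 1, 1, 1, 1, 1], ![1, 1, 1, 1, 1, 1], ![1, 1, 1, 1, 1, 1], ![1, 1, 1, 1, 1, 1]],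
      ![![1, 1, 1, 1, 3, 2], ![1, 1, 1, 1, 2, 3], ![1, 1, 1, 1, 1, 1], ![1, 1, 1, 1, 1, 1], ![1, 3, 2, 2, 2, 2], ![1, 2, 3, 3, 3, 3]],
      ![![1, 3, 2, 1, 3, 2], ![1, 3, 2, 3, 1, 2], ![1, 1, 1, 1, 1, 1], ![1, 2, 3, 3, 3, 3], ![1, 1, 1, 1, 1, 1], ![1, 3, 2, 2, 2, 2]],
      ![![1, 2, 3, 1, 3, 2], ![1, 2, 3, 2, 3, 1], ![1, 1, 1, 1, 1, 1], ![1, 3, 2, 2, 2, 2], ![1, 2, 3, 3, 3, 3], ![1, 1, 1, 1, 1, 1]]],
    ![![![1, 1, 1, 1, 1, 1], ![1, 1, 1, 1, 2, 3], ![1, 1, 1, 1, 3, 2], ![1, 1, 1, 1, 1, 1], ![1, 2, 3, 2, 3, 1], ![1, 3, 2, 3, 1, 2]],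
      ![![1, 1, 1, 1, 3, 2], ![1, 1, 1, 1, 1, 1], ![1, 1, 1, 1, 2, 3], ![1, 1, 1, 1, 1, 1], ![1, 2, 3, 1, 3, 2], ![1, 3, 2, 1, 3, 2]],
      ![![1, 1, 1, 1, 2, 3], ![1, 1, 1, 1, 3, 2], ![1, 1, 1, 1, 1, 1], ![1, 1, 1, 1, 1, 1], ![1, 2, 3, 3, 3, 3], ![1, 3, 2, 2, 2, 2]],
      ![![1, 1, 1, 1, 1, 1], ![1, 1, 1, 1, 1, 1], ![1, 1, 1, 1, 1, 1], ![1, 1, 1, 1, 1, 1], ![1, 1, 1, 1, 1, 1], ![1, 1, 1, 1, 1, 1]],
      ![![1, 2, 1, 3, 2, 3], ![1, 2, 2, 3, 1, 3], ![1, 3, 2, 2, 2, 2], ![1, 1, 1, 1, 1, 1], ![1, 1, 1, 1, 1, 1], ![1, 2, 3, 3, 3, 3]],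
      ![![1, 3, 1, 2, 2, 3], ![1, 3, 3, 2, 2, 1], ![1, 2, 3, 3, 3, 3], ![1, 1, 1, 1, 1, 1], ![1, 3, 2, 2, 2, 2], ![1, 1, 1, 1, 1, 1]]],
    ![![![1, 1, 1, 1, 1, 1], ![1, 1, 3, 2, 1, 1], ![1, 3, 2, 1, 3, 2], ![1, 2, 1, 3, 2, 3], ![1, 1, 1, 1, 1, 1], ![1, 1, 2, 3, 1, 1]],
      ![![1, 1, 2, 3, 1, 1], ![1, 1, 1, 1, 1, 1], ![1, 3, 2, 3, 1, 2], ![1, 2, 2, 3, 1, 3], ![1, 1, 1, 1, 1, 1], ![1, 1, 3, 2, 1, 1]],
      ![![1, 3, 3, 2, 2, 1], ![1, 3, 1, 2, 2, 3], ![1, 1, 1, 1, 1, 1], ![1, 3, 2, 2, 2, 2], ![1, 1, 1, 1, 1, 1], ![1, 2, 3, 3, 3, 3]],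
      ![![1, 2, 3, 2, 3, 1], ![1, 2, 3, 1, 3, 2], ![1, 2, 3, 3, 3, 3], ![1, 1, 1, 1, 1, 1], ![1, 1, 1, 1, 1, 1], ![1, 3, 2, 2, 2, 2]],
      ![![1, 1, 1, 1, 1, 1], ![1, 1, 1, 1, 1, 1], ![1, 1, 1, 1, 1, 1], ![1, 1, 1, 1, 1, 1], ![1, 1, 1, 1, 1, 1], ![1, 1, 1, 1, 1, 1]],
      ![![1, 1, 3, 2, 1, 1], ![1, 1, 2, 3, 1, 1], ![1, 3, 2, 2, 2, 2], ![1, 2, 3, 3, 3, 3], ![1, 1, 1, 1, 1, 1], ![1, 1, 1, 1, 1, 1]]],
    ![![![1, 1, 1, 1, 1, 1], ![1, 1, 2, 3, 1, 1], ![1, 2, 3, 1, 3, 2], ![1, 3, 1, 2, 2, 3], ![1, 1, 3, 2, 1, 1], ![1, 1, 1, 1, 1, 1]],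
      ![![1, 1, 3, 2, 1, 1], ![1, 1, 1, 1, 1, 1], ![1, 2, 3, 2, 3, 1], ![1, 3, 3, 2, 2, 1], ![1, 1, 2, 3, 1, 1], ![1, 1, 1, 1, 1, 1]],
      ![![1, 2, 2, 3, 1, 3], ![1, 2, 1, 3, 2, 3], ![1, 1, 1, 1, 1, 1], ![1, 2, 3, 3, 3, 3], ![1, 3, 2, 2, 2, 2], ![1, 1, 1, 1, 1, 1]],
      ![![1, 3, 2, 3, 1, 2], ![1, 3, 2, 1, 3, 2], ![1, 3, 2, 2, 2, 2], ![1, 1, 1, 1, 1, 1], ![1, 2, 3, 3, 3, 3], ![1, 1, 1, 1, 1, 1]],
      ![![1, 1, 2, 3, 1, 1], ![1, 1, 3, 2, 1, 1], ![1, 2, 3, 3, 3, 3], ![1, 3, 2, 2, 2, 2], ![1, 1, 1, 1, 1, 1], ![1, 1, 1, 1, 1, 1]],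
      ![![1, 1, 1, 1, 1, 1], ![1, 1, 1, 1, 1, 1], ![1, 1, 1, 1, 1, 1], ![1, 1, 1, 1, 1, 1], ![1, 1, 1, 1, 1, 1], ![1, 1, 1, 1, 1, 1]]]]

theorem mgen : ∀ j : Fin 3, ∃ t : T3, mw t = hVj j := by
  decide +kernel

theorem mD2 : ∀ d0 d1 d2 d3 d4 d5 : Fin 4, d0 ≠ 0 → d1 ≠ 0 → d2 ≠ 0 → d3 ≠ 0 → d4 ≠ 0 →
    d5 ≠ 0 → mpres (fun i => i) ![d0, d1, d2, d3, d4, d5] →
    ∀ i j : Fin 6, ![d0, d1, d2, d3, d4, d5] i = ![d0, d1, d2, d3, d4, d5] j := by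
  decide +kernel

theorem mD4 : ∀ d0 d1 d2 d3 d4 d5 : Fin 4, d0 ≠ 0 → d1 ≠ 0 → d2 ≠ 0 → d3 ≠ 0 → d4 ≠ 0 →
    d5 ≠ 0 → ¬ mpres (fun i => Equiv.swap (0 : Fin 6) 1 i) ![d0, d1, d2, d3, d4, d5] := by
  decide +kernel

theorem mD3 : ∀ a b c : Fin 6, a ≠ b → a ≠ c → b ≠ c →
    (∀ i, wit3 a b c i ≠ 0) ∧
      mpres (fun i => Equiv.swap b c (Equiv.swap a b i)) (wit3 a b c) := by
  decide +kernel

theorem vec6_eta (d : Fin 6 → Fin 4) : d = ![d 0, d 1, d 2, d 3, d 4, d 5] := by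
  funext i
  fin_cases i <;> rfl

section
variable {F : Type*} [Field F]

/-- the monomial map preserves the hexacode -/
def hxPres (ω : F) (σ : Equiv.Perm (Fin 6)) (c : Fin 6 → Fˣ) : Prop :=
  ∀ x ∈ Cfsg.hexacode F ω, Cfsg.monomialMap σ c x ∈ Cfsg.hexacode F ω

theorem hgen_mem [Fintype F] (hF : Fintype.card F = 4) (ω : F) (hω : ω ^ 2 + ω + 1 = 0)
    (j : Fin 3) : (fun i => io ω (hVj j i)) ∈ Cfsg.hexacode F ω := by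
  obtain ⟨t, ht⟩ := mgen j
  refine (hexa_mem_iff hF ω hω _).mpr ⟨t, ?_⟩
  funext i
  show io ω (mw t i) = io ω (hVj j i)
  rw [ht]

theorem mono_gen (ω : F) (h2 : (2 : F) = 0) (hω : ω ^ 2 + ω + 1 = 0)
    (σ : Equiv.Perm (Fin 6)) (c : Fin 6 → Fˣ) (d : Fin 6 → Fin 4)
    (hd : ∀ i, io ω (d i) = (c i : F)) (j : Fin 3) :
    Cfsg.monomialMap σ c (fun i => io ω (hVj j i))
      = fun i => io ω (gmul (d i) (hVj j (σ.symm i))) := by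
  funext i
  show (c i : F) * io ω (hVj j (σ.symm i)) = io ω (gmul (d i) (hVj j (σ.symm i)))
  rw [← hd i, io_mul ω h2 hω]

theorem mono_gen_mem_iff [Fintype F] (hF : Fintype.card F = 4) (ω : F)
    (hω : ω ^ 2 + ω + 1 = 0)
    (σ : Equiv.Perm (Fin 6)) (c : Fin 6 → Fˣ) (d : Fin 6 → Fin 4)
    (hd : ∀ i, io ω (d i) = (c i : F)) (j : Fin 3) :
    Cfsg.monomialMap σ c (fun i => io ω (hVj j i)) ∈ Cfsg.hexacode F ω ↔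
      ∃ t : T3, mw t = fun i => gmul (d i) (hVj j (σ.symm i)) := by
  have h2 := two_eq_zero_of_card hF
  rw [mono_gen ω h2 hω σ c d hd j, hexa_mem_iff hF ω hω]
  constructor
  · rintro ⟨t, ht⟩
    exact ⟨t, funext fun i => io_inj ω h2 hω (congrFun ht i)⟩
  · rintro ⟨t, ht⟩
    refine ⟨t, ?_⟩
    funext i
    show io ω (mw t i) = _
    rw [ht]

theorem hxPres_iff [Fintype F] (hF : Fintype.card F = 4) (ω : F) (hω : ω ^ 2 + ω + 1 = 0)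
    (σ : Equiv.Perm (Fin 6)) (c : Fin 6 → Fˣ) (d : Fin 6 → Fin 4)
    (hd : ∀ i, io ω (d i) = (c i : F)) :
    hxPres ω σ c ↔ mpres (fun i => σ.symm i) d := by
  constructor
  · intro h j
    exact (mono_gen_mem_iff hF ω hω σ c d hd j).mp (h _ (hgen_mem hF ω hω j))
  · intro hp x hx
    unfold Cfsg.hexacode at hx
    rw [Submodule.mem_span_triple] at hx
    obtain ⟨a, b, e, rfl⟩ := hx
    have m1 : Cfsg.monomialMap σ c (![ω, ω ^ 2, ω ^ 2, ω, ω ^ 2, ω] : Fin 6 → F)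
        ∈ Cfsg.hexacode F ω := by
      rw [hv1 ω]
      exact (mono_gen_mem_iff hF ω hω σ c d hd 0).mpr (hp 0)
    have m2 : Cfsg.monomialMap σ c (![ω ^ 2, ω, ω, ω ^ 2, ω ^ 2, ω] : Fin 6 → F)
        ∈ Cfsg.hexacode F ω := by
      rw [hv2 ω]
      exact (mono_gen_mem_iff hF ω hω σ c d hd 1).mpr (hp 1)
    have m3 : Cfsg.monomialMap σ c (![ω ^ 2, ω, ω ^ 2, ω, ω, ω ^ 2] : Fin 6 → F)
        ∈ Cfsg.hexacode F ω := by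
      rw [hv3 ω]
      exact (mono_gen_mem_iff hF ω hω σ c d hd 2).mpr (hp 2)
    have e1 : Cfsg.monomialMap σ c
        (a • (![ω, ω ^ 2, ω ^ 2, ω, ω ^ 2, ω] : Fin 6 → F)
          + b • (![ω ^ 2, ω, ω, ω ^ 2, ω ^ 2, ω] : Fin 6 → F)
          + e • (![ω ^ 2, ω, ω ^ 2, ω, ω, ω ^ 2] : Fin 6 → F))
        = a • Cfsg.monomialMap σ c (![ω, ω ^ 2, ω ^ 2, ω, ω ^ 2, ω] : Fin 6 → F)
          + b • Cfsg.monomialMap σ c (![ω ^ 2, ω, ω, ω ^ 2, ω ^ 2, ω] : Fin 6 → F)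
          + e • Cfsg.monomialMap σ c (![ω ^ 2, ω, ω ^ 2, ω, ω, ω ^ 2] : Fin 6 → F) := by
      funext i
      simp only [Cfsg.monomialMap, Pi.add_apply, Pi.smul_apply, smul_eq_mul]
      ring
    rw [e1]
    exact Submodule.add_mem _ (Submodule.add_mem _ (Submodule.smul_mem _ _ m1)
      (Submodule.smul_mem _ _ m2)) (Submodule.smul_mem _ _ m3)

theorem exists_model [Fintype F] (hF : Fintype.card F = 4) (ω : F) (hω : ω ^ 2 + ω + 1 = 0)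
    (c : Fin 6 → Fˣ) : ∃ d : Fin 6 → Fin 4, (∀ i, io ω (d i) = (c i : F)) ∧ ∀ i, d i ≠ 0 := by
  choose d hd using fun i => io_surj hF ω hω (c i : F)
  refine ⟨d, hd, fun i h0 => ?_⟩
  have h := hd i
  rw [h0] at h
  exact Units.ne_zero (c i) h.symm

theorem hxPres_mul (ω : F) {σ τ : Equiv.Perm (Fin 6)} {c e : Fin 6 → Fˣ}
    (h1 : hxPres ω σ c) (h2 : hxPres ω τ e) :
    hxPres ω (σ * τ) (fun i => c i * e (σ.symm i)) := by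
  intro x hx
  have h := h1 _ (h2 x hx)
  have e1 : Cfsg.monomialMap (σ * τ) (fun i => c i * e (σ.symm i)) x
      = Cfsg.monomialMap σ c (Cfsg.monomialMap τ e x) := by
    funext i
    show ((c i * e (σ.symm i) : Fˣ) : F) * x (τ.symm (σ.symm i))
      = (c i : F) * ((e (σ.symm i) : F) * x (τ.symm (σ.symm i)))
    rw [Units.val_mul, mul_assoc]
  rw [e1]
  exact h

theorem hxPres_one (ω : F) : hxPres ω 1 (fun _ => 1) := by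
  intro x hx
  have e1 : Cfsg.monomialMap (1 : Equiv.Perm (Fin 6)) (fun _ => (1 : Fˣ)) x = x := by
    funext i
    show ((1 : Fˣ) : F) * x i = x i
    rw [Units.val_one, one_mul]
  rw [e1]
  exact hx

theorem hxPres_inv [Finite F] (ω : F) {σ : Equiv.Perm (Fin 6)} {c : Fin 6 → Fˣ}
    (h1 : hxPres ω σ c) : hxPres ω σ⁻¹ (fun i => (c (σ i))⁻¹) := by
  have hleft : ∀ x : Fin 6 → F,
      Cfsg.monomialMap σ⁻¹ (fun i => (c (σ i))⁻¹) (Cfsg.monomialMap σ c x) = x := by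
    intro x
    funext i
    show (((c (σ i))⁻¹ : Fˣ) : F) * ((c (σ i) : F) * x (σ.symm (σ i))) = x i
    rw [Equiv.symm_apply_apply, Units.inv_mul_cancel_left]
  have hinj : Function.Injective
      (fun x : ↥(Cfsg.hexacode F ω) =>
        (⟨Cfsg.monomialMap σ c x.1, h1 x.1 x.2⟩ : ↥(Cfsg.hexacode F ω))) := by
    intro x y hxy
    have h := congrArg Subtype.val hxy
    apply Subtype.ext
    have h' : Cfsg.monomialMap σ c x.1 = Cfsg.monomialMap σ c y.1 := h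
    rw [← hleft x.1, ← hleft y.1, h']
  have hsurj := Finite.injective_iff_surjective.mp hinj
  intro y hy
  obtain ⟨x, hx⟩ := hsurj ⟨y, hy⟩
  have h := congrArg Subtype.val hx
  have h' : Cfsg.monomialMap σ c x.1 = y := h
  rw [← h', hleft]
  exact x.2

/-- the permutation parts of the monomial automorphisms -/
def hxP [Finite F] (ω : F) : Subgroup (Equiv.Perm (Fin 6)) where
  carrier := {σ | ∃ c : Fin 6 → Fˣ, hxPres ω σ c}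
  mul_mem' := by
    rintro σ τ ⟨c, hc⟩ ⟨e, he⟩
    exact ⟨_, hxPres_mul ω hc he⟩
  one_mem' := ⟨_, hxPres_one ω⟩
  inv_mem' := by
    rintro σ ⟨c, hc⟩
    exact ⟨_, hxPres_inv ω hc⟩

theorem three_mem [Fintype F] (hF : Fintype.card F = 4) (ω : F) (hω : ω ^ 2 + ω + 1 = 0)
    (a b c : Fin 6) (hab : a ≠ b) (hac : a ≠ c) (hbc : b ≠ c) :
    Equiv.swap a b * Equiv.swap b c ∈ hxP ω := by
  obtain ⟨hnz, hp⟩ := mD3 a b c hab hac hbc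
  refine ⟨fun i => Units.mk0 (io ω (wit3 a b c i)) (fun h => hnz i (io_ne ω hω _ h)), ?_⟩
  exact (hxPres_iff hF ω hω _ _ (wit3 a b c) (fun i => rfl)).mpr hp

theorem alt_le_hxP [Fintype F] (hF : Fintype.card F = 4) (ω : F) (hω : ω ^ 2 + ω + 1 = 0) :
    alternatingGroup (Fin 6) ≤ hxP ω := by
  rw [← Equiv.Perm.closure_three_cycles_eq_alternating, Subgroup.closure_le]
  intro g hg
  have hg3 : g.IsThreeCycle := hg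
  have hne : g.support.Nonempty := by
    apply Finset.card_pos.mp
    rw [hg3.card_support]
    norm_num
  obtain ⟨a, ha⟩ := hne
  have e := hg3.eq_swap_mul_swap_iff_mem_support.mpr ha
  have nd := hg3.nodup_iff_mem_support.mpr ha
  have h1 : a ≠ g a := by
    intro h
    rw [← h] at nd
    simp at nd
  have h3 : g a ≠ g (g a) := by
    intro h
    rw [← h] at nd
    simp at nd
  have h2 : a ≠ g (g a) := by
    intro h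
    rw [← h] at nd
    simp at nd
  have hm := three_mem hF ω hω a (g a) (g (g a)) h1 h2 h3
  rw [← e] at hm
  exact hm

theorem swap_not_mem [Fintype F] (hF : Fintype.card F = 4) (ω : F) (hω : ω ^ 2 + ω + 1 = 0) :
    Equiv.swap (0 : Fin 6) 1 ∉ hxP ω := by
  rintro ⟨c, hc⟩
  obtain ⟨d, hd, hnz⟩ := exists_model hF ω hω c
  have hp := (hxPres_iff hF ω hω _ c d hd).mp hc
  have hp' : mpres (fun i => Equiv.swap (0 : Fin 6) 1 i) d := hp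
  rw [vec6_eta d] at hp'
  exact mD4 (d 0) (d 1) (d 2) (d 3) (d 4) (d 5) (hnz 0) (hnz 1) (hnz 2) (hnz 3) (hnz 4)
    (hnz 5) hp'

theorem hxP_le_alt [Fintype F] (hF : Fintype.card F = 4) (ω : F) (hω : ω ^ 2 + ω + 1 = 0) :
    hxP ω ≤ alternatingGroup (Fin 6) := by
  intro σ hσ
  rw [Equiv.Perm.mem_alternatingGroup]
  rcases Int.units_eq_one_or (Equiv.Perm.sign σ) with h | h
  · exact h
  · exfalso
    have hmem : σ⁻¹ * Equiv.swap (0 : Fin 6) 1 ∈ alternatingGroup (Fin 6) := by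
      rw [Equiv.Perm.mem_alternatingGroup, map_mul, Equiv.Perm.sign_inv, h,
        Equiv.Perm.sign_swap (by decide)]
      rfl
    have h' := Subgroup.mul_mem _ hσ (alt_le_hxP hF ω hω hmem)
    rw [mul_inv_cancel_left] at h'
    exact swap_not_mem hF ω hω h'

theorem hx_diag [Fintype F] (hF : Fintype.card F = 4) (ω : F) (hω : ω ^ 2 + ω + 1 = 0)
    (c : Fin 6 → Fˣ) (hc : hxPres ω 1 c) : ∀ i j, c i = c j := by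
  obtain ⟨d, hd, hnz⟩ := exists_model hF ω hω c
  have hp := (hxPres_iff hF ω hω _ c d hd).mp hc
  have hp' : mpres (fun i => i) d := hp
  rw [vec6_eta d] at hp'
  have h := mD2 (d 0) (d 1) (d 2) (d 3) (d 4) (d 5) (hnz 0) (hnz 1) (hnz 2) (hnz 3) (hnz 4)
    (hnz 5) hp'
  rw [← vec6_eta d] at h
  intro i j
  apply Units.ext
  rw [← hd i, ← hd j, h i j]

theorem hxPres_smul (ω : F) {σ : Equiv.Perm (Fin 6)} {c : Fin 6 → Fˣ} (h1 : hxPres ω σ c)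
    (u : Fˣ) : hxPres ω σ (fun i => u * c i) := by
  intro x hx
  have e1 : Cfsg.monomialMap σ (fun i => u * c i) x = (u : F) • Cfsg.monomialMap σ c x := by
    funext i
    show ((u * c i : Fˣ) : F) * x (σ.symm i) = (u : F) * ((c i : F) * x (σ.symm i))
    rw [Units.val_mul, mul_assoc]
  rw [e1]
  exact Submodule.smul_mem _ _ (h1 x hx)

theorem hx_card [Fintype F] (hF : Fintype.card F = 4) (ω : F) (hω : ω ^ 2 + ω + 1 = 0) :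
    Nat.card {f : Equiv.Perm (Fin 6) × (Fin 6 → Fˣ) // hxPres ω f.1 f.2} = 1080 := by
  classical
  have hch : ∀ s : ↥(alternatingGroup (Fin 6)), ∃ c : Fin 6 → Fˣ, hxPres ω s.1 c :=
    fun s => alt_le_hxP hF ω hω s.2
  choose c0 hc0 using hch
  have hbij : Function.Bijective
      (fun p : ↥(alternatingGroup (Fin 6)) × Fˣ =>
        (⟨(p.1.1, fun i => p.2 * c0 p.1 i), hxPres_smul ω (hc0 p.1) p.2⟩ :
          {f : Equiv.Perm (Fin 6) × (Fin 6 → Fˣ) // hxPres ω f.1 f.2})) := by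
    constructor
    · rintro ⟨s, u⟩ ⟨s', u'⟩ h
      have h1 := congrArg Subtype.val h
      have h2 : ((s : Equiv.Perm (Fin 6)), fun i => u * c0 s i)
          = ((s' : Equiv.Perm (Fin 6)), fun i => u' * c0 s' i) := h1
      have h3 := (Prod.ext_iff.mp h2).1
      have h4 := (Prod.ext_iff.mp h2).2
      have hs : s = s' := Subtype.ext h3
      subst hs
      have h5 := congrFun h4 0
      have h6 : u * c0 s 0 = u' * c0 s 0 := h5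
      rw [mul_right_cancel h6]
    · rintro ⟨⟨σ, c⟩, h⟩
      have hσ : σ ∈ alternatingGroup (Fin 6) := hxP_le_alt hF ω hω ⟨c, h⟩
      have hcomp := hxPres_mul ω (hxPres_inv ω (hc0 ⟨σ, hσ⟩)) h
      rw [inv_mul_cancel] at hcomp
      have hconst := hx_diag hF ω hω _ hcomp
      have hk : ∀ k : Fin 6, c k = ((c0 ⟨σ, hσ⟩ 0)⁻¹ * c 0) * c0 ⟨σ, hσ⟩ k := by
        intro k
        have h1 := hconst (σ.symm k) (σ.symm 0)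
        have h2 : (c0 ⟨σ, hσ⟩ (σ (σ.symm k)))⁻¹ * c (σ (σ.symm k))
            = (c0 ⟨σ, hσ⟩ (σ (σ.symm 0)))⁻¹ * c (σ (σ.symm 0)) := h1
        rw [Equiv.apply_symm_apply, Equiv.apply_symm_apply] at h2
        rw [← h2, mul_comm, mul_inv_cancel_left]
      refine ⟨(⟨σ, hσ⟩, (c0 ⟨σ, hσ⟩ 0)⁻¹ * c 0), ?_⟩
      apply Subtype.ext
      show ((σ : Equiv.Perm (Fin 6)), fun i => ((c0 ⟨σ, hσ⟩ 0)⁻¹ * c 0) * c0 ⟨σ, hσ⟩ i)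
        = (σ, c)
      rw [Prod.mk.injEq]
      exact ⟨rfl, funext fun k => (hk k).symm⟩
  rw [← Nat.card_eq_of_bijective _ hbij, Nat.card_prod, nat_card_alternatingGroup,
    Nat.card_units, Nat.card_eq_fintype_card, Nat.card_eq_fintype_card, hF, Fintype.card_fin]
  decide

theorem final1611 (F : Type*) [Field F] [Fintype F] [DecidableEq F] (hF : Fintype.card F = 4) (ω : F) (hω : ω ^ 2 + ω + 1 = 0) : Nat.card {f : Equiv.Perm (Fin 6) × (Fin 6 → Fˣ) // (∀ x ∈ Cfsg.hexacode F ω, Cfsg.monomialMap f.1 f.2 x ∈ Cfsg.hexacode F ω)} = 1080 ∧ (∀ c : Fin 6 → Fˣ, (∀ x ∈ Cfsg.hexacode F ω, Cfsg.monomialMap 1 c x ∈ Cfsg.hexacode F ω) → ∀ i j, c i = c j) ∧ {σ : Equiv.Perm (Fin 6) | ∃ c : Fin 6 → Fˣ, (∀ x ∈ Cfsg.hexacode F ω, Cfsg.monomialMap σ c x ∈ Cfsg.hexacode F ω)} = (alternatingGroup (Fin 6) : Set (Equiv.Perm (Fin 6))) := by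
  refine ⟨hx_card hF ω hω, fun c hc => hx_diag hF ω hω c hc, ?_⟩
  ext σ
  constructor
  · intro h
    exact hxP_le_alt hF ω hω h
  · intro h
    exact alt_le_hxP hF ω hω h

end

end Cfsg.Agent.Helper1.Hexa
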