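import Mathlib
import Cfsg.Agent.Helper1.Sx5604Tab
import Cfsg.Agent.Helper1.Trio
import Cfsg.Agent.Helper1.FamFinal
import Cfsg.Agent.Helper1.Golay9

set_option autoImplicit false

namespace Cfsg.Agent.Helper1.Golay

open Cfsg
open scoped Pointwise

/-! ### The element of order seven -/

theorem s7_tblOK : tblOK s7 = true := by
  have h := s7_ok
  simp only [Bool.and_eq_true] at h
  exact h.1.1.1

theorem s7_mem : permT s7 ∈ M24 := by
  have h := s7_ok
  simp only [Bool.and_eq_true] at h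
  exact permT_mem h.1.1.1 h.1.1.2

theorem s7_pow : permT s7 ^ 7 = 1 := by
  have h := s7_ok
  simp only [Bool.and_eq_true] at h
  exact (permT_pow_eq_one_iff s7_tblOK 7).mpr h.1.2

theorem s7_ne_one : permT s7 ≠ 1 := by
  have h := s7_ok
  simp only [Bool.and_eq_true] at h
  obtain ⟨-, h4⟩ := h
  intro e
  have h1 : permT s7 ^ 1 = 1 := by rw [pow_one]; exact e
  rw [permT_pow_eq_one_iff s7_tblOK 1] at h1
  rw [h1] at h4
  exact absurd h4 (by decide)

/-- The base trio. -/
noncomputable def T5 : Finset (Finset GolayPt) := famOf (trioTb 1183)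

theorem T5_mem : T5 ∈ trios := trio_isTable.mem 1183 (by norm_num)

theorem s7_smul_T5 : permT s7 • T5 = T5 := by
  have e1 := famOf_pullFam (permT s7) s7 (pos_permT s7_tblOK) (trioTb 1183)
  rw [famOf_eq_of_famEq s7_trio_fix] at e1
  exact (inv_smul_eq_iff.mp e1.symm).symm

theorem T5_unique (X : Finset (Finset GolayPt)) (hX : X ∈ trios) (hfix : permT s7 • X = X) :
    X = T5 := by
  obtain ⟨j, hj, rfl⟩ := trio_isTable.surj X hX
  have h := List.all_eq_true.mp s7_trio_unique j (List.mem_range.mpr hj)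
  simp only [Bool.and_eq_true, Bool.or_eq_true] at h
  obtain ⟨hg, h2⟩ := h
  rcases h2 with h2 | h2
  · rw [Nat.eq_of_beq_eq_true h2]
    rfl
  · exfalso
    have e1 := famOf_pullFam (permT s7) s7 (pos_permT s7_tblOK) (trioTb j)
    have e2 : (permT s7)⁻¹ • famOf (trioTb j) = famOf (trioTb j) := by
      rw [inv_smul_eq_iff]
      exact hfix.symm
    rw [e2] at e1
    have e3 := keyN_eq_of_famOf_eq hg (trio_isTable.good j hj) e1
    rw [e3, Nat.beq_refl] at h2
    exact absurd h2 (by decide)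

/-- The fixed points. -/
noncomputable def F5 : Finset GolayPt := support₂ (ofBits 9218)

theorem s7_fix_iff (p : GolayPt) : permT s7 p = p ↔ p ∈ F5 := by
  have h := List.all_eq_true.mp s7_fix (pos p) (List.mem_range.mpr (pos_lt p))
  have h' : Nat.beq (look s7 (pos p)) (pos p) = Nat.testBit 9218 (pos p) := by simpa using h
  rw [F5, mem_support₂_ofBits, ← h']
  constructor
  · intro e
    have e' := congrArg pos e
    rw [pos_permT s7_tblOK] at e'
    rw [e']
    exact Nat.beq_refl _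
  · intro e
    apply pos_injective
    rw [pos_permT s7_tblOK]
    exact Nat.eq_of_beq_eq_true e

theorem conj_fixed {g s : Equiv.Perm GolayPt} {m : ℤ} (h : (g * s * g⁻¹) ^ m = s) (p : GolayPt)
    (hp : s p = p) : s (g p) = g p := by
  have h1 : (g * s * g⁻¹) (g p) = g p := by simp [hp]
  have h2 := Equiv.Perm.zpow_apply_eq_self_of_apply_eq_self h1 m
  rw [h] at h2
  exact h2

theorem conj_fixed_fam {g s : Equiv.Perm GolayPt} {m : ℤ} (h : (g * s * g⁻¹) ^ m = s)
    (X : Finset (Finset GolayPt)) (hX : s • X = X) : s • (g • X) = g • X := by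
  have h1 : (g * s * g⁻¹) • (g • X) = g • X := by rw [mul_smul, mul_smul, inv_smul_smul, hX]
  have h2 : (g * s * g⁻¹) ∈ MulAction.stabilizer (Equiv.Perm GolayPt) (g • X) :=
    MulAction.mem_stabilizer_iff.mpr h1
  have h3 := zpow_mem h2 m
  rw [h] at h3
  exact MulAction.mem_stabilizer_iff.mp h3

theorem conj_T5 {g : Equiv.Perm GolayPt} (hg : g ∈ M24) {m : ℤ}
    (h : (g * permT s7 * g⁻¹) ^ m = permT s7) : g • T5 = T5 :=
  T5_unique (g • T5) (trios_inv g hg T5 T5_mem) (conj_fixed_fam h T5 s7_smul_T5)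

theorem conj_F5 {g : Equiv.Perm GolayPt} {m : ℤ}
    (h : (g * permT s7 * g⁻¹) ^ m = permT s7) : g • F5 = F5 := by
  have hsub : g • F5 ⊆ F5 := by
    intro x hx
    obtain ⟨p, hp, rfl⟩ := Finset.mem_smul_finset.mp hx
    exact (s7_fix_iff _).mp (conj_fixed h p ((s7_fix_iff p).mpr hp))
  exact Finset.eq_of_subset_of_card_le hsub (by rw [Finset.card_smul_finset])

/-! ### The order bound -/

theorem card_stab_trio {T : Finset (Finset GolayPt)} (hT : T ∈ trios) :
    Nat.card ↥(MulAction.stabilizer M24 T) = 64512 := by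
  have horb : MulAction.orbit M24 T = trios := by
    ext X
    constructor
    · rintro ⟨g, rfl⟩
      exact trios_inv _ g.2 T hT
    · intro hX
      obtain ⟨g, hg, e⟩ := trio_isTable.transitive T X hT hX
      exact ⟨⟨g, hg⟩, e⟩
  have h := Subgroup.card_mul_index (MulAction.stabilizer M24 T)
  rw [MulAction.index_stabilizer, horb, trios_ncard, card_M24] at h
  omega

theorem tr_spec (i : ℕ) (hi : i < 512) :
    tblOK (trTab i) = true ∧ permT (trTab i) ∈ M24 ∧ (permT (trTab i))⁻¹ • T5 = T5 := by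
  have h := List.all_eq_true.mp tr_ok i (List.mem_range.mpr hi)
  simp only [Bool.and_eq_true] at h
  obtain ⟨⟨hok, hc⟩, hf⟩ := h
  refine ⟨hok, permT_mem hok hc, ?_⟩
  have e1 := famOf_pullFam (permT (trTab i)) (trTab i) (pos_permT hok) (trioTb 1183)
  rw [famOf_eq_of_famEq hf] at e1
  exact e1.symm

theorem tr_mono (i j : ℕ) (hij : i < j) (hj : j < 512) :
    pullBits (trTab i) 9218 24 < pullBits (trTab j) 9218 24 := by
  apply lt_of_chain (fun i => pullBits (trTab i) 9218 24) 512 _ i j hij hj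
  intro k hk
  exact Nat.blt_eq.mp (List.all_eq_true.mp tr_lt k (List.mem_range.mpr (by omega)))

theorem card_J5_le :
    Nat.card ↥(MulAction.stabilizer M24 T5 ⊓ MulAction.stabilizer M24 F5) ≤ 126 := by
  have h := card_eq_orbit_mul' (MulAction.stabilizer M24 T5) F5
  rw [card_stab_trio T5_mem] at h
  have h512 : 512 ≤ {x | ∃ h ∈ MulAction.stabilizer M24 T5, h • F5 = x}.ncard := by
    have hinj : Set.InjOn (fun i => support₂ (ofBits (pullBits (trTab i) 9218 24)))
        (↑(Finset.range 512) : Set ℕ) := by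
      intro i hi j hj e
      have hi' := Finset.mem_range.mp (Finset.mem_coe.mp hi)
      have hj' := Finset.mem_range.mp (Finset.mem_coe.mp hj)
      have e' := mask_inj (pullBits_lt _ _ 24) (pullBits_lt _ _ 24) e
      rcases Nat.lt_trichotomy i j with hlt | heq | hgt
      · exact absurd e' (Nat.ne_of_lt (tr_mono i j hlt hj'))
      · exact heq
      · exact absurd e'.symm (Nat.ne_of_lt (tr_mono j i hgt hi'))
    have hsub : (fun i => support₂ (ofBits (pullBits (trTab i) 9218 24))) ''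
        (↑(Finset.range 512) : Set ℕ)
        ⊆ {x | ∃ h ∈ MulAction.stabilizer M24 T5, h • F5 = x} := by
      rintro _ ⟨i, hi, rfl⟩
      obtain ⟨hok, hm, hT⟩ := tr_spec i (Finset.mem_range.mp (Finset.mem_coe.mp hi))
      refine ⟨⟨(permT (trTab i))⁻¹, inv_mem hm⟩, MulAction.mem_stabilizer_iff.mpr hT, ?_⟩
      exact permT_inv_smul hok 9218
    have h1 := Set.ncard_le_ncard hsub (Set.toFinite _)
    rw [Set.InjOn.ncard_image hinj, Set.ncard_coe_finset, Finset.card_range] at h1
    exact h1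
  by_contra hcon
  have h2 : 127 ≤ Nat.card ↥(MulAction.stabilizer M24 T5 ⊓ MulAction.stabilizer M24 F5) := by
    omega
  have h3 := Nat.mul_le_mul h512 h2
  omega

/-! ### The normaliser -/

theorem fact7 : Fact (Nat.Prime 7) := ⟨by norm_num⟩

/-- The element of order seven, in the group. -/
noncomputable def sig7 : ↥M24 := ⟨permT s7, s7_mem⟩

theorem sig7_ne_one : sig7 ≠ 1 := fun h => s7_ne_one (congrArg Subtype.val h)

theorem sig7_order : orderOf sig7 = 7 := by
  have := fact7
  exact orderOf_eq_prime (Subtype.ext s7_pow) sig7_ne_one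

theorem card_S7 : Nat.card ↥(Subgroup.zpowers sig7) = 7 := by
  rw [Nat.card_zpowers, sig7_order]

theorem norm_pow (n : ↥M24)
    (hn : n ∈ Subgroup.normalizer ((Subgroup.zpowers sig7 : Subgroup ↥M24) : Set ↥M24)) :
    ∃ m : ℤ, ((n : Equiv.Perm GolayPt) * permT s7 * (n : Equiv.Perm GolayPt)⁻¹) ^ m
      = permT s7 := by
  have := fact7
  have h1 : n * sig7 * n⁻¹ ∈ Subgroup.zpowers sig7 :=
    (Subgroup.mem_normalizer_iff.mp hn sig7).mp (Subgroup.mem_zpowers sig7)
  have h2 : n * sig7 * n⁻¹ ≠ 1 := by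
    intro e
    apply sig7_ne_one
    have e' := congrArg (fun x => n⁻¹ * x * n) e
    simpa [mul_assoc] using e'
  have h3 := mem_zpowers_of_prime_card (G := ↥(Subgroup.zpowers sig7)) card_S7
    (g := ⟨n * sig7 * n⁻¹, h1⟩) (g' := ⟨sig7, Subgroup.mem_zpowers sig7⟩)
    (fun e => h2 (congrArg Subtype.val e))
  obtain ⟨m, hm⟩ := Subgroup.mem_zpowers_iff.mp h3
  refine ⟨m, ?_⟩
  have e1 : (n * sig7 * n⁻¹) ^ m = sig7 := by
    have e0 := congrArg Subtype.val hm
    rwa [SubgroupClass.coe_zpow] at e0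
  have e2 := congrArg Subtype.val e1
  rw [SubgroupClass.coe_zpow] at e2
  exact e2

theorem norm_le_J5 :
    Subgroup.normalizer ((Subgroup.zpowers sig7 : Subgroup ↥M24) : Set ↥M24)
      ≤ MulAction.stabilizer M24 T5 ⊓ MulAction.stabilizer M24 F5 := by
  intro n hn
  obtain ⟨m, hm⟩ := norm_pow n hn
  exact ⟨MulAction.mem_stabilizer_iff.mpr (conj_T5 n.2 hm),
    MulAction.mem_stabilizer_iff.mpr (conj_F5 hm)⟩

theorem mem_normalizer_zpowers {G : Type*} [Group G] (s x : G) (k k' : ℕ)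
    (h1 : x * s = s ^ k * x) (h2 : s * x = x * s ^ k') :
    x ∈ Subgroup.normalizer ((Subgroup.zpowers s : Subgroup G) : Set G) := by
  rw [Subgroup.mem_normalizer_iff]
  intro h
  have e1 : x * s * x⁻¹ = s ^ k := by rw [h1, mul_inv_cancel_right]
  have e2 : x⁻¹ * s * x = s ^ k' := by rw [mul_assoc, h2, inv_mul_cancel_left]
  constructor
  · intro hh
    obtain ⟨z, rfl⟩ := Subgroup.mem_zpowers_iff.mp hh
    have e3 : x * s ^ z * x⁻¹ = (s ^ k) ^ z := by rw [← e1, conj_zpow]
    rw [e3]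
    exact zpow_mem (pow_mem (Subgroup.mem_zpowers s) k) z
  · intro hh
    obtain ⟨z, hz⟩ := Subgroup.mem_zpowers_iff.mp hh
    have e3 : h = (s ^ k') ^ z := by
      rw [← e2]
      have e4 := conj_zpow (a := x⁻¹) (b := s) (i := z)
      rw [inv_inv] at e4
      rw [e4, hz]
      group
    rw [e3]
    exact zpow_mem (pow_mem (Subgroup.mem_zpowers s) k') z

/-- The listed elements. -/
noncomputable def nzE (i : ℕ) : ↥M24 := by
  classical
  exact if h : permT (nzTab i) ∈ M24 then ⟨permT (nzTab i), h⟩ else 1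

theorem nz_spec (i : ℕ) (hi : i < 126) :
    tblOK (nzTab i) = true ∧ ((nzE i : ↥M24) : Equiv.Perm GolayPt) = permT (nzTab i)
      ∧ (∃ k, nrmL (nzTab i) k = true) ∧ (∃ k, nrmR (nzTab i) k = true) := by
  have h := List.all_eq_true.mp nz_ok i (List.mem_range.mpr hi)
  simp only [Bool.and_eq_true] at h
  obtain ⟨⟨⟨hok, hc⟩, hL⟩, hR⟩ := h
  obtain ⟨k, -, hk⟩ := List.any_eq_true.mp hL
  obtain ⟨k', -, hk'⟩ := List.any_eq_true.mp hR
  refine ⟨hok, ?_, ⟨k, hk⟩, ⟨k', hk'⟩⟩
  rw [nzE, dif_pos (permT_mem hok hc)]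

theorem nrmL_spec {g k : ℕ} (hok : tblOK g = true) :
    nrmL g k = true ↔ permT g * permT s7 = permT s7 ^ k * permT g := by
  constructor
  · intro h
    apply perm_ext_pos
    intro p
    rw [pos_permT_mul hok s7_tblOK, Equiv.Perm.mul_apply, pos_permT_pow s7_tblOK, pos_permT hok]
    exact Nat.eq_of_beq_eq_true (List.all_eq_true.mp h (pos p) (List.mem_range.mpr (pos_lt p)))
  · intro h
    apply List.all_eq_true.mpr
    intro j hj
    rw [List.mem_range] at hj
    have e : pos ((permT g * permT s7) (unpos j)) = pos ((permT s7 ^ k * permT g) (unpos j)) := by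
      rw [h]
    rw [pos_permT_mul hok s7_tblOK, Equiv.Perm.mul_apply, pos_permT_pow s7_tblOK, pos_permT hok,
      pos_unpos j hj] at e
    rw [e]
    exact Nat.beq_refl _

theorem nrmR_spec {g k : ℕ} (hok : tblOK g = true) (h : nrmR g k = true) :
    permT s7 * permT g = permT g * permT s7 ^ k := by
  apply perm_ext_pos
  intro p
  rw [pos_permT_mul s7_tblOK hok, Equiv.Perm.mul_apply, pos_permT hok, pos_permT_pow s7_tblOK]
  exact Nat.eq_of_beq_eq_true (List.all_eq_true.mp h (pos p) (List.mem_range.mpr (pos_lt p)))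

theorem nzE_mem_norm (i : ℕ) (hi : i < 126) :
    nzE i ∈ Subgroup.normalizer ((Subgroup.zpowers sig7 : Subgroup ↥M24) : Set ↥M24) := by
  obtain ⟨hok, hcoe, ⟨k, hk⟩, ⟨k', hk'⟩⟩ := nz_spec i hi
  apply mem_normalizer_zpowers sig7 (nzE i) k k'
  · apply Subtype.ext
    show ((nzE i : ↥M24) : Equiv.Perm GolayPt) * permT s7
      = permT s7 ^ k * ((nzE i : ↥M24) : Equiv.Perm GolayPt)
    rw [hcoe]
    exact (nrmL_spec hok).mp hk
  · apply Subtype.ext
    show permT s7 * ((nzE i : ↥M24) : Equiv.Perm GolayPt)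
      = ((nzE i : ↥M24) : Equiv.Perm GolayPt) * permT s7 ^ k'
    rw [hcoe]
    exact nrmR_spec hok hk'

theorem nzE_inj {i j : ℕ} (hi : i < 126) (hj : j < 126) (h : nzE i = nzE j) : i = j := by
  by_contra hne
  wlog hlt : j < i generalizing i j
  · exact this hj hi h.symm (Ne.symm hne) (by omega)
  have h1 := List.all_eq_true.mp (List.all_eq_true.mp nz_distinct i (List.mem_range.mpr hi)) j
    (List.mem_range.mpr hlt)
  obtain ⟨p, hp, hpne⟩ := List.any_eq_true.mp h1
  rw [List.mem_range] at hp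
  have e : pos (((nzE i : ↥M24) : Equiv.Perm GolayPt) (unpos p))
      = pos (((nzE j : ↥M24) : Equiv.Perm GolayPt) (unpos p)) := by rw [h]
  rw [(nz_spec i hi).2.1, (nz_spec j hj).2.1, pos_permT (nz_spec i hi).1,
    pos_permT (nz_spec j hj).1, pos_unpos p hp] at e
  rw [e, Nat.beq_refl] at hpne
  exact absurd hpne (by decide)

theorem norm_eq :
    ((Subgroup.normalizer ((Subgroup.zpowers sig7 : Subgroup ↥M24) : Set ↥M24) : Subgroup ↥M24)
      : Set ↥M24) = nzE '' ↑(Finset.range 126) := by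
  symm
  apply Set.eq_of_subset_of_ncard_le
  · rintro _ ⟨i, hi, rfl⟩
    exact nzE_mem_norm i (Finset.mem_range.mp (Finset.mem_coe.mp hi))
  · rw [Set.InjOn.ncard_image, Set.ncard_coe_finset, Finset.card_range]
    · have h1 := Subgroup.card_le_of_le norm_le_J5
      have h2 := card_J5_le
      have h3 := Nat.card_coe_set_eq ((Subgroup.normalizer
        ((Subgroup.zpowers sig7 : Subgroup ↥M24) : Set ↥M24) : Subgroup ↥M24) : Set ↥M24)
      rw [← h3]
      exact le_trans h1 h2
    · intro i hi j hj h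
      exact nzE_inj (Finset.mem_range.mp (Finset.mem_coe.mp hi))
        (Finset.mem_range.mp (Finset.mem_coe.mp hj)) h
  · exact Set.toFinite _

theorem nzE_commute_iff (i : ℕ) (hi : i < 126) :
    nzE i * sig7 = sig7 * nzE i ↔ nrmL (nzTab i) 1 = true := by
  obtain ⟨hok, hcoe, -, -⟩ := nz_spec i hi
  rw [nrmL_spec hok, pow_one, ← hcoe]
  constructor
  · intro h
    exact congrArg Subtype.val h
  · intro h
    exact Subtype.ext h

theorem mem_cent_iff (x : ↥M24) :
    x ∈ Subgroup.centralizer ((Subgroup.zpowers sig7 : Subgroup ↥M24) : Set ↥M24)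
      ↔ x * sig7 = sig7 * x := by
  rw [Subgroup.mem_centralizer_iff]
  constructor
  · intro h
    exact (h sig7 (Subgroup.mem_zpowers sig7)).symm
  · intro h y hy
    obtain ⟨z, rfl⟩ := Subgroup.mem_zpowers_iff.mp hy
    have hc : Commute sig7 x := h.symm
    exact (hc.zpow_left z)

theorem cent_eq :
    ((Subgroup.centralizer ((Subgroup.zpowers sig7 : Subgroup ↥M24) : Set ↥M24) : Subgroup ↥M24)
      : Set ↥M24) = nzE '' ↑(Finset.range 42) := by
  ext x
  constructor
  · intro hx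
    have hxN := Subgroup.centralizer_le_normalizer _ hx
    rw [← SetLike.mem_coe, norm_eq] at hxN
    obtain ⟨i, hi, rfl⟩ := hxN
    have hi' := Finset.mem_range.mp (Finset.mem_coe.mp hi)
    have hc := (nzE_commute_iff i hi').mp ((mem_cent_iff _).mp hx)
    refine ⟨i, ?_, rfl⟩
    rw [Finset.mem_coe, Finset.mem_range]
    by_contra hcon
    have h1 := List.all_eq_true.mp nz_ncent (i - 42) (List.mem_range.mpr (by omega))
    have e : i - 42 + 42 = i := by omega
    rw [e, hc] at h1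
    exact absurd h1 (by decide)
  · rintro ⟨i, hi, rfl⟩
    have hi' := Finset.mem_range.mp (Finset.mem_coe.mp hi)
    have h1 := List.all_eq_true.mp nz_cent i (List.mem_range.mpr hi')
    exact (mem_cent_iff _).mpr ((nzE_commute_iff i (by omega)).mpr h1)

theorem nz_noncomm : nzE 1 * nzE 2 ≠ nzE 2 * nzE 1 := by
  intro h
  obtain ⟨hok1, hcoe1, -, -⟩ := nz_spec 1 (by norm_num)
  obtain ⟨hok2, hcoe2, -, -⟩ := nz_spec 2 (by norm_num)
  obtain ⟨j, hj, hne⟩ := List.any_eq_true.mp nz_pair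
  rw [List.mem_range] at hj
  have e : pos (((nzE 1 * nzE 2 : ↥M24) : Equiv.Perm GolayPt) (unpos j))
      = pos (((nzE 2 * nzE 1 : ↥M24) : Equiv.Perm GolayPt) (unpos j)) := by rw [h]
  rw [Subgroup.coe_mul, Subgroup.coe_mul, hcoe1, hcoe2, pos_permT_mul hok1 hok2, pos_permT_mul hok2 hok1, pos_unpos j hj] at e
  rw [e, Nat.beq_refl] at hne
  exact absurd hne (by decide)

/-- The statement for a subgroup. -/
def Stmt5604 (S : Subgroup ↥M24) : Prop :=
  Nat.card ↥(Subgroup.normalizer (S : Set ↥M24)) = 126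
    ∧ Nat.card ↥(Subgroup.centralizer (S : Set ↥M24)) = 42
    ∧ (∃ x ∈ Subgroup.centralizer (S : Set ↥M24), ∃ y ∈ Subgroup.centralizer (S : Set ↥M24),
        x * y ≠ y * x)
    ∧ ∃ T ∈ trios, ∀ n ∈ Subgroup.normalizer (S : Set ↥M24),
        ((n : ↥M24) : Equiv.Perm GolayPt) • T = T

theorem base5604 : Stmt5604 (Subgroup.zpowers sig7) := by
  refine ⟨?_, ?_, ?_, ?_⟩
  · rw [show Nat.card ↥(Subgroup.normalizer ((Subgroup.zpowers sig7 : Subgroup ↥M24) : Set ↥M24))
        = ((Subgroup.normalizer ((Subgroup.zpowers sig7 : Subgroup ↥M24) : Set ↥M24)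
          : Subgroup ↥M24) : Set ↥M24).ncard from Nat.card_coe_set_eq _,
      norm_eq, Set.InjOn.ncard_image, Set.ncard_coe_finset, Finset.card_range]
    intro i hi j hj h
    exact nzE_inj (Finset.mem_range.mp (Finset.mem_coe.mp hi))
      (Finset.mem_range.mp (Finset.mem_coe.mp hj)) h
  · rw [show Nat.card ↥(Subgroup.centralizer ((Subgroup.zpowers sig7 : Subgroup ↥M24) : Set ↥M24))
        = ((Subgroup.centralizer ((Subgroup.zpowers sig7 : Subgroup ↥M24) : Set ↥M24)
          : Subgroup ↥M24) : Set ↥M24).ncard from Nat.card_coe_set_eq _,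
      cent_eq, Set.InjOn.ncard_image, Set.ncard_coe_finset, Finset.card_range]
    intro i hi j hj h
    exact nzE_inj (by have := Finset.mem_range.mp (Finset.mem_coe.mp hi); omega)
      (by have := Finset.mem_range.mp (Finset.mem_coe.mp hj); omega) h
  · have h1 : nzE 1 ∈ Subgroup.centralizer
        ((Subgroup.zpowers sig7 : Subgroup ↥M24) : Set ↥M24) := by
      rw [← SetLike.mem_coe, cent_eq]
      exact ⟨1, by simp, rfl⟩
    have h2 : nzE 2 ∈ Subgroup.centralizer
        ((Subgroup.zpowers sig7 : Subgroup ↥M24) : Set ↥M24) := by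
      rw [← SetLike.mem_coe, cent_eq]
      exact ⟨2, by simp, rfl⟩
    exact ⟨nzE 1, h1, nzE 2, h2, nz_noncomm⟩
  · refine ⟨T5, T5_mem, ?_⟩
    intro n hn
    exact MulAction.mem_stabilizer_iff.mp (norm_le_J5 hn).1

theorem conj5604 (S0 : Subgroup ↥M24) (g : ↥M24) (h0 : Stmt5604 S0) :
    Stmt5604 (S0.map (MulAut.conj g).toMonoidHom) := by
  obtain ⟨hN, hC, ⟨x, hx, y, hy, hxy⟩, T, hT, hfix⟩ := h0
  have eN : Subgroup.normalizer
      ((S0.map (MulAut.conj g).toMonoidHom : Subgroup ↥M24) : Set ↥M24)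
      = (Subgroup.normalizer (S0 : Set ↥M24)).map (MulAut.conj g).toMonoidHom :=
    (Subgroup.map_equiv_normalizer_eq S0 (MulAut.conj g)).symm
  have eC : Subgroup.centralizer
      ((S0.map (MulAut.conj g).toMonoidHom : Subgroup ↥M24) : Set ↥M24)
      = (Subgroup.centralizer (S0 : Set ↥M24)).map (MulAut.conj g).toMonoidHom := by
    ext z
    rw [Subgroup.mem_map_equiv, Subgroup.mem_centralizer_iff, Subgroup.mem_centralizer_iff]
    constructor
    · intro h a ha
      have h1 := h (MulAut.conj g a) (Subgroup.mem_map_of_mem _ ha)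
      rw [MulAut.conj_symm_apply]
      rw [MulAut.conj_apply] at h1
      calc a * (g⁻¹ * z * g) = g⁻¹ * (g * a * g⁻¹ * z) * g := by group
        _ = g⁻¹ * (z * (g * a * g⁻¹)) * g := by rw [h1]
        _ = g⁻¹ * z * g * a := by group
    · rintro h _ ⟨a, ha, rfl⟩
      have h1 := h a ha
      rw [MulAut.conj_symm_apply] at h1
      show g * a * g⁻¹ * z = z * (g * a * g⁻¹)
      calc g * a * g⁻¹ * z = g * (a * (g⁻¹ * z * g)) * g⁻¹ := by group
        _ = g * (g⁻¹ * z * g * a) * g⁻¹ := by rw [h1]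
        _ = z * (g * a * g⁻¹) := by group
  refine ⟨?_, ?_, ?_, ?_⟩
  · rw [eN, Subgroup.card_map_of_injective (MulAut.conj g).injective]
    exact hN
  · rw [eC, Subgroup.card_map_of_injective (MulAut.conj g).injective]
    exact hC
  · refine ⟨MulAut.conj g x, ?_, MulAut.conj g y, ?_, ?_⟩
    · rw [eC]
      exact Subgroup.mem_map_of_mem _ hx
    · rw [eC]
      exact Subgroup.mem_map_of_mem _ hy
    · intro e
      apply hxy
      apply (MulAut.conj g).injective
      simpa using e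
  · refine ⟨(g : Equiv.Perm GolayPt) • T, trios_inv _ g.2 T hT, ?_⟩
    intro n hn
    rw [eN, Subgroup.mem_map_equiv] at hn
    have h1 := hfix _ hn
    have e : (((MulAut.conj g).symm n : ↥M24) : Equiv.Perm GolayPt)
        = (g : Equiv.Perm GolayPt)⁻¹ * (n : Equiv.Perm GolayPt) * (g : Equiv.Perm GolayPt) := by
      simp [MulAut.conj_symm_apply]
    rw [e, mul_smul, mul_smul, inv_smul_eq_iff] at h1
    exact h1

theorem final5604 (S : Subgroup ↥M24) (hS : Nat.card S = 7) : Stmt5604 S := by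
  have := fact7
  have key : ∀ H : Subgroup ↥M24, Nat.card H = 7 →
      ∃ Q : Sylow 7 ↥M24, (Q : Subgroup ↥M24) = H := by
    intro H hH
    have hp : IsPGroup 7 H := IsPGroup.of_card (n := 1) (by rw [hH]; norm_num)
    obtain ⟨Q, hQ⟩ := hp.exists_le_sylow
    refine ⟨Q, ?_⟩
    symm
    apply Subgroup.eq_of_le_of_card_ge hQ
    obtain ⟨k, hk⟩ := IsPGroup.iff_card.mp Q.isPGroup'
    have hdvd := Subgroup.card_subgroup_dvd_card (Q : Subgroup ↥M24)
    rw [hk, card_M24] at hdvd
    have hk1 : k ≤ 1 := by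
      by_contra hcon
      have h1 : 7 ^ 2 ∣ 7 ^ k := pow_dvd_pow 7 (by omega)
      have h2 := h1.trans hdvd
      norm_num at h2
    rw [hk, hH]
    calc 7 ^ k ≤ 7 ^ 1 := Nat.pow_le_pow_right (by norm_num) hk1
      _ = 7 := by norm_num
  obtain ⟨Q, hQ⟩ := key S hS
  obtain ⟨Q0, hQ0⟩ := key (Subgroup.zpowers sig7) card_S7
  obtain ⟨g, hg⟩ := MulAction.exists_smul_eq ↥M24 Q0 Q
  have e : S = (Subgroup.zpowers sig7).map (MulAut.conj g).toMonoidHom := by
    rw [← hQ, ← hg, Sylow.coe_subgroup_smul, hQ0]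
    rfl
  rw [e]
  exact conj5604 _ g base5604

end Cfsg.Agent.Helper1.Golay
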