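import Mathlib
import Cfsg.Agent.Helper1.Sx2882Tab
import Cfsg.Agent.Helper1.Sx5604

set_option autoImplicit false

namespace Cfsg.Agent.Helper1.Golay

open Cfsg
open scoped Pointwise

/-- The base trio. -/
noncomputable def T8 : Finset (Finset GolayPt) := famOf (trioTb 0)

/-- The base sextet. -/
noncomputable def S8 : Finset (Finset GolayPt) := famOf (sextTb 657)

/-- The octads fixed by the central involution. -/
noncomputable def Y8 : Finset (Finset GolayPt) := famOf yL

theorem T8_mem : T8 ∈ trios := trio_isTable.mem 0 (by norm_num)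

theorem S8_mem : S8 ∈ sextets := sext_isTable.mem 657 (by norm_num)

/-- The listed elements. -/
noncomputable def syE (i : ℕ) : ↥M24 := by
  classical
  exact if h : permT (syTab i) ∈ M24 then ⟨permT (syTab i), h⟩ else 1

theorem sy_spec (i : ℕ) (hi : i < 1024) :
    tblOK (syTab i) = true ∧ ((syE i : ↥M24) : Equiv.Perm GolayPt) = permT (syTab i)
      ∧ permT (syTab i) • T8 = T8 ∧ permT (syTab i) • S8 = S8
      ∧ commT (syTab i) tzT = true := by
  have h := List.all_eq_true.mp sy_ok i (List.mem_range.mpr hi)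
  simp only [Bool.and_eq_true] at h
  obtain ⟨⟨⟨⟨hok, hc⟩, hT⟩, hS⟩, hcm⟩ := h
  refine ⟨hok, ?_, ?_, ?_, hcm⟩
  · rw [syE, dif_pos (permT_mem hok hc)]
  · have e1 := famOf_pullFam (permT (syTab i)) (syTab i) (pos_permT hok) (trioTb 0)
    rw [famOf_eq_of_famEq hT] at e1
    exact (inv_smul_eq_iff.mp e1.symm).symm
  · have e1 := famOf_pullFam (permT (syTab i)) (syTab i) (pos_permT hok) (sextTb 657)
    rw [famOf_eq_of_famEq hS] at e1
    exact (inv_smul_eq_iff.mp e1.symm).symm

theorem commT_spec {a b : ℕ} (ha : tblOK a = true) (hb : tblOK b = true) :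
    commT a b = true ↔ permT a * permT b = permT b * permT a := by
  constructor
  · intro h
    apply perm_ext_pos
    intro p
    rw [pos_permT_mul ha hb, pos_permT_mul hb ha]
    exact Nat.eq_of_beq_eq_true (List.all_eq_true.mp h (pos p) (List.mem_range.mpr (pos_lt p)))
  · intro h
    apply List.all_eq_true.mpr
    intro j hj
    rw [List.mem_range] at hj
    have e : pos ((permT a * permT b) (unpos j)) = pos ((permT b * permT a) (unpos j)) := by
      rw [h]
    rw [pos_permT_mul ha hb, pos_permT_mul hb ha, pos_unpos j hj] at e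
    rw [e]
    exact Nat.beq_refl _

theorem tz_ok : tblOK tzT = true := (sy_spec 8 (by norm_num)).1

theorem mem_Y8 (o : Finset GolayPt) : o ∈ Y8 ↔ o ∈ octads ∧ permT tzT • o = o := by
  constructor
  · intro ho
    rw [Y8, mem_famOf] at ho
    obtain ⟨m, hm, rfl⟩ := ho
    rw [yL, List.mem_map] at hm
    obtain ⟨c, hc, rfl⟩ := hm
    have h := List.all_eq_true.mp y_ok c hc
    simp only [Bool.and_eq_true] at h
    exact ⟨octad_of_coord c (Nat.eq_of_beq_eq_true h.1), permT_smul_of_pull' tz_ok h.2⟩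
  · rintro ⟨ho, hfix⟩
    have hX : ({o} : Finset (Finset GolayPt)) ∈ octFam := ⟨o, ho, rfl⟩
    obtain ⟨j, hj, e⟩ := oct_isTable.surj _ hX
    have hgood := oct_isTable.good j hj
    have hl : octTb j = [(octT >>> (24 * j)) &&& 16777215] := rfl
    generalize (octT >>> (24 * j)) &&& 16777215 = m at hl
    rw [hl] at e hgood
    have e' : support₂ (ofBits m) = o := by
      have e2 : famOf [m] = {support₂ (ofBits m)} := by simp [famOf]
      rw [e2] at e
      exact Finset.singleton_injective e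
    have hlt : m < 2 ^ 24 := goodList_lt hgood m (by simp)
    have h1 : pullBits tzT m 24 = m := by
      apply mask_inj (pullBits_lt _ _ 24) hlt
      rw [← permT_inv_smul tz_ok, e', inv_smul_eq_iff]
      exact hfix.symm
    have h2 := List.all_eq_true.mp (List.all_eq_true.mp y_all j (List.mem_range.mpr hj)) m
      (by rw [hl]; simp)
    rw [h1, Nat.beq_refl] at h2
    simp only [Bool.not_true, Bool.false_or] at h2
    obtain ⟨m', hm', hb⟩ := List.any_eq_true.mp h2
    rw [Y8, mem_famOf]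
    exact ⟨m', hm', by rw [Nat.eq_of_beq_eq_true hb]; exact e'⟩

theorem Y8_smul {g : Equiv.Perm GolayPt} (hg : g ∈ M24)
    (hc : g * permT tzT = permT tzT * g) : g • Y8 = Y8 := by
  have hsub : g • Y8 ⊆ Y8 := by
    intro x hx
    obtain ⟨o, ho, rfl⟩ := Finset.mem_smul_finset.mp hx
    obtain ⟨h1, h2⟩ := (mem_Y8 o).mp ho
    refine (mem_Y8 _).mpr ⟨smul_mem_wordsOfWeight hg h1, ?_⟩
    rw [← mul_smul, ← hc, mul_smul, h2]
  exact Finset.eq_of_subset_of_card_le hsub (by rw [Finset.card_smul_finset])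

/-- The subgroup. -/
noncomputable def J8 : Subgroup ↥M24 :=
  MulAction.stabilizer M24 T8 ⊓ MulAction.stabilizer M24
    ((S8, Y8) : Finset (Finset GolayPt) × Finset (Finset GolayPt))

theorem mem_J8 (g : ↥M24) : g ∈ J8 ↔ (g : Equiv.Perm GolayPt) • T8 = T8
    ∧ (g : Equiv.Perm GolayPt) • S8 = S8 ∧ (g : Equiv.Perm GolayPt) • Y8 = Y8 := by
  rw [J8, Subgroup.mem_inf, MulAction.mem_stabilizer_iff, MulAction.mem_stabilizer_iff]
  constructor
  · rintro ⟨h1, h2⟩
    exact ⟨h1, congrArg Prod.fst h2, congrArg Prod.snd h2⟩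
  · rintro ⟨h1, h2, h3⟩
    exact ⟨h1, Prod.ext h2 h3⟩

theorem syE_mem (i : ℕ) (hi : i < 1024) : syE i ∈ J8 := by
  obtain ⟨hok, hcoe, hT, hS, hcm⟩ := sy_spec i hi
  rw [mem_J8, hcoe]
  refine ⟨hT, hS, Y8_smul ?_ ((commT_spec hok tz_ok).mp hcm)⟩
  rw [← hcoe]
  exact (syE i).2

theorem tkey_congr {t t' : ℕ} (h : ∀ j < 24, look t j = look t' j) : tkey t = tkey t' := by
  unfold tkey
  exact List.foldl_ext _ _ _ (fun acc j hj => by rw [h j (List.mem_range.mp hj)])

theorem syE_inj {i j : ℕ} (hi : i < 1024) (hj : j < 1024) (h : syE i = syE j) : i = j := by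
  have hk : tkey (syTab i) = tkey (syTab j) := by
    apply tkey_congr
    intro p hp
    have e : pos (((syE i : ↥M24) : Equiv.Perm GolayPt) (unpos p))
        = pos (((syE j : ↥M24) : Equiv.Perm GolayPt) (unpos p)) := by rw [h]
    rw [(sy_spec i hi).2.1, (sy_spec j hj).2.1, pos_permT (sy_spec i hi).1,
      pos_permT (sy_spec j hj).1, pos_unpos p hp] at e
    exact e
  have hmono : ∀ a b, a < b → b < 1024 → tkey (syTab a) < tkey (syTab b) := by
    intro a b hab hb
    apply lt_of_chain (fun i => tkey (syTab i)) 1024 _ a b hab hb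
    intro k hk
    exact Nat.blt_eq.mp (List.all_eq_true.mp sy_lt k (List.mem_range.mpr (by omega)))
  rcases Nat.lt_trichotomy i j with hlt | heq | hgt
  · exact absurd hk (Nat.ne_of_lt (hmono i j hlt hj))
  · exact heq
  · exact absurd hk.symm (Nat.ne_of_lt (hmono j i hgt hi))

/-! ### The order -/

theorem ts_spec (i : ℕ) (hi : i < 63) :
    tblOK (tsTab i) = true ∧ permT (tsTab i) ∈ M24 ∧ (permT (tsTab i))⁻¹ • T8 = T8
      ∧ goodList (pullFam (tsTab i) (sextTb 657)) = true
      ∧ goodList (pullFam (tsTab i) yL) = true := by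
  have h := List.all_eq_true.mp ts_ok i (List.mem_range.mpr hi)
  simp only [Bool.and_eq_true] at h
  obtain ⟨⟨⟨⟨hok, hc⟩, hf⟩, hg1⟩, hg2⟩ := h
  refine ⟨hok, permT_mem hok hc, ?_, hg1, hg2⟩
  have e1 := famOf_pullFam (permT (tsTab i)) (tsTab i) (pos_permT hok) (trioTb 0)
  rw [famOf_eq_of_famEq hf] at e1
  exact e1.symm

theorem ts_mono (i j : ℕ) (hij : i < j) (hj : j < 63) : tsKey i < tsKey j := by
  apply lt_of_chain tsKey 63 _ i j hij hj
  intro k hk
  exact Nat.blt_eq.mp (List.all_eq_true.mp ts_lt k (List.mem_range.mpr (by omega)))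

theorem card_J8_le : Nat.card ↥J8 ≤ 1024 := by
  have h := card_eq_orbit_mul' (MulAction.stabilizer M24 T8)
    ((S8, Y8) : Finset (Finset GolayPt) × Finset (Finset GolayPt))
  rw [card_stab_trio T8_mem] at h
  have h63 : 63 ≤ {x | ∃ h ∈ MulAction.stabilizer M24 T8,
      h • ((S8, Y8) : Finset (Finset GolayPt) × Finset (Finset GolayPt)) = x}.ncard := by
    have hinj : Set.InjOn (fun i => ((famOf (pullFam (tsTab i) (sextTb 657)),
        famOf (pullFam (tsTab i) yL)) : Finset (Finset GolayPt) × Finset (Finset GolayPt)))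
        (↑(Finset.range 63) : Set ℕ) := by
      intro i hi j hj e
      have hi' := Finset.mem_range.mp (Finset.mem_coe.mp hi)
      have hj' := Finset.mem_range.mp (Finset.mem_coe.mp hj)
      obtain ⟨-, -, -, gi1, gi2⟩ := ts_spec i hi'
      obtain ⟨-, -, -, gj1, gj2⟩ := ts_spec j hj'
      have e1 := keyN_eq_of_famOf_eq gi1 gj1 (congrArg Prod.fst e)
      have e2 := keyN_eq_of_famOf_eq gi2 gj2 (congrArg Prod.snd e)
      have ek : tsKey i = tsKey j := by
        unfold tsKey
        rw [e1, e2]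
      rcases Nat.lt_trichotomy i j with hlt | heq | hgt
      · exact absurd ek (Nat.ne_of_lt (ts_mono i j hlt hj'))
      · exact heq
      · exact absurd ek.symm (Nat.ne_of_lt (ts_mono j i hgt hi'))
    have hsub : (fun i => ((famOf (pullFam (tsTab i) (sextTb 657)),
        famOf (pullFam (tsTab i) yL)) : Finset (Finset GolayPt) × Finset (Finset GolayPt))) ''
        (↑(Finset.range 63) : Set ℕ)
        ⊆ {x | ∃ h ∈ MulAction.stabilizer M24 T8,
          h • ((S8, Y8) : Finset (Finset GolayPt) × Finset (Finset GolayPt)) = x} := by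
      rintro _ ⟨i, hi, rfl⟩
      obtain ⟨hok, hm, hT, -, -⟩ := ts_spec i (Finset.mem_range.mp (Finset.mem_coe.mp hi))
      refine ⟨⟨(permT (tsTab i))⁻¹, inv_mem hm⟩, MulAction.mem_stabilizer_iff.mpr hT, ?_⟩
      show ((permT (tsTab i))⁻¹ • S8, (permT (tsTab i))⁻¹ • Y8) = _
      rw [S8, Y8, ← famOf_pullFam _ _ (pos_permT hok), ← famOf_pullFam _ _ (pos_permT hok)]
    have h1 := Set.ncard_le_ncard hsub (Set.toFinite _)
    rw [Set.InjOn.ncard_image hinj, Set.ncard_coe_finset, Finset.card_range] at h1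
    exact h1
  by_contra hcon
  have h2 : 1025 ≤ Nat.card ↥J8 := by omega
  have h3 := Nat.mul_le_mul h63 h2
  rw [J8] at h3
  omega

theorem J8_eq : (J8 : Set ↥M24) = syE '' ↑(Finset.range 1024) := by
  symm
  apply Set.eq_of_subset_of_ncard_le
  · rintro _ ⟨i, hi, rfl⟩
    exact syE_mem i (Finset.mem_range.mp (Finset.mem_coe.mp hi))
  · rw [Set.InjOn.ncard_image, Set.ncard_coe_finset, Finset.card_range]
    · have h3 := Nat.card_coe_set_eq (J8 : Set ↥M24)
      rw [← h3]
      exact card_J8_le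
    · intro i hi j hj h
      exact syE_inj (Finset.mem_range.mp (Finset.mem_coe.mp hi))
        (Finset.mem_range.mp (Finset.mem_coe.mp hj)) h
  · exact Set.toFinite _

theorem card_J8 : Nat.card ↥J8 = 1024 := by
  rw [show Nat.card ↥J8 = (J8 : Set ↥M24).ncard from Nat.card_coe_set_eq _, J8_eq,
    Set.InjOn.ncard_image, Set.ncard_coe_finset, Finset.card_range]
  intro i hi j hj h
  exact syE_inj (Finset.mem_range.mp (Finset.mem_coe.mp hi))
    (Finset.mem_range.mp (Finset.mem_coe.mp hj)) h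

theorem J8_exists (x : ↥M24) (hx : x ∈ J8) : ∃ i < 1024, x = syE i := by
  rw [← SetLike.mem_coe, J8_eq] at hx
  obtain ⟨i, hi, rfl⟩ := hx
  exact ⟨i, Finset.mem_range.mp (Finset.mem_coe.mp hi), rfl⟩

/-! ### The normaliser -/

theorem syGen_lt (a : ℕ) (ha : a ∈ syGen) : a < 1024 :=
  Nat.blt_eq.mp (List.all_eq_true.mp sy_gen a ha)

theorem J8_trio_unique (X : Finset (Finset GolayPt)) (hX : X ∈ trios)
    (hfix : ∀ a ∈ syGen, ((syE a : ↥M24) : Equiv.Perm GolayPt) • X = X) : X = T8 := by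
  obtain ⟨j, hj, rfl⟩ := trio_isTable.surj X hX
  have h := List.all_eq_true.mp sy_trio_unique j (List.mem_range.mpr hj)
  simp only [Bool.or_eq_true] at h
  rcases h with h | h
  · rw [Nat.eq_of_beq_eq_true h]
    rfl
  · exfalso
    obtain ⟨a, ha, h2⟩ := List.any_eq_true.mp h
    simp only [Bool.and_eq_true] at h2
    obtain ⟨hg, hne⟩ := h2
    obtain ⟨hok, hcoe, -, -, -⟩ := sy_spec a (syGen_lt a ha)
    have hf := hfix a ha
    rw [hcoe] at hf
    have e1 := famOf_pullFam (permT (syTab a)) (syTab a) (pos_permT hok) (trioTb j)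
    have e2 : (permT (syTab a))⁻¹ • famOf (trioTb j) = famOf (trioTb j) := by
      rw [inv_smul_eq_iff]
      exact hf.symm
    rw [e2] at e1
    have e3 := keyN_eq_of_famOf_eq hg (trio_isTable.good j hj) e1
    rw [e3, Nat.beq_refl] at hne
    exact absurd hne (by decide)

theorem J8_sext_unique (X : Finset (Finset GolayPt)) (hX : X ∈ sextets)
    (hfix : ∀ a ∈ syGen, ((syE a : ↥M24) : Equiv.Perm GolayPt) • X = X) : X = S8 := by
  obtain ⟨j, hj, rfl⟩ := sext_isTable.surj X hX
  have h := List.all_eq_true.mp sy_sext_unique j (List.mem_range.mpr hj)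
  simp only [Bool.or_eq_true] at h
  rcases h with h | h
  · rw [Nat.eq_of_beq_eq_true h]
    rfl
  · exfalso
    obtain ⟨a, ha, h2⟩ := List.any_eq_true.mp h
    simp only [Bool.and_eq_true] at h2
    obtain ⟨hg, hne⟩ := h2
    obtain ⟨hok, hcoe, -, -, -⟩ := sy_spec a (syGen_lt a ha)
    have hf := hfix a ha
    rw [hcoe] at hf
    have e1 := famOf_pullFam (permT (syTab a)) (syTab a) (pos_permT hok) (sextTb j)
    have e2 : (permT (syTab a))⁻¹ • famOf (sextTb j) = famOf (sextTb j) := by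
      rw [inv_smul_eq_iff]
      exact hf.symm
    rw [e2] at e1
    have e3 := keyN_eq_of_famOf_eq hg (sext_isTable.good j hj) e1
    rw [e3, Nat.beq_refl] at hne
    exact absurd hne (by decide)

theorem norm_J8_le : Subgroup.normalizer (J8 : Set ↥M24) ≤ J8 := by
  intro n hn
  have hconj : ∀ x ∈ J8, n⁻¹ * x * n ∈ J8 :=
    fun x hx => (Subgroup.mem_normalizer_iff''.mp hn x).mp hx
  have hconj' : ∀ x ∈ J8, n * x * n⁻¹ ∈ J8 :=
    fun x hx => (Subgroup.mem_normalizer_iff.mp hn x).mp hx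
  have hgen : ∀ a ∈ syGen, ∀ F : Finset (Finset GolayPt),
      (∀ x ∈ J8, (x : Equiv.Perm GolayPt) • F = F) →
      ((syE a : ↥M24) : Equiv.Perm GolayPt) • ((n : Equiv.Perm GolayPt) • F)
        = (n : Equiv.Perm GolayPt) • F := by
    intro a ha F hF
    have h1 := hF _ (hconj (syE a) (syE_mem a (syGen_lt a ha)))
    have e : ((n⁻¹ * syE a * n : ↥M24) : Equiv.Perm GolayPt)
        = (n : Equiv.Perm GolayPt)⁻¹ * ((syE a : ↥M24) : Equiv.Perm GolayPt)
          * (n : Equiv.Perm GolayPt) := rfl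
    rw [e, mul_smul, mul_smul, inv_smul_eq_iff] at h1
    exact h1
  have hT : (n : Equiv.Perm GolayPt) • T8 = T8 :=
    J8_trio_unique _ (trios_inv _ n.2 T8 T8_mem)
      (fun a ha => hgen a ha T8 (fun x hx => ((mem_J8 x).mp hx).1))
  have hS : (n : Equiv.Perm GolayPt) • S8 = S8 :=
    J8_sext_unique _ (sextets_inv _ n.2 S8 S8_mem)
      (fun a ha => hgen a ha S8 (fun x hx => ((mem_J8 x).mp hx).2.1))
  have htz : syE 8 ∈ J8 := syE_mem 8 (by norm_num)
  have hcoe8 : ((syE 8 : ↥M24) : Equiv.Perm GolayPt) = permT tzT := (sy_spec 8 (by norm_num)).2.1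
  have hcent : ∀ x ∈ J8, x * syE 8 = syE 8 * x := by
    intro x hx
    obtain ⟨i, hi, rfl⟩ := J8_exists x hx
    obtain ⟨hok, hcoe, -, -, hcm⟩ := sy_spec i hi
    apply Subtype.ext
    show ((syE i : ↥M24) : Equiv.Perm GolayPt) * ((syE 8 : ↥M24) : Equiv.Perm GolayPt)
      = ((syE 8 : ↥M24) : Equiv.Perm GolayPt) * ((syE i : ↥M24) : Equiv.Perm GolayPt)
    rw [hcoe, hcoe8]
    exact (commT_spec hok tz_ok).mp hcm
  have hy := hconj' _ htz
  obtain ⟨i, hi, hi_eq⟩ := J8_exists _ hy
  have hcomm : ∀ a ∈ syGen, syE i * syE a = syE a * syE i := by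
    intro a ha
    rw [← hi_eq]
    have h1 := hcent _ (hconj (syE a) (syE_mem a (syGen_lt a ha)))
    calc n * syE 8 * n⁻¹ * syE a = n * (syE 8 * (n⁻¹ * syE a * n)) * n⁻¹ := by group
      _ = n * (n⁻¹ * syE a * n * syE 8) * n⁻¹ := by rw [h1]
      _ = syE a * (n * syE 8 * n⁻¹) := by group
  have hi2 : i = 0 ∨ i = 8 := by
    have h := List.all_eq_true.mp sy_centre i (List.mem_range.mpr hi)
    simp only [Bool.or_eq_true] at h
    rcases h with (h | h) | h
    · exact Or.inl (Nat.eq_of_beq_eq_true h)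
    · exact Or.inr (Nat.eq_of_beq_eq_true h)
    · exfalso
      obtain ⟨a, ha, hne⟩ := List.any_eq_true.mp h
      have hc := hcomm a ha
      obtain ⟨hoki, hcoei, -, -, -⟩ := sy_spec i hi
      obtain ⟨hoka, hcoea, -, -, -⟩ := sy_spec a (syGen_lt a ha)
      have hc' : permT (syTab i) * permT (syTab a) = permT (syTab a) * permT (syTab i) := by
        rw [← hcoei, ← hcoea]
        exact congrArg Subtype.val hc
      rw [(commT_spec hoki hoka).mpr hc'] at hne
      exact absurd hne (by decide)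
  have hntz : n * syE 8 * n⁻¹ = syE 8 := by
    rcases hi2 with rfl | rfl
    · exfalso
      have h0 : syE 0 = 1 := by
        apply Subtype.ext
        rw [(sy_spec 0 (by norm_num)).2.1]
        have h00 := (permT_pow_eq_one_iff (sy_spec 0 (by norm_num)).1 1).mpr sy_id
        rwa [pow_one] at h00
      rw [h0] at hi_eq
      have h8 : syE 8 = 1 := by
        have e' := congrArg (fun x => n⁻¹ * x * n) hi_eq
        simpa [mul_assoc] using e'
      have h80 := syE_inj (by norm_num) (by norm_num) (h8.trans h0.symm)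
      omega
    · exact hi_eq
  have hcm : (n : Equiv.Perm GolayPt) * permT tzT = permT tzT * (n : Equiv.Perm GolayPt) := by
    have e' : (n : Equiv.Perm GolayPt) * ((syE 8 : ↥M24) : Equiv.Perm GolayPt)
        * (n : Equiv.Perm GolayPt)⁻¹ = ((syE 8 : ↥M24) : Equiv.Perm GolayPt) :=
      congrArg Subtype.val hntz
    rw [hcoe8] at e'
    exact mul_inv_eq_iff_eq_mul.mp e'
  exact (mem_J8 n).mpr ⟨hT, hS, Y8_smul n.2 hcm⟩

theorem sylow2_self_norm (S : Sylow 2 ↥M24) :
    Subgroup.normalizer ((S : Subgroup ↥M24) : Set ↥M24) = (S : Subgroup ↥M24) := by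
  have hp : IsPGroup 2 J8 := IsPGroup.of_card (n := 10) (by rw [card_J8]; norm_num)
  obtain ⟨Q, hQ⟩ := hp.exists_le_sylow
  have hcardQS : Nat.card (Q : Subgroup ↥M24) = Nat.card (S : Subgroup ↥M24) := by
    rw [Sylow.card_eq_multiplicity, Sylow.card_eq_multiplicity]
  have hQ1024 : Nat.card (Q : Subgroup ↥M24) = 1024 := by
    obtain ⟨k, hk⟩ := IsPGroup.iff_card.mp Q.isPGroup'
    have hdvd := Subgroup.card_subgroup_dvd_card (Q : Subgroup ↥M24)
    rw [hk, card_M24] at hdvd
    have hk1 : k ≤ 10 := by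
      by_contra hcon
      have h1 : 2 ^ 11 ∣ 2 ^ k := pow_dvd_pow 2 (by omega)
      have h2 := h1.trans hdvd
      norm_num at h2
    have hge := Subgroup.card_le_of_le hQ
    rw [card_J8, hk] at hge
    have hle : 2 ^ k ≤ 2 ^ 10 := Nat.pow_le_pow_right (by norm_num) hk1
    rw [hk]
    norm_num at hle
    omega
  have hJQ : J8 = (Q : Subgroup ↥M24) :=
    Subgroup.eq_of_le_of_card_ge hQ (by rw [hQ1024, card_J8])
  have hNQ : Subgroup.normalizer ((Q : Subgroup ↥M24) : Set ↥M24) = (Q : Subgroup ↥M24) := by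
    rw [← hJQ]
    exact le_antisymm norm_J8_le Subgroup.le_normalizer
  have h1 : Nat.card (Sylow 2 ↥M24)
      = (Subgroup.normalizer ((Q : Subgroup ↥M24) : Set ↥M24)).index :=
    Sylow.card_eq_index_normalizer Q
  have h2 : Nat.card (Sylow 2 ↥M24)
      = (Subgroup.normalizer ((S : Subgroup ↥M24) : Set ↥M24)).index :=
    Sylow.card_eq_index_normalizer S
  rw [hNQ] at h1
  have h3 : (Subgroup.normalizer ((S : Subgroup ↥M24) : Set ↥M24)).index
      = (Q : Subgroup ↥M24).index := by rw [← h2, h1]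
  have h4 := Subgroup.card_mul_index (Subgroup.normalizer ((S : Subgroup ↥M24) : Set ↥M24))
  have h5 := Subgroup.card_mul_index (Q : Subgroup ↥M24)
  rw [h3] at h4
  have hidx : (Q : Subgroup ↥M24).index ≠ 0 := Subgroup.index_ne_zero_of_finite
  have h6 : Nat.card ↥(Subgroup.normalizer ((S : Subgroup ↥M24) : Set ↥M24))
      = Nat.card (Q : Subgroup ↥M24) :=
    Nat.eq_of_mul_eq_mul_right (Nat.pos_of_ne_zero hidx) (h4.trans h5.symm)
  symm
  exact Subgroup.eq_of_le_of_card_ge Subgroup.le_normalizer (by rw [h6, hcardQS])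

end Cfsg.Agent.Helper1.Golay
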