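import Mathlib
import Cfsg.Agent.Helper1.Sx1603Tab

set_option autoImplicit false
set_option maxRecDepth 1000000

namespace Cfsg.Agent.Helper1.Golay

open Cfsg
open scoped Pointwise

/-- The mask whose stabiliser in the centraliser is the Sylow subgroup. -/
def sX : ℕ := 2

/-- Membership of the `i`-th element in the Sylow subgroup. -/
def sMem (i : ℕ) : Bool := Nat.beq (pullBits (gcTab i) sX 24) sX

/-- The `i`-th element is an involution. -/
def sInv (i : ℕ) : Bool := isId (gcTab i) 2 && !(isId (gcTab i) 1)

/-- Witnesses against normalising. -/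
def sNWT : ℕ := 0x208208208208208208208208208208208208208208208208000000000000000000000000

def sNW (k : ℕ) : ℕ := (sNWT >>> (6 * k)) &&& 63

/-- The generation table. -/
def sGT : ℕ := 0x308c3089308800000000308b0000000030833084308100001248200012c81104

def sP1 (k : ℕ) : ℕ := (sGT >>> (16 * k)) &&& 63

def sP2 (k : ℕ) : ℕ := (sGT >>> (16 * k + 6)) &&& 63

def sLev (k : ℕ) : ℕ := (sGT >>> (16 * k + 12)) &&& 15

/-- The element fusing two elements of order four. -/
def sWT : ℕ := 0x2ceb4b36295ba4c79e06522e418440

def sWC : ℕ := 0xbdb107bfecc64f56398a78d75482aeda27ecc6465739958f381844fe2ea2ba1ff0001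

theorem s_count : ((List.range 48).filter sMem).length = 16 := by
  decide +kernel

theorem s_z : sMem 4 = true := by
  decide +kernel

theorem s_cen : (List.range 48).all (fun j => !(sMem j) || Nat.beq j 0 || Nat.beq j 4
    || (List.range 48).any (fun i => sMem i && !(Nat.beq (gK i j) (gK j i)))) = true := by
  decide +kernel

theorem s_nw : (List.range 48).all (fun k => sMem k
    || (Nat.blt (sNW k) 48 && sMem (sNW k) && (List.range 48).all (fun j =>
      !(sMem j) || !(Nat.beq (gK k (sNW k)) (gK j k))))) = true := by
  decide +kernel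

theorem s_w : (tblOK sWT && chkCode sWT sWC
    && Nat.beq (pullBits sWT 340831 24) 340831 && Nat.beq (look sWT 0) 0
    && sMem 1 && sMem 2
    && (List.range 24).all (fun p =>
      Nat.beq (look sWT (look (gcTab 1) p)) (look (gcTab 2) (look sWT p)))) = true := by
  decide +kernel

theorem s_gen : (List.range 48).all (fun i => !(sMem i) || sInv i
    || (Nat.beq i 2 && Nat.blt (sLev 1) (sLev i))
    || (Nat.blt (sP1 i) 48 && Nat.blt (sP2 i) 48 && sMem (sP1 i) && sMem (sP2 i)
      && Nat.blt (sLev (sP1 i)) (sLev i) && Nat.blt (sLev (sP2 i)) (sLev i)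
      && Nat.beq (gK (sP1 i) (sP2 i)) i)) = true := by
  decide +kernel

end Cfsg.Agent.Helper1.Golay
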