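import Mathlib
import Cfsg.Agent.Helper1.Sx5166Tab
import Cfsg.Agent.Helper1.Sx1603
import Cfsg.Agent.Helper1.FusSimple

set_option autoImplicit false

namespace Cfsg.Agent.Helper1.Golay

open Cfsg
open scoped Pointwise

/-- The Sylow 2-subgroup of the base copy. -/
noncomputable def S11 : Subgroup ↥M11b :=
  C0 ⊓ MulAction.stabilizer ↥M11b (support₂ (ofBits sX))

theorem mem_S11 (g : ↥M11b) : g ∈ S11 ↔ g ∈ C0
    ∧ (((g : ↥M11b) : ↥M24) : Equiv.Perm GolayPt) • support₂ (ofBits sX)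
      = support₂ (ofBits sX) := by
  rw [S11, Subgroup.mem_inf, MulAction.mem_stabilizer_iff]
  rfl

theorem sX_lt : sX < 2 ^ 24 := by decide

theorem cE_mem_S11 (i : ℕ) (hi : i < 48) : cE i ∈ S11 ↔ sMem i = true := by
  rw [mem_S11, cE_coe i hi]
  have hok := gc_tblOK i hi
  constructor
  · rintro ⟨-, h⟩
    have h1 : (permT (gcTab i))⁻¹ • support₂ (ofBits sX) = support₂ (ofBits sX) := by
      rw [inv_smul_eq_iff]
      exact h.symm
    rw [permT_inv_smul hok] at h1
    have h2 := mask_inj (pullBits_lt _ _ 24) sX_lt h1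
    unfold sMem
    rw [h2]
    exact Nat.beq_refl _
  · intro h
    exact ⟨cE_mem_C0 i hi, permT_smul_of_pull' hok h⟩

theorem S11_exists (g : ↥M11b) (hg : g ∈ S11) : ∃ i, i < 48 ∧ sMem i = true ∧ cE i = g := by
  obtain ⟨i, hi, e⟩ := C0_exists ⟨g, ((mem_S11 g).mp hg).1⟩
  have e' : cE i = g := e
  refine ⟨i, hi, ?_, e'⟩
  rw [← cE_mem_S11 i hi, e']
  exact hg

theorem card_S11 : Nat.card ↥S11 = 16 := by
  have e : (S11 : Set ↥M11b) = cE '' ↑((List.range 48).filter sMem).toFinset := by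
    ext g
    constructor
    · intro hg
      obtain ⟨i, hi, hm, e⟩ := S11_exists g hg
      refine ⟨i, ?_, e⟩
      rw [Finset.mem_coe, List.mem_toFinset, List.mem_filter, List.mem_range]
      exact ⟨hi, hm⟩
    · rintro ⟨i, hi, rfl⟩
      rw [Finset.mem_coe, List.mem_toFinset, List.mem_filter, List.mem_range] at hi
      exact (cE_mem_S11 i hi.1).mpr hi.2
  rw [show Nat.card ↥S11 = (S11 : Set ↥M11b).ncard from Nat.card_coe_set_eq _, e,
    Set.InjOn.ncard_image, Set.ncard_coe_finset,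
    List.toFinset_card_of_nodup (List.Nodup.filter _ List.nodup_range)]
  · exact s_count
  · intro i hi j hj h
    rw [Finset.mem_coe, List.mem_toFinset, List.mem_filter, List.mem_range] at hi hj
    exact cE_inj hi.1 hj.1 h

theorem zz_ne_one : zz ≠ 1 := by
  intro h
  have h1 : (((zz : ↥M11b) : ↥M24) : Equiv.Perm GolayPt) = 1 := by
    rw [h]
    rfl
  rw [zz_coe] at h1
  have h2 := gz_ok
  simp only [Bool.and_eq_true] at h2
  have h3 : permT gzT ^ 1 = 1 := by
    rw [pow_one]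
    exact h1
  rw [permT_pow_eq_one_iff gz_tblOK 1] at h3
  rw [h3] at h2
  exact absurd h2.1.2 (by decide)

theorem norm_S11 : Subgroup.normalizer (S11 : Set ↥M11b) ≤ S11 := by
  intro n hn
  rw [Subgroup.mem_normalizer_iff] at hn
  have hz : zz ∈ S11 := (cE_mem_S11 4 (by norm_num)).mpr s_z
  obtain ⟨j, hj, hmj, ej⟩ := S11_exists _ ((hn zz).mp hz)
  have hcomm : ∀ i, i < 48 → sMem i = true → cE i * cE j = cE j * cE i := by
    intro i hi hmi
    have h1 : n⁻¹ * cE i * n ∈ S11 := by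
      rw [hn]
      have e1 : n * (n⁻¹ * cE i * n) * n⁻¹ = cE i := by group
      rw [e1]
      exact (cE_mem_S11 i hi).mpr hmi
    have h2 : n⁻¹ * cE i * n ∈ C0 := ((mem_S11 _).mp h1).1
    have h3 : (n⁻¹ * cE i * n) * zz = zz * (n⁻¹ * cE i * n) :=
      Subgroup.mem_centralizer_singleton_iff.mp h2
    rw [ej]
    calc cE i * (n * zz * n⁻¹) = n * ((n⁻¹ * cE i * n) * zz) * n⁻¹ := by group
      _ = n * (zz * (n⁻¹ * cE i * n)) * n⁻¹ := by rw [h3]
      _ = (n * zz * n⁻¹) * cE i := by group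
  have hj4 : j = 4 := by
    have h := List.all_eq_true.mp s_cen j (List.mem_range.mpr hj)
    simp only [Bool.or_eq_true] at h
    rcases h with ((h | h) | h) | h
    · rw [hmj] at h
      exact absurd h (by decide)
    · exfalso
      have e0 := Nat.eq_of_beq_eq_true h
      rw [e0, cE_zero] at ej
      apply zz_ne_one
      have e1 : zz = n⁻¹ * (n * zz * n⁻¹) * n := by group
      rw [e1, ← ej]
      group
    · exact Nat.eq_of_beq_eq_true h
    · exfalso
      obtain ⟨i, hi, hne⟩ := List.any_eq_true.mp h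
      rw [List.mem_range] at hi
      simp only [Bool.and_eq_true] at hne
      obtain ⟨hmi, hne⟩ := hne
      have h1 := hcomm i hi hmi
      rw [← (gK_spec i j hi hj).2.1, ← (gK_spec j i hj hi).2.1] at h1
      have h2 := cE_inj (gK_spec i j hi hj).1 (gK_spec j i hj hi).1 h1
      rw [h2, Nat.beq_refl] at hne
      exact absurd hne (by decide)
  have hnC : n ∈ C0 := by
    rw [C0, Subgroup.mem_centralizer_singleton_iff]
    rw [hj4] at ej
    have e1 : n * zz * n⁻¹ = zz := ej.symm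
    calc n * zz = (n * zz * n⁻¹) * n := by group
      _ = zz * n := by rw [e1]
  obtain ⟨k, hk, ek⟩ := C0_exists ⟨n, hnC⟩
  have ek' : cE k = n := ek
  by_cases hmk : sMem k = true
  · rw [← ek']
    exact (cE_mem_S11 k hk).mpr hmk
  · exfalso
    have h := List.all_eq_true.mp s_nw k (List.mem_range.mpr hk)
    simp only [Bool.or_eq_true, Bool.and_eq_true] at h
    rcases h with h | ⟨⟨h1, h2⟩, h3⟩
    · exact hmk h
    · have hi := Nat.blt_eq.mp h1
      obtain ⟨j', hj', hmj', ej'⟩ :=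
        S11_exists _ ((hn (cE (sNW k))).mp ((cE_mem_S11 _ hi).mpr h2))
      have h4 : cE k * cE (sNW k) = cE j' * cE k := by
        rw [ej', ek']
        group
      rw [← (gK_spec k (sNW k) hk hi).2.1, ← (gK_spec j' k hj' hk).2.1] at h4
      have h5 := cE_inj (gK_spec k (sNW k) hk hi).1 (gK_spec j' k hj' hk).1 h4
      have h6 := List.all_eq_true.mp h3 j' (List.mem_range.mpr hj')
      rw [hmj', h5, Nat.beq_refl] at h6
      exact absurd h6 (by decide)

theorem cE_order_two (i : ℕ) (hi : i < 48) (h : sInv i = true) : orderOf (cE i) = 2 := by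
  unfold sInv at h
  simp only [Bool.and_eq_true] at h
  have hok := gc_tblOK i hi
  have h2 : cE i ^ 2 = 1 := by
    apply Subtype.ext
    apply Subtype.ext
    rw [Subgroup.coe_pow, Subgroup.coe_pow, cE_coe i hi]
    exact (permT_pow_eq_one_iff hok 2).mpr h.1
  have h1 : cE i ≠ 1 := by
    intro e
    have e1 : (((cE i : ↥M11b) : ↥M24) : Equiv.Perm GolayPt) = 1 := by
      rw [e]
      rfl
    rw [cE_coe i hi] at e1
    have e2 : permT (gcTab i) ^ 1 = 1 := by
      rw [pow_one]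
      exact e1
    rw [permT_pow_eq_one_iff hok 1] at e2
    rw [e2] at h
    exact absurd h.2 (by decide)
  exact orderOf_eq_prime h2 h1

theorem closed_S11 (T : Subgroup ↥M11b) (hTS : T ≤ S11) (hT : T ≠ ⊥)
    (hsc : ∀ x ∈ T, ∀ h : ↥M11b, h * x * h⁻¹ ∈ S11 → h * x * h⁻¹ ∈ T) : T = S11 := by
  have hp : IsPGroup 2 ↥T :=
    (IsPGroup.of_card (n := 4) (by rw [card_S11]; norm_num)).to_le hTS
  obtain ⟨k, hk⟩ := IsPGroup.iff_card.mp hp
  have hk0 : k ≠ 0 := by
    intro h0
    rw [h0, pow_zero] at hk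
    exact hT (Subgroup.card_eq_one.mp hk)
  have hdvd : 2 ∣ Nat.card ↥T := by
    rw [hk]
    exact dvd_pow_self 2 hk0
  obtain ⟨t, ht⟩ := exists_prime_orderOf_dvd_card' 2 hdvd
  have ht2 : orderOf (t : ↥M11b) = 2 := by
    rw [Subgroup.orderOf_coe]
    exact ht
  obtain ⟨v, hv⟩ := conj_to_zz (t : ↥M11b) ht2
  have hinv : ∀ i, i < 48 → sMem i = true → sInv i = true → cE i ∈ T := by
    intro i hi hm hs
    obtain ⟨w, hw⟩ := conj_to_zz (cE i) (cE_order_two i hi hs)
    have e : cE i = (w⁻¹ * v) * (t : ↥M11b) * (w⁻¹ * v)⁻¹ := by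
      have e1 : cE i = w⁻¹ * (w * cE i * w⁻¹) * w := by group
      rw [e1, hw, ← hv]
      group
    rw [e]
    apply hsc _ t.2
    rw [← e]
    exact (cE_mem_S11 i hi).mpr hm
  have hw := s_w
  simp only [Bool.and_eq_true] at hw
  obtain ⟨⟨⟨⟨⟨⟨hok, hc⟩, hd⟩, hp0⟩, hm1⟩, hm2⟩, hconj⟩ := hw
  have hfus : mk11 sWT * cE 1 = cE 2 * mk11 sWT := by
    apply Subtype.ext
    apply Subtype.ext
    simp only [Subgroup.coe_mul]
    rw [mk11_coe hok hc hd hp0, cE_coe 1 (by norm_num), cE_coe 2 (by norm_num)]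
    apply perm_ext_pos
    intro p
    rw [pos_permT_mul hok (gc_tblOK 1 (by norm_num)),
      pos_permT_mul (gc_tblOK 2 (by norm_num)) hok]
    exact Nat.eq_of_beq_eq_true (List.all_eq_true.mp hconj (pos p) (List.mem_range.mpr (pos_lt p)))
  have hall : ∀ n i, i < 48 → sMem i = true → sLev i = n → cE i ∈ T := by
    intro n
    induction n using Nat.strong_induction_on with
    | _ n ih =>
      intro i hi hm hl
      have h := List.all_eq_true.mp s_gen i (List.mem_range.mpr hi)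
      simp only [Bool.or_eq_true, Bool.and_eq_true] at h
      rcases h with ((h | h) | ⟨h1, h2⟩) | ⟨⟨⟨⟨⟨⟨a1, a2⟩, a3⟩, a4⟩, a5⟩, a6⟩, a7⟩
      · rw [hm] at h
        exact absurd h (by decide)
      · exact hinv i hi hm h
      · have e2 := Nat.eq_of_beq_eq_true h1
        have hl1 := Nat.blt_eq.mp h2
        have h1T : cE 1 ∈ T := ih (sLev 1) (by omega) 1 (by norm_num) hm1 rfl
        rw [e2]
        have e : cE 2 = mk11 sWT * cE 1 * (mk11 sWT)⁻¹ := by
          rw [hfus]
          group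
        rw [e]
        apply hsc _ h1T
        rw [← e]
        exact (cE_mem_S11 2 (by norm_num)).mpr hm2
      · have b1 := Nat.blt_eq.mp a1
        have b2 := Nat.blt_eq.mp a2
        have b5 := Nat.blt_eq.mp a5
        have b6 := Nat.blt_eq.mp a6
        have e := (gK_spec _ _ b1 b2).2.1
        rw [Nat.eq_of_beq_eq_true a7] at e
        rw [e]
        exact mul_mem (ih _ (by omega) _ b1 a3 rfl) (ih _ (by omega) _ b2 a4 rfl)
  apply le_antisymm hTS
  intro g hg
  obtain ⟨i, hi, hm, e⟩ := S11_exists g hg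
  rw [← e]
  exact hall (sLev i) i hi hm rfl

/-! ### The comparison with the frozen definition -/

theorem squareDodecad_eq : Cfsg.Spor.squareDodecad = support₂ (ofBits 340831) := by
  unfold Cfsg.Spor.squareDodecad
  rw [show qrWord 0 = ofBits (qbits (0 : ZMod 23).val) from funext (qrWord_eq_ofBits 0)]
  rfl

theorem unpos_zero : unpos 0 = (some 0 : GolayPt) := by decide

theorem mem_SporM11 (g : Equiv.Perm GolayPt) : g ∈ Cfsg.Spor.M11 ↔ g ∈ M24
    ∧ g • support₂ (ofBits 340831) = support₂ (ofBits 340831) ∧ g (unpos 0) = unpos 0 := by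
  unfold Cfsg.Spor.M11 Cfsg.Spor.M12
  rw [Subgroup.mem_inf, Subgroup.mem_inf, MulAction.mem_stabilizer_iff,
    MulAction.mem_stabilizer_iff, squareDodecad_eq, unpos_zero]
  constructor
  · rintro ⟨⟨h1, h2⟩, h3⟩
    exact ⟨h1, h2, h3⟩
  · rintro ⟨h1, h2, h3⟩
    exact ⟨⟨h1, h2⟩, h3⟩

/-- The base copy is the frozen group. -/
noncomputable def iotaM11 : ↥M11b ≃* ↥Cfsg.Spor.M11 where
  toFun m := ⟨((m : ↥M24) : Equiv.Perm GolayPt),
    (mem_SporM11 _).mpr ⟨(m : ↥M24).2, (mem_M11b (m : ↥M24)).mp m.2⟩⟩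
  invFun g := ⟨⟨(g : Equiv.Perm GolayPt), ((mem_SporM11 _).mp g.2).1⟩,
    (mem_M11b _).mpr ((mem_SporM11 _).mp g.2).2⟩
  left_inv m := rfl
  right_inv g := rfl
  map_mul' a b := rfl

theorem final5166 (S : Sylow 2 ↥Cfsg.Spor.M11) :
    (groupFusionSystem (S : Subgroup ↥Cfsg.Spor.M11)).IsSimple 2 :=
  Cfsg.Agent.Helper1.fusion_simple_transfer iotaM11 4 7920 (by norm_num) card_M11b
    (by norm_num) S11 card_S11 norm_S11 closed_S11 S

end Cfsg.Agent.Helper1.Golay
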