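import Mathlib
import Cfsg.Agent.Helper1.Sx2060Tab
import Cfsg.Agent.Helper1.Sx5166
import Cfsg.Agent.Helper1.Sx2882

set_option autoImplicit false

namespace Cfsg.Agent.Helper1.Golay

open Cfsg
open scoped Pointwise

theorem pos_prod_permT (ts : List ℕ) (h : ∀ t ∈ ts, tblOK t = true) (p : GolayPt) :
    pos ((ts.map permT).prod p) = lookW ts (pos p) := by
  induction ts with
  | nil => rfl
  | cons t ts ih =>
    rw [List.map_cons, List.prod_cons, Equiv.Perm.mul_apply,
      pos_permT (h t List.mem_cons_self), ih (fun t' ht' => h t' (List.mem_cons_of_mem _ ht'))]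
    rfl

theorem isIdW_iff (ts : List ℕ) (h : ∀ t ∈ ts, tblOK t = true) :
    isIdW ts = true ↔ (ts.map permT).prod = 1 := by
  constructor
  · intro hi
    apply perm_ext_pos
    intro p
    rw [pos_prod_permT ts h]
    exact Nat.eq_of_beq_eq_true (List.all_eq_true.mp hi (pos p) (List.mem_range.mpr (pos_lt p)))
  · intro e
    apply List.all_eq_true.mpr
    intro j hj
    rw [List.mem_range] at hj
    have e1 := pos_prod_permT ts h (unpos j)
    rw [e, Equiv.Perm.one_apply, pos_unpos j hj] at e1
    rw [← e1]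
    exact Nat.beq_refl _

/-- The coercion to permutations. -/
noncomputable def cc11 : ↥M11b →* Equiv.Perm GolayPt := (Subgroup.subtype M24).comp (Subgroup.subtype M11b)

theorem cc11_inj : Function.Injective cc11 :=
  (Subgroup.subtype_injective M24).comp (Subgroup.subtype_injective M11b)

theorem cc11_apply (g : ↥M11b) : cc11 g = (((g : ↥M11b) : ↥M24) : Equiv.Perm GolayPt) := rfl

/-- The relations between an involution and the second generator. -/
def Rel11 {G : Type*} [Group G] (x y : G) : Prop :=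
  y ^ 4 = 1 ∧ (x * y) ^ 11 = 1 ∧ (x * y * x * y * y * x * y * y * y) ^ 3 = 1

theorem rel11_map {G : Type*} [Group G] (β : MulAut G) (x y : G) (h : Rel11 x y) :
    Rel11 (β x) (β y) := by
  obtain ⟨h1, h2, h3⟩ := h
  refine ⟨?_, ?_, ?_⟩
  · rw [← map_pow, h1, map_one]
  · rw [← map_mul, ← map_pow, h2, map_one]
  · have e : β x * β y * β x * β y * β y * β x * β y * β y * β y
        = β (x * y * x * y * y * x * y * y * y) := by simp only [map_mul]
    rw [e, ← map_pow, h3, map_one]

theorem rel11_iff (x y : ↥M11b) (tx ty : ℕ) (hx : cc11 x = permT tx) (hy : cc11 y = permT ty)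
    (hokx : tblOK tx = true) (hoky : tblOK ty = true) :
    Rel11 x y ↔ relOK tx ty = true := by
  have hmem : ∀ t ∈ [tx, ty], tblOK t = true := by
    intro t ht
    rcases List.mem_cons.mp ht with rfl | ht
    · exact hokx
    · rcases List.mem_cons.mp ht with rfl | ht
      · exact hoky
      · exact absurd ht (List.not_mem_nil)
  have h1 : ∀ t ∈ w1 ty, tblOK t = true := by
    intro t ht
    apply hmem
    simp only [w1, List.mem_cons, List.not_mem_nil, or_false] at ht
    simp only [List.mem_cons, List.not_mem_nil, or_false]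
    tauto
  have h2 : ∀ t ∈ w2 tx ty, tblOK t = true := by
    intro t ht
    apply hmem
    simp only [w2, List.mem_cons, List.not_mem_nil, or_false] at ht
    simp only [List.mem_cons, List.not_mem_nil, or_false]
    tauto
  have h3 : ∀ t ∈ w3 tx ty, tblOK t = true := by
    intro t ht
    apply hmem
    simp only [w3, List.mem_cons, List.not_mem_nil, or_false] at ht
    simp only [List.mem_cons, List.not_mem_nil, or_false]
    tauto
  have e1 : y ^ 4 = 1 ↔ ((w1 ty).map permT).prod = 1 := by
    rw [← map_eq_one_iff cc11 cc11_inj, map_pow, hy]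
    simp only [w1, List.map_cons, List.map_nil, List.prod_cons, List.prod_nil, mul_one,
      pow_succ, pow_zero, one_mul, mul_assoc]
  have e2 : (x * y) ^ 11 = 1 ↔ ((w2 tx ty).map permT).prod = 1 := by
    rw [← map_eq_one_iff cc11 cc11_inj, map_pow, map_mul, hx, hy]
    simp only [w2, List.map_cons, List.map_nil, List.prod_cons, List.prod_nil, mul_one,
      pow_succ, pow_zero, one_mul, mul_assoc]
  have e3 : (x * y * x * y * y * x * y * y * y) ^ 3 = 1
      ↔ ((w3 tx ty).map permT).prod = 1 := by
    rw [← map_eq_one_iff cc11 cc11_inj, map_pow]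
    simp only [map_mul, hx, hy]
    simp only [w3, List.map_cons, List.map_nil, List.prod_cons, List.prod_nil, mul_one,
      pow_succ, pow_zero, one_mul, mul_assoc]
  unfold Rel11 relOK
  rw [e1, e2, e3, Bool.and_eq_true, Bool.and_eq_true, isIdW_iff _ h1, isIdW_iff _ h2,
    isIdW_iff _ h3, and_assoc]

/-- The second generator. -/
noncomputable def bb11 : ↥M11b := mk11 ebT

theorem eb_spec : tblOK ebT = true ∧ cc11 bb11 = permT ebT := by
  have h := eb_ok
  simp only [Bool.and_eq_true] at h
  obtain ⟨⟨⟨hok, hc⟩, hd⟩, hp⟩ := h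
  exact ⟨hok, mk11_coe hok hc hd hp⟩

theorem zz_cc : cc11 zz = permT gzT := zz_coe

theorem rel_zz_bb : Rel11 zz bb11 :=
  (rel11_iff zz bb11 gzT ebT zz_cc eb_spec.2 gz_tblOK eb_spec.1).mpr eb_rel

theorem e_chk (k : ℕ) (hk : k < 7920) : eChk k = true := by
  have h := List.all_eq_true.mp (List.all_eq_true.mp e_ok (k / 88)
    (List.mem_range.mpr (by omega))) (k % 88) (List.mem_range.mpr (Nat.mod_lt _ (by norm_num)))
  have e : 88 * (k / 88) + k % 88 = k := Nat.div_add_mod k 88
  rw [e] at h
  exact h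

theorem e_ex : ∀ n k, k < 7920 → eD k = n → tblOK (eTab k) = true
    ∧ ∃ h : ↥M11b, h ∈ Subgroup.closure ({zz, bb11} : Set ↥M11b) ∧ cc11 h = permT (eTab k) := by
  intro n
  induction n using Nat.strong_induction_on with
  | _ n ih =>
    intro k hk hd
    have h := e_chk k hk
    unfold eChk at h
    simp only [Bool.and_eq_true, Bool.or_eq_true] at h
    obtain ⟨hok, h⟩ := h
    refine ⟨hok, ?_⟩
    rcases h with h | ⟨⟨h1, h2⟩, h3⟩
    · have hk0 : k = 0 := Nat.eq_of_beq_eq_true h
      subst hk0
      refine ⟨1, one_mem _, ?_⟩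
      rw [map_one]
      have h00 := (permT_pow_eq_one_iff hok 1).mpr e_root
      rw [pow_one] at h00
      exact h00.symm
    · have c1 := Nat.blt_eq.mp h1
      have c2 := Nat.blt_eq.mp h2
      obtain ⟨hokp, hp, hpm, hpc⟩ := ih _ (by omega) _ c1 rfl
      by_cases hg : Nat.beq (eG k) 0 = true
      · rw [if_pos hg] at h3
        refine ⟨hp * zz, mul_mem hpm (Subgroup.subset_closure (by simp)), ?_⟩
        rw [map_mul, hpc, zz_cc]
        apply perm_ext_pos
        intro p
        rw [pos_permT_mul hokp gz_tblOK, pos_permT hok]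
        exact (Nat.eq_of_beq_eq_true
          (List.all_eq_true.mp h3 (pos p) (List.mem_range.mpr (pos_lt p)))).symm
      · rw [if_neg hg] at h3
        refine ⟨hp * bb11, mul_mem hpm (Subgroup.subset_closure (by simp)), ?_⟩
        rw [map_mul, hpc, eb_spec.2]
        apply perm_ext_pos
        intro p
        rw [pos_permT_mul hokp eb_spec.1, pos_permT hok]
        exact (Nat.eq_of_beq_eq_true
          (List.all_eq_true.mp h3 (pos p) (List.mem_range.mpr (pos_lt p)))).symm

/-- The listed elements. -/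
noncomputable def eE (k : ℕ) : ↥M11b := by
  classical
  exact if h : k < 7920 then Classical.choose (e_ex _ k h rfl).2 else 1

theorem eE_spec (k : ℕ) (hk : k < 7920) : tblOK (eTab k) = true
    ∧ eE k ∈ Subgroup.closure ({zz, bb11} : Set ↥M11b) ∧ cc11 (eE k) = permT (eTab k) := by
  have h := Classical.choose_spec (e_ex _ k hk rfl).2
  rw [eE, dif_pos hk]
  exact ⟨(e_ex _ k hk rfl).1, h.1, h.2⟩

theorem e_mono (a b : ℕ) (hab : a < b) (hb : b < 7920) : tkey (eTab a) < tkey (eTab b) := by
  apply lt_of_chain (fun i => tkey (eTab i)) 7920 _ a b hab hb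
  intro k hk
  have h := List.all_eq_true.mp (List.all_eq_true.mp e_lt (k / 88)
    (List.mem_range.mpr (by omega))) (k % 88) (List.mem_range.mpr (Nat.mod_lt _ (by norm_num)))
  have e : 88 * (k / 88) + k % 88 = k := Nat.div_add_mod k 88
  rw [e] at h
  simp only [Bool.or_eq_true] at h
  rcases h with h | h
  · have := Nat.eq_of_beq_eq_true h
    omega
  · exact Nat.blt_eq.mp h

theorem eE_inj {i j : ℕ} (hi : i < 7920) (hj : j < 7920) (h : eE i = eE j) : i = j := by
  have hk : tkey (eTab i) = tkey (eTab j) := by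
    apply tkey_congr
    intro p hp
    have e : pos (cc11 (eE i) (unpos p)) = pos (cc11 (eE j) (unpos p)) := by rw [h]
    rw [(eE_spec i hi).2.2, (eE_spec j hj).2.2, pos_permT (eE_spec i hi).1,
      pos_permT (eE_spec j hj).1, pos_unpos p hp] at e
    exact e
  rcases Nat.lt_trichotomy i j with hlt | heq | hgt
  · exact absurd hk (Nat.ne_of_lt (e_mono i j hlt hj))
  · exact heq
  · exact absurd hk.symm (Nat.ne_of_lt (e_mono j i hgt hi))

theorem e_all (g : ↥M11b) : ∃ k, k < 7920 ∧ g = eE k := by
  have e : eE '' ↑(Finset.range 7920) = (Set.univ : Set ↥M11b) := by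
    apply Set.eq_of_subset_of_ncard_le (Set.subset_univ _)
    · rw [Set.InjOn.ncard_image, Set.ncard_coe_finset, Finset.card_range, Set.ncard_univ,
        card_M11b]
      intro i hi j hj h
      exact eE_inj (Finset.mem_range.mp (Finset.mem_coe.mp hi))
        (Finset.mem_range.mp (Finset.mem_coe.mp hj)) h
  have hg : g ∈ eE '' ↑(Finset.range 7920) := by
    rw [e]
    exact Set.mem_univ g
  obtain ⟨k, hk, rfl⟩ := hg
  exact ⟨k, Finset.mem_range.mp (Finset.mem_coe.mp hk), rfl⟩

theorem gen11_top : Subgroup.closure ({zz, bb11} : Set ↥M11b) = ⊤ := by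
  rw [eq_top_iff]
  intro g _
  obtain ⟨k, hk, rfl⟩ := e_all g
  exact (eE_spec k hk).2.1

theorem zz_order : orderOf zz = 2 := by
  have h2 : zz ^ 2 = 1 := by
    apply cc11_inj
    rw [map_pow, zz_cc, map_one]
    have h := gz_ok
    simp only [Bool.and_eq_true] at h
    exact (permT_pow_eq_one_iff gz_tblOK 2).mpr h.1.1
  exact orderOf_eq_prime h2 zz_ne_one

theorem aut_inner11 (α : MulAut ↥M11b) : ∃ g : ↥M11b, α = MulAut.conj g := by
  have hz2 : orderOf (α zz) = 2 := by
    rw [MulEquiv.orderOf_eq]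
    exact zz_order
  obtain ⟨v, hv⟩ := conj_to_zz (α zz) hz2
  have hβz : (MulAut.conj v * α) zz = zz := by
    rw [MulAut.mul_apply, MulAut.conj_apply]
    exact hv
  obtain ⟨k, hk, ek⟩ := e_all ((MulAut.conj v * α) bb11)
  obtain ⟨hokk, -, hcck⟩ := eE_spec k hk
  have hrel := rel11_map (MulAut.conj v * α) zz bb11 rel_zz_bb
  rw [hβz, ek] at hrel
  have hrel' := (rel11_iff zz (eE k) gzT (eTab k) zz_cc hcck gz_tblOK hokk).mp hrel
  have h := List.all_eq_true.mp (List.all_eq_true.mp e_rel (k / 88)
    (List.mem_range.mpr (by omega))) (k % 88) (List.mem_range.mpr (Nat.mod_lt _ (by norm_num)))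
  have e : 88 * (k / 88) + k % 88 = k := Nat.div_add_mod k 88
  rw [e] at h
  unfold eRel at h
  rw [hrel'] at h
  simp only [Bool.not_true, Bool.false_or] at h
  obtain ⟨c, hc, hcb⟩ := List.any_eq_true.mp h
  rw [List.mem_range] at hc
  have hcb' : cE c * bb11 = eE k * cE c := by
    apply cc11_inj
    rw [map_mul, map_mul, hcck, eb_spec.2, cc11_apply, cE_coe c hc]
    apply perm_ext_pos
    intro p
    rw [pos_permT_mul (gc_tblOK c hc) eb_spec.1, pos_permT_mul hokk (gc_tblOK c hc)]
    exact Nat.eq_of_beq_eq_true (List.all_eq_true.mp hcb (pos p) (List.mem_range.mpr (pos_lt p)))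
  have hcz : cE c * zz = zz * cE c := by
    apply cc11_inj
    rw [map_mul, map_mul, zz_cc, cc11_apply]
    exact (mem_C0 (cE c)).mp (cE_mem_C0 c hc)
  have hβ : MulAut.conj v * α = MulAut.conj (cE c) := by
    apply MulEquiv.toMonoidHom_injective
    apply MonoidHom.eq_of_eqOn_dense gen11_top
    intro x hx
    rcases hx with rfl | rfl
    · show (MulAut.conj v * α) zz = MulAut.conj (cE c) zz
      rw [hβz, MulAut.conj_apply, hcz]
      group
    · show (MulAut.conj v * α) bb11 = MulAut.conj (cE c) bb11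
      rw [ek, MulAut.conj_apply, hcb']
      group
  refine ⟨v⁻¹ * cE c, ?_⟩
  rw [map_mul, ← hβ, map_inv, inv_mul_cancel_left]

/-- Transfer of innerness along an isomorphism. -/
theorem inn_transfer {G G' : Type*} [Group G] [Group G'] (ι : G ≃* G')
    (h : ∀ α : MulAut G, ∃ g : G, α = MulAut.conj g) (α' : MulAut G') :
    ∃ g' : G', α' = MulAut.conj g' := by
  obtain ⟨g, hg⟩ := h (ι.trans (α'.trans ι.symm))
  refine ⟨ι g, ?_⟩
  ext x'
  have h1 : (ι.trans (α'.trans ι.symm)) (ι.symm x') = MulAut.conj g (ι.symm x') := by rw [hg]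
  rw [MulEquiv.trans_apply, MulEquiv.trans_apply, MulEquiv.apply_symm_apply,
    MulAut.conj_apply] at h1
  have h2 := congrArg ι h1
  rw [MulEquiv.apply_symm_apply, map_mul, map_mul, MulEquiv.apply_symm_apply, map_inv] at h2
  rw [MulAut.conj_apply]
  exact h2

theorem out_card_one {G : Type*} [Group G] (h : ∀ α : MulAut G, ∃ g : G, α = MulAut.conj g) :
    Nat.card (Cfsg.Out G) = 1 := by
  show (Cfsg.Inn G).index = 1
  rw [Subgroup.index_eq_one, eq_top_iff]
  intro α _
  obtain ⟨g, hg⟩ := h α
  exact ⟨g, hg.symm⟩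

theorem final2060 : Nat.card (Cfsg.Out ↥Cfsg.Spor.M11) = 1 :=
  out_card_one (inn_transfer iotaM11 aut_inner11)

end Cfsg.Agent.Helper1.Golay
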