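import Mathlib
import Cfsg.Agent.Helper1.Sx2061Data

set_option autoImplicit false
set_option maxRecDepth 1000000

namespace Cfsg.Agent.Helper1.Golay

/-- The check of one entry of the tree. -/
def fChk (k : ℕ) : Bool := force (fTab k) (fun t => force (fQ k) (fun q =>
  force (fTab (q &&& 131071)) (fun tp => force (fQ (q &&& 131071)) (fun qp =>
    Nat.beq k fK0 || (Nat.blt (q &&& 131071) 95040
      && Nat.blt ((qp >>> 18) &&& 255) ((q >>> 18) &&& 255)
      && (List.range 24).all (fun p => Nat.beq (look t p)
        (look tp (look (if Nat.beq ((q >>> 17) &&& 1) 0 then fzT else fbT) p))))))))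

/-- A slice of the check. -/
def fOkP (j : ℕ) : Bool := (List.range 10).all (fun a => (List.range 297).all (fun c =>
  fChk (297 * (10 * j + a) + c)))

theorem f_ok_0 : fOkP 0 = true := by
  decide +kernel

theorem f_ok_1 : fOkP 1 = true := by
  decide +kernel

theorem f_ok_2 : fOkP 2 = true := by
  decide +kernel

theorem f_ok_3 : fOkP 3 = true := by
  decide +kernel

theorem f_ok_4 : fOkP 4 = true := by
  decide +kernel

theorem f_ok_5 : fOkP 5 = true := by
  decide +kernel

theorem f_ok_6 : fOkP 6 = true := by
  decide +kernel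

theorem f_ok_7 : fOkP 7 = true := by
  decide +kernel

theorem f_ok_8 : fOkP 8 = true := by
  decide +kernel

theorem f_ok_9 : fOkP 9 = true := by
  decide +kernel

theorem f_ok_10 : fOkP 10 = true := by
  decide +kernel

theorem f_ok_11 : fOkP 11 = true := by
  decide +kernel

theorem f_ok_12 : fOkP 12 = true := by
  decide +kernel

theorem f_ok_13 : fOkP 13 = true := by
  decide +kernel

theorem f_ok_14 : fOkP 14 = true := by
  decide +kernel

theorem f_ok_15 : fOkP 15 = true := by
  decide +kernel

theorem f_ok_16 : fOkP 16 = true := by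
  decide +kernel

theorem f_ok_17 : fOkP 17 = true := by
  decide +kernel

theorem f_ok_18 : fOkP 18 = true := by
  decide +kernel

theorem f_ok_19 : fOkP 19 = true := by
  decide +kernel

theorem f_ok_20 : fOkP 20 = true := by
  decide +kernel

theorem f_ok_21 : fOkP 21 = true := by
  decide +kernel

theorem f_ok_22 : fOkP 22 = true := by
  decide +kernel

theorem f_ok_23 : fOkP 23 = true := by
  decide +kernel

theorem f_ok_24 : fOkP 24 = true := by
  decide +kernel

theorem f_ok_25 : fOkP 25 = true := by
  decide +kernel

theorem f_ok_26 : fOkP 26 = true := by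
  decide +kernel

theorem f_ok_27 : fOkP 27 = true := by
  decide +kernel

theorem f_ok_28 : fOkP 28 = true := by
  decide +kernel

theorem f_ok_29 : fOkP 29 = true := by
  decide +kernel

theorem f_ok_30 : fOkP 30 = true := by
  decide +kernel

theorem f_ok_31 : fOkP 31 = true := by
  decide +kernel


theorem f_okP (j : ℕ) (hj : j < 32) : fOkP j = true := by
  interval_cases j
  · exact f_ok_0
  · exact f_ok_1
  · exact f_ok_2
  · exact f_ok_3
  · exact f_ok_4
  · exact f_ok_5
  · exact f_ok_6
  · exact f_ok_7
  · exact f_ok_8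
  · exact f_ok_9
  · exact f_ok_10
  · exact f_ok_11
  · exact f_ok_12
  · exact f_ok_13
  · exact f_ok_14
  · exact f_ok_15
  · exact f_ok_16
  · exact f_ok_17
  · exact f_ok_18
  · exact f_ok_19
  · exact f_ok_20
  · exact f_ok_21
  · exact f_ok_22
  · exact f_ok_23
  · exact f_ok_24
  · exact f_ok_25
  · exact f_ok_26
  · exact f_ok_27
  · exact f_ok_28
  · exact f_ok_29
  · exact f_ok_30
  · exact f_ok_31

end Cfsg.Agent.Helper1.Golay
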