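import Mathlib
import Cfsg.Agent.Helper1.Sx2061Data
import Cfsg.Agent.Helper1.Sx5167Tab
import Cfsg.Agent.Helper1.Sx2060Tab

set_option autoImplicit false
set_option maxRecDepth 1000000

namespace Cfsg.Agent.Helper1.Golay

/-- The words of the relations. -/
def v1 (t : ℕ) : List ℕ := [t, t, t]

def v2 (z t : ℕ) : List ℕ := [z, t, z, t, z, t, z, t, z, t, z, t, z, t, z, t, z, t, z, t, z, t]

def v3 (z t : ℕ) : List ℕ := [z, t, z, t, t, z, t, z, t, t, z, t, z, t, t, z, t, z, t, t, z, t, z, t, t, z, t, z, t, t]

def vsel (r z t : ℕ) : List ℕ := if r = 0 then v1 t else if r = 1 then v2 z t else v3 z t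

def relOK12 (z t : ℕ) : Bool := isIdW (v1 t) && isIdW (v2 z t) && isIdW (v3 z t)

/-- The check of the images of the second generator. -/
def fRel (k : ℕ) : Bool := force (fTab k) (fun t => force (fQ k) (fun q =>
  (Nat.beq ((q >>> 26) &&& 1) 1 && Nat.blt ((q >>> 34) &&& 255) 192
    && ((Nat.beq ((q >>> 42) &&& 1) 0 && (List.range 24).all (fun p =>
        Nat.beq (look t (look (dcTab ((q >>> 34) &&& 255)) p))
          (look (dcTab ((q >>> 34) &&& 255)) (look fbT p))))
      || (Nat.beq ((q >>> 42) &&& 1) 1 && (List.range 24).all (fun p =>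
        Nat.beq (look t (look (dcTab ((q >>> 34) &&& 255)) (look g0T p)))
          (look (dcTab ((q >>> 34) &&& 255)) (look g0T (look fbT p)))))))
  || (Nat.beq ((q >>> 26) &&& 1) 0 && Nat.blt ((q >>> 29) &&& 31) 24
    && !(Nat.beq (lookW (vsel ((q >>> 27) &&& 3) fzT t) ((q >>> 29) &&& 31))
      ((q >>> 29) &&& 31)))))

/-- Slices of the checks. -/
def fLtP (j : ℕ) : Bool := (List.range 10).all (fun a => (List.range 297).all (fun c =>
  Nat.beq (297 * (10 * j + a) + c) 95039
    || Nat.blt (fTab (297 * (10 * j + a) + c)) (fTab (297 * (10 * j + a) + c + 1))))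

def fRelP (j : ℕ) : Bool := (List.range 10).all (fun a => (List.range 297).all (fun c =>
  fRel (297 * (10 * j + a) + c)))

theorem f_lt_0 : fLtP 0 = true := by
  decide +kernel

theorem f_lt_1 : fLtP 1 = true := by
  decide +kernel

theorem f_lt_2 : fLtP 2 = true := by
  decide +kernel

theorem f_lt_3 : fLtP 3 = true := by
  decide +kernel

theorem f_lt_4 : fLtP 4 = true := by
  decide +kernel

theorem f_lt_5 : fLtP 5 = true := by
  decide +kernel

theorem f_lt_6 : fLtP 6 = true := by
  decide +kernel

theorem f_lt_7 : fLtP 7 = true := by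
  decide +kernel

theorem f_lt_8 : fLtP 8 = true := by
  decide +kernel

theorem f_lt_9 : fLtP 9 = true := by
  decide +kernel

theorem f_lt_10 : fLtP 10 = true := by
  decide +kernel

theorem f_lt_11 : fLtP 11 = true := by
  decide +kernel

theorem f_lt_12 : fLtP 12 = true := by
  decide +kernel

theorem f_lt_13 : fLtP 13 = true := by
  decide +kernel

theorem f_lt_14 : fLtP 14 = true := by
  decide +kernel

theorem f_lt_15 : fLtP 15 = true := by
  decide +kernel

theorem f_lt_16 : fLtP 16 = true := by
  decide +kernel

theorem f_lt_17 : fLtP 17 = true := by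
  decide +kernel

theorem f_lt_18 : fLtP 18 = true := by
  decide +kernel

theorem f_lt_19 : fLtP 19 = true := by
  decide +kernel

theorem f_lt_20 : fLtP 20 = true := by
  decide +kernel

theorem f_lt_21 : fLtP 21 = true := by
  decide +kernel

theorem f_lt_22 : fLtP 22 = true := by
  decide +kernel

theorem f_lt_23 : fLtP 23 = true := by
  decide +kernel

theorem f_lt_24 : fLtP 24 = true := by
  decide +kernel

theorem f_lt_25 : fLtP 25 = true := by
  decide +kernel

theorem f_lt_26 : fLtP 26 = true := by
  decide +kernel

theorem f_lt_27 : fLtP 27 = true := by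
  decide +kernel

theorem f_lt_28 : fLtP 28 = true := by
  decide +kernel

theorem f_lt_29 : fLtP 29 = true := by
  decide +kernel

theorem f_lt_30 : fLtP 30 = true := by
  decide +kernel

theorem f_lt_31 : fLtP 31 = true := by
  decide +kernel


theorem f_ltP (j : ℕ) (hj : j < 32) : fLtP j = true := by
  interval_cases j
  · exact f_lt_0
  · exact f_lt_1
  · exact f_lt_2
  · exact f_lt_3
  · exact f_lt_4
  · exact f_lt_5
  · exact f_lt_6
  · exact f_lt_7
  · exact f_lt_8
  · exact f_lt_9
  · exact f_lt_10
  · exact f_lt_11
  · exact f_lt_12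
  · exact f_lt_13
  · exact f_lt_14
  · exact f_lt_15
  · exact f_lt_16
  · exact f_lt_17
  · exact f_lt_18
  · exact f_lt_19
  · exact f_lt_20
  · exact f_lt_21
  · exact f_lt_22
  · exact f_lt_23
  · exact f_lt_24
  · exact f_lt_25
  · exact f_lt_26
  · exact f_lt_27
  · exact f_lt_28
  · exact f_lt_29
  · exact f_lt_30
  · exact f_lt_31

theorem f_rel_0 : fRelP 0 = true := by
  decide +kernel

theorem f_rel_1 : fRelP 1 = true := by
  decide +kernel

theorem f_rel_2 : fRelP 2 = true := by
  decide +kernel

theorem f_rel_3 : fRelP 3 = true := by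
  decide +kernel

theorem f_rel_4 : fRelP 4 = true := by
  decide +kernel

theorem f_rel_5 : fRelP 5 = true := by
  decide +kernel

theorem f_rel_6 : fRelP 6 = true := by
  decide +kernel

theorem f_rel_7 : fRelP 7 = true := by
  decide +kernel

theorem f_rel_8 : fRelP 8 = true := by
  decide +kernel

theorem f_rel_9 : fRelP 9 = true := by
  decide +kernel

theorem f_rel_10 : fRelP 10 = true := by
  decide +kernel

theorem f_rel_11 : fRelP 11 = true := by
  decide +kernel

theorem f_rel_12 : fRelP 12 = true := by
  decide +kernel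

theorem f_rel_13 : fRelP 13 = true := by
  decide +kernel

theorem f_rel_14 : fRelP 14 = true := by
  decide +kernel

theorem f_rel_15 : fRelP 15 = true := by
  decide +kernel

theorem f_rel_16 : fRelP 16 = true := by
  decide +kernel

theorem f_rel_17 : fRelP 17 = true := by
  decide +kernel

theorem f_rel_18 : fRelP 18 = true := by
  decide +kernel

theorem f_rel_19 : fRelP 19 = true := by
  decide +kernel

theorem f_rel_20 : fRelP 20 = true := by
  decide +kernel

theorem f_rel_21 : fRelP 21 = true := by
  decide +kernel

theorem f_rel_22 : fRelP 22 = true := by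
  decide +kernel

theorem f_rel_23 : fRelP 23 = true := by
  decide +kernel

theorem f_rel_24 : fRelP 24 = true := by
  decide +kernel

theorem f_rel_25 : fRelP 25 = true := by
  decide +kernel

theorem f_rel_26 : fRelP 26 = true := by
  decide +kernel

theorem f_rel_27 : fRelP 27 = true := by
  decide +kernel

theorem f_rel_28 : fRelP 28 = true := by
  decide +kernel

theorem f_rel_29 : fRelP 29 = true := by
  decide +kernel

theorem f_rel_30 : fRelP 30 = true := by
  decide +kernel

theorem f_rel_31 : fRelP 31 = true := by
  decide +kernel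


theorem f_relP (j : ℕ) (hj : j < 32) : fRelP j = true := by
  interval_cases j
  · exact f_rel_0
  · exact f_rel_1
  · exact f_rel_2
  · exact f_rel_3
  · exact f_rel_4
  · exact f_rel_5
  · exact f_rel_6
  · exact f_rel_7
  · exact f_rel_8
  · exact f_rel_9
  · exact f_rel_10
  · exact f_rel_11
  · exact f_rel_12
  · exact f_rel_13
  · exact f_rel_14
  · exact f_rel_15
  · exact f_rel_16
  · exact f_rel_17
  · exact f_rel_18
  · exact f_rel_19
  · exact f_rel_20
  · exact f_rel_21
  · exact f_rel_22
  · exact f_rel_23
  · exact f_rel_24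
  · exact f_rel_25
  · exact f_rel_26
  · exact f_rel_27
  · exact f_rel_28
  · exact f_rel_29
  · exact f_rel_30
  · exact f_rel_31

theorem f_root : (List.range 24).all (fun p => Nat.beq (look (fTab fK0) p) p) = true := by
  decide +kernel

theorem f_z : Nat.beq fzT gzT = true := by
  decide +kernel

theorem fb_ok : (tblOK fbT && chkCode fbT fbC && Nat.beq (pullBits fbT 340831 24) 340831
    && Nat.beq (pullBits fbT 16436384 24) 16436384 && Nat.beq (pullBits fzT 16436384 24) 16436384) = true := by
  decide +kernel

theorem fb_rel : relOK12 fzT fbT = true := by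
  decide +kernel

theorem g0_ok : (tblOK g0T && chkCode g0T g0C && Nat.beq (pullBits g0T 340831 24) 16436384
    && Nat.beq (pullBits g0T 16436384 24) 340831 && commT g0T gzT) = true := by
  decide +kernel

theorem x4_ok : (tblOK x4T && chkCode x4T x4C && Nat.beq (pullBits x4T 340831 24) 340831
    && Nat.beq (look x4T 0) 0
    && (List.range 24).all (fun j => !(Nat.testBit 16436384 j) || !(Nat.beq (look x4T j) j)))
    = true := by
  decide +kernel

theorem y5_ok : (tblOK y5T && chkCode y5T y5C && Nat.beq (pullBits y5T 340831 24) 340831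
    && commT y5T (dcTab 58) && isId y5T 5 && !(isId y5T 1)) = true := by
  decide +kernel

theorem d_no5 : (List.range 192).all (fun i => !(isId (dcTab i) 5) || isId (dcTab i) 1)
    = true := by
  decide +kernel

end Cfsg.Agent.Helper1.Golay
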