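import Mathlib
import Cfsg.Agent.Helper1.Sx5170Tab
import Cfsg.Agent.Helper1.Sx2882
import Cfsg.Agent.Helper1.FusSimple

set_option autoImplicit false

namespace Cfsg.Agent.Helper1.Golay

open Cfsg
open scoped Pointwise

/-- Elements of the group from tables. -/
noncomputable def mk24 (t : ℕ) : ↥M24 := by
  classical
  exact if h : permT t ∈ M24 then ⟨permT t, h⟩ else 1

theorem mk24_coe {t C : ℕ} (hok : tblOK t = true) (hc : chkCode t C = true) :
    ((mk24 t : ↥M24) : Equiv.Perm GolayPt) = permT t := by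
  rw [mk24, dif_pos (permT_mem hok hc)]

theorem jRep_lt (c : ℕ) : jRep c < 1024 := by
  unfold jRep
  split <;> norm_num

theorem jC_lt (r : ℕ) : jC r < 2 := by
  unfold jC
  exact Nat.lt_succ_of_le Nat.and_le_right

theorem jw_spec (r : ℕ) (hr : r < 191) :
    jI r < 1024 ∧ mk24 (jwTab r) * syE (jRep (jC r)) = syE (jI r) * mk24 (jwTab r) := by
  have h := List.all_eq_true.mp jw_ok r (List.mem_range.mpr hr)
  simp only [Bool.and_eq_true] at h
  obtain ⟨⟨⟨hok, hc⟩, hlt⟩, hconj⟩ := h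
  have hlt' := Nat.blt_eq.mp hlt
  refine ⟨hlt', ?_⟩
  apply Subtype.ext
  simp only [Subgroup.coe_mul]
  rw [mk24_coe hok hc, (sy_spec _ (jRep_lt _)).2.1, (sy_spec _ hlt').2.1]
  apply perm_ext_pos
  intro p
  rw [pos_permT_mul hok (sy_spec _ (jRep_lt _)).1, pos_permT_mul (sy_spec _ hlt').1 hok]
  exact Nat.eq_of_beq_eq_true (List.all_eq_true.mp hconj (pos p) (List.mem_range.mpr (pos_lt p)))

theorem closed_J8 (T : Subgroup ↥M24) (hTS : T ≤ J8) (hT : T ≠ ⊥)
    (hsc : ∀ x ∈ T, ∀ h : ↥M24, h * x * h⁻¹ ∈ J8 → h * x * h⁻¹ ∈ T) : T = J8 := by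
  have hp : IsPGroup 2 ↥T :=
    (IsPGroup.of_card (n := 10) (by rw [card_J8]; norm_num)).to_le hTS
  obtain ⟨k, hk⟩ := IsPGroup.iff_card.mp hp
  have hk0 : k ≠ 0 := by
    intro h0
    rw [h0, pow_zero] at hk
    exact hT (Subgroup.card_eq_one.mp hk)
  have hdvd : 2 ∣ Nat.card ↥T := by
    rw [hk]
    exact dvd_pow_self 2 hk0
  obtain ⟨t, ht⟩ := exists_prime_orderOf_dvd_card' 2 hdvd
  have ht2 : orderOf (t : ↥M24) = 2 := by
    rw [Subgroup.orderOf_coe]
    exact ht
  obtain ⟨i, hi, ei⟩ := J8_exists _ (hTS t.2)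
  obtain ⟨hok, hcoe, -⟩ := sy_spec i hi
  have hsq : isId (syTab i) 2 = true := by
    rw [← permT_pow_eq_one_iff hok 2, ← hcoe, ← ei, ← Subgroup.coe_pow, ← ht2,
      pow_orderOf_eq_one]
    rfl
  have hne : isId (syTab i) 1 ≠ true := by
    intro h1
    have h2 := (permT_pow_eq_one_iff hok 1).mpr h1
    rw [pow_one, ← hcoe, ← ei] at h2
    have h3 : (t : ↥M24) = 1 := Subtype.ext h2
    rw [h3, orderOf_one] at ht2
    exact absurd ht2 (by norm_num)
  have hcov := List.all_eq_true.mp j_cover i (List.mem_range.mpr hi)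
  simp only [Bool.or_eq_true] at hcov
  rcases hcov with (hcov | hcov) | hcov
  · rw [hsq] at hcov
    exact absurd hcov (by decide)
  · exact absurd hcov hne
  obtain ⟨r, hr, er⟩ := List.any_eq_true.mp hcov
  rw [List.mem_range] at hr
  have er' := Nat.eq_of_beq_eq_true er
  have hrep : syE (jRep (jC r)) ∈ T := by
    obtain ⟨-, hw⟩ := jw_spec r hr
    rw [er', ← ei] at hw
    have e : syE (jRep (jC r))
        = (mk24 (jwTab r))⁻¹ * (t : ↥M24) * ((mk24 (jwTab r))⁻¹)⁻¹ := by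
      calc syE (jRep (jC r))
          = (mk24 (jwTab r))⁻¹ * (mk24 (jwTab r) * syE (jRep (jC r))) := by group
        _ = (mk24 (jwTab r))⁻¹ * ((t : ↥M24) * mk24 (jwTab r)) := by rw [hw]
        _ = (mk24 (jwTab r))⁻¹ * (t : ↥M24) * ((mk24 (jwTab r))⁻¹)⁻¹ := by group
    rw [e]
    apply hsc _ t.2
    rw [← e]
    exact syE_mem _ (jRep_lt _)
  have hcls : ∀ r', r' < 191 → jC r' = jC r → syE (jI r') ∈ T := by
    intro r' hr' hc'
    obtain ⟨hlt, hw⟩ := jw_spec r' hr'
    rw [hc'] at hw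
    have e : syE (jI r') = mk24 (jwTab r') * syE (jRep (jC r)) * (mk24 (jwTab r'))⁻¹ := by
      rw [hw]
      group
    rw [e]
    apply hsc _ hrep
    rw [← e]
    exact syE_mem _ hlt
  have hall : ∀ n k, k < 1024 → jL (jC r) k = n → syE k ∈ T := by
    intro n
    induction n using Nat.strong_induction_on with
    | _ n ih =>
      intro k hk hl
      have h := List.all_eq_true.mp (List.all_eq_true.mp jg_ok (jC r)
        (List.mem_range.mpr (jC_lt r))) k (List.mem_range.mpr hk)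
      simp only [Bool.or_eq_true, Bool.and_eq_true] at h
      rcases h with ⟨⟨⟨-, a2⟩, a3⟩, a4⟩ | ⟨⟨⟨⟨b1, b2⟩, b3⟩, b4⟩, b5⟩
      · have e1 := hcls _ (Nat.blt_eq.mp a2) (Nat.eq_of_beq_eq_true a4)
        rw [Nat.eq_of_beq_eq_true a3] at e1
        exact e1
      · have c1 := Nat.blt_eq.mp b1
        have c2 := Nat.blt_eq.mp b2
        have c3 := Nat.blt_eq.mp b3
        have c4 := Nat.blt_eq.mp b4
        have e : syE k = syE (jA (jC r) k) * syE (jB (jC r) k) := by
          apply Subtype.ext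
          rw [Subgroup.coe_mul, (sy_spec _ hk).2.1, (sy_spec _ c1).2.1, (sy_spec _ c2).2.1]
          apply perm_ext_pos
          intro p
          rw [pos_permT (sy_spec _ hk).1, pos_permT_mul (sy_spec _ c1).1 (sy_spec _ c2).1]
          exact Nat.eq_of_beq_eq_true
            (List.all_eq_true.mp b5 (pos p) (List.mem_range.mpr (pos_lt p)))
        rw [e]
        exact mul_mem (ih _ (by omega) _ c1 rfl) (ih _ (by omega) _ c2 rfl)
  apply le_antisymm hTS
  intro g hg
  obtain ⟨k', hk', e⟩ := J8_exists g hg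
  rw [e]
  exact hall _ k' hk' rfl

theorem final5170 (S : Sylow 2 ↥M24) :
    (groupFusionSystem (S : Subgroup ↥M24)).IsSimple 2 :=
  Cfsg.Agent.Helper1.fusion_simple_transfer (MulEquiv.refl ↥M24) 10 244823040 (by norm_num)
    card_M24 (by norm_num) J8 card_J8 norm_J8_le closed_J8 S

end Cfsg.Agent.Helper1.Golay
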