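import Mathlib
import Cfsg.Agent.Helper1.Sx5167Tab
import Cfsg.Agent.Helper1.Sx5170
import Cfsg.Agent.Helper1.Sx5166
import Cfsg.Agent.Helper1.FusSub

set_option autoImplicit false

namespace Cfsg.Agent.Helper1.Golay

open Cfsg
open scoped Pointwise

/-- The dodecad stabiliser. -/
noncomputable def M12b : Subgroup ↥M24 :=
  MulAction.stabilizer ↥M24 (support₂ (ofBits 340831))

theorem card_M12b : Nat.card ↥M12b = 95040 := card_stabilizer_dodecad _ g_d_mem

theorem mem_M12b (g : ↥M24) : g ∈ M12b ↔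
    (g : Equiv.Perm GolayPt) • support₂ (ofBits 340831) = support₂ (ofBits 340831) := by
  rw [M12b, MulAction.mem_stabilizer_iff]
  rfl

theorem mk24_mem_M12b {t C : ℕ} (hok : tblOK t = true) (hc : chkCode t C = true)
    (hd : Nat.beq (pullBits t 340831 24) 340831 = true) : mk24 t ∈ M12b := by
  rw [mem_M12b, mk24_coe hok hc]
  exact permT_smul_of_pull' hok hd

/-- The listed elements. -/
noncomputable def dE (i : ℕ) : ↥M24 := mk24 (dcTab i)

theorem dc_spec (i : ℕ) (hi : i < 192) : tblOK (dcTab i) = true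
    ∧ ((dE i : ↥M24) : Equiv.Perm GolayPt) = permT (dcTab i)
    ∧ dE i ∈ M12b ∧ permT (dcTab i) • Fz8 = Fz8 ∧ commT (dcTab i) gzT = true := by
  have h := List.all_eq_true.mp dc_ok i (List.mem_range.mpr hi)
  simp only [Bool.and_eq_true] at h
  obtain ⟨⟨⟨⟨hok, hc⟩, hd⟩, hf⟩, hcm⟩ := h
  exact ⟨hok, mk24_coe hok hc, mk24_mem_M12b hok hc hd, permT_smul_of_pull' hok hf, hcm⟩

/-- The centraliser of the base involution. -/
noncomputable def C12 : Subgroup ↥M24 := M12b ⊓ MulAction.stabilizer ↥M24 Fz8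

theorem mem_C12 (g : ↥M24) : g ∈ C12 ↔ g ∈ M12b ∧ (g : Equiv.Perm GolayPt) • Fz8 = Fz8 := by
  rw [C12, Subgroup.mem_inf, MulAction.mem_stabilizer_iff]
  rfl

theorem dE_mem_C12 (i : ℕ) (hi : i < 192) : dE i ∈ C12 := by
  obtain ⟨hok, hcoe, hm, hf, -⟩ := dc_spec i hi
  rw [mem_C12, hcoe]
  exact ⟨hm, hf⟩

theorem dE_inj {i j : ℕ} (hi : i < 192) (hj : j < 192) (h : dE i = dE j) : i = j := by
  have hk : tkey (dcTab i) = tkey (dcTab j) := by
    apply tkey_congr
    intro p hp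
    have e : pos (((dE i : ↥M24) : Equiv.Perm GolayPt) (unpos p))
        = pos (((dE j : ↥M24) : Equiv.Perm GolayPt) (unpos p)) := by rw [h]
    rw [(dc_spec i hi).2.1, (dc_spec j hj).2.1, pos_permT (dc_spec i hi).1,
      pos_permT (dc_spec j hj).1, pos_unpos p hp] at e
    exact e
  have hmono : ∀ a b, a < b → b < 192 → tkey (dcTab a) < tkey (dcTab b) := by
    intro a b hab hb
    apply lt_of_chain (fun i => tkey (dcTab i)) 192 _ a b hab hb
    intro k hk
    exact Nat.blt_eq.mp (List.all_eq_true.mp dc_lt k (List.mem_range.mpr (by omega)))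
  rcases Nat.lt_trichotomy i j with hlt | heq | hgt
  · exact absurd hk (Nat.ne_of_lt (hmono i j hlt hj))
  · exact heq
  · exact absurd hk.symm (Nat.ne_of_lt (hmono j i hgt hi))

theorem dt_spec (i : ℕ) (hi : i < 495) : tblOK (dtTab i) = true ∧ mk24 (dtTab i) ∈ M12b
    ∧ ((mk24 (dtTab i) : ↥M24) : Equiv.Perm GolayPt) = permT (dtTab i) := by
  have h := List.all_eq_true.mp dt_ok i (List.mem_range.mpr hi)
  simp only [Bool.and_eq_true] at h
  obtain ⟨⟨hok, hc⟩, hd⟩ := h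
  exact ⟨hok, mk24_mem_M12b hok hc hd, mk24_coe hok hc⟩

theorem dt_mono (i j : ℕ) (hij : i < j) (hj : j < 495) :
    pullBits (dtTab i) 8536111 24 < pullBits (dtTab j) 8536111 24 := by
  apply lt_of_chain (fun i => pullBits (dtTab i) 8536111 24) 495 _ i j hij hj
  intro k hk
  exact Nat.blt_eq.mp (List.all_eq_true.mp dt_lt k (List.mem_range.mpr (by omega)))

theorem card_C12_le : Nat.card ↥(M12b ⊓ MulAction.stabilizer ↥M24 Fz8) ≤ 192 := by
  have h := card_eq_orbit_mul' M12b Fz8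
  rw [card_M12b] at h
  have h495 : 495 ≤ {x | ∃ h ∈ M12b, h • Fz8 = x}.ncard := by
    have hinj : Set.InjOn (fun i => support₂ (ofBits (pullBits (dtTab i) 8536111 24)))
        (↑(Finset.range 495) : Set ℕ) := by
      intro i hi j hj e
      have hi' := Finset.mem_range.mp (Finset.mem_coe.mp hi)
      have hj' := Finset.mem_range.mp (Finset.mem_coe.mp hj)
      have e' := mask_inj (pullBits_lt _ _ 24) (pullBits_lt _ _ 24) e
      rcases Nat.lt_trichotomy i j with hlt | heq | hgt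
      · exact absurd e' (Nat.ne_of_lt (dt_mono i j hlt hj'))
      · exact heq
      · exact absurd e'.symm (Nat.ne_of_lt (dt_mono j i hgt hi'))
    have hsub : (fun i => support₂ (ofBits (pullBits (dtTab i) 8536111 24))) ''
        (↑(Finset.range 495) : Set ℕ)
        ⊆ {x | ∃ h ∈ M12b, h • Fz8 = x} := by
      rintro _ ⟨i, hi, rfl⟩
      obtain ⟨hok, hmem, hcoe⟩ := dt_spec i (Finset.mem_range.mp (Finset.mem_coe.mp hi))
      refine ⟨(mk24 (dtTab i))⁻¹, inv_mem hmem, ?_⟩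
      show ((mk24 (dtTab i) : ↥M24) : Equiv.Perm GolayPt)⁻¹ • Fz8 = _
      rw [hcoe]
      exact permT_inv_smul hok 8536111
    have h1 := Set.ncard_le_ncard hsub (Set.toFinite _)
    rw [Set.InjOn.ncard_image hinj, Set.ncard_coe_finset, Finset.card_range] at h1
    exact h1
  by_contra hcon
  have h2 : 193 ≤ Nat.card ↥(M12b ⊓ MulAction.stabilizer ↥M24 Fz8) := by omega
  have h3 := Nat.mul_le_mul h495 h2
  omega

theorem C12_eq : (C12 : Set ↥M24) = dE '' ↑(Finset.range 192) := by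
  symm
  apply Set.eq_of_subset_of_ncard_le
  · rintro _ ⟨i, hi, rfl⟩
    exact dE_mem_C12 i (Finset.mem_range.mp (Finset.mem_coe.mp hi))
  · rw [Set.InjOn.ncard_image, Set.ncard_coe_finset, Finset.card_range]
    · have h3 := Nat.card_coe_set_eq (C12 : Set ↥M24)
      rw [← h3]
      exact card_C12_le
    · intro i hi j hj h
      exact dE_inj (Finset.mem_range.mp (Finset.mem_coe.mp hi))
        (Finset.mem_range.mp (Finset.mem_coe.mp hj)) h
  · exact Set.toFinite _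

theorem C12_exists (x : ↥M24) (hx : x ∈ C12) : ∃ i, i < 192 ∧ x = dE i := by
  rw [← SetLike.mem_coe, C12_eq] at hx
  obtain ⟨i, hi, rfl⟩ := hx
  exact ⟨i, Finset.mem_range.mp (Finset.mem_coe.mp hi), rfl⟩

/-- The Sylow subgroup. -/
noncomputable def S12 : Subgroup ↥M24 := C12 ⊓ MulAction.stabilizer ↥M24 (famOf dX)

theorem mem_S12 (g : ↥M24) :
    g ∈ S12 ↔ g ∈ C12 ∧ (g : Equiv.Perm GolayPt) • famOf dX = famOf dX := by
  rw [S12, Subgroup.mem_inf, MulAction.mem_stabilizer_iff]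
  rfl

theorem d_fam_spec (i : ℕ) (hi : i < 192) : goodList (pullFam (dcTab i) dX) = true
    ∧ (dMem i = true → famEq (pullFam (dcTab i) dX) dX = true) := by
  have h := List.all_eq_true.mp d_fam i (List.mem_range.mpr hi)
  rw [Bool.and_eq_true] at h
  refine ⟨h.1, fun hm => ?_⟩
  have h2 := h.2
  rw [hm] at h2
  simpa using h2

theorem dE_mem_S12 (i : ℕ) (hi : i < 192) : dE i ∈ S12 ↔ dMem i = true := by
  obtain ⟨hok, hcoe, -, -, -⟩ := dc_spec i hi
  obtain ⟨hgood, hfam⟩ := d_fam_spec i hi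
  have e1 := famOf_pullFam (permT (dcTab i)) (dcTab i) (pos_permT hok) dX
  rw [mem_S12, hcoe]
  constructor
  · rintro ⟨-, h⟩
    have h1 : (permT (dcTab i))⁻¹ • famOf dX = famOf dX := by
      rw [inv_smul_eq_iff]
      exact h.symm
    rw [h1] at e1
    have e3 := keyN_eq_of_famOf_eq hgood dx_good e1
    unfold dMem
    rw [e3]
    exact Nat.beq_refl _
  · intro h
    refine ⟨dE_mem_C12 i hi, ?_⟩
    rw [famOf_eq_of_famEq (hfam h)] at e1
    exact (inv_smul_eq_iff.mp e1.symm).symm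

theorem S12_exists (x : ↥M24) (hx : x ∈ S12) :
    ∃ i, i < 192 ∧ dMem i = true ∧ x = dE i := by
  obtain ⟨i, hi, e⟩ := C12_exists x ((mem_S12 x).mp hx).1
  refine ⟨i, hi, ?_, e⟩
  rw [← dE_mem_S12 i hi, ← e]
  exact hx

theorem card_S12 : Nat.card ↥S12 = 2 ^ 6 := by
  have e : (S12 : Set ↥M24) = dE '' ↑((List.range 192).filter dMem).toFinset := by
    ext g
    constructor
    · intro hg
      obtain ⟨i, hi, hm, e⟩ := S12_exists g hg
      refine ⟨i, ?_, e.symm⟩
      rw [Finset.mem_coe, List.mem_toFinset, List.mem_filter, List.mem_range]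
      exact ⟨hi, hm⟩
    · rintro ⟨i, hi, rfl⟩
      rw [Finset.mem_coe, List.mem_toFinset, List.mem_filter, List.mem_range] at hi
      exact (dE_mem_S12 i hi.1).mpr hi.2
  rw [show Nat.card ↥S12 = (S12 : Set ↥M24).ncard from Nat.card_coe_set_eq _, e,
    Set.InjOn.ncard_image, Set.ncard_coe_finset,
    List.toFinset_card_of_nodup (List.Nodup.filter _ List.nodup_range)]
  · exact d_count
  · intro i hi j hj h
    rw [Finset.mem_coe, List.mem_toFinset, List.mem_filter, List.mem_range] at hi hj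
    exact dE_inj hi.1 hj.1 h

theorem S12_le : S12 ≤ M12b := fun x hx => ((mem_C12 x).mp ((mem_S12 x).mp hx).1).1

theorem dGen_spec (a : ℕ) (ha : a ∈ dGen) : a < 192 ∧ dE a ∈ S12 := by
  have h := List.all_eq_true.mp d_gen a ha
  simp only [Bool.and_eq_true] at h
  have hlt := Nat.blt_eq.mp h.1
  exact ⟨hlt, (dE_mem_S12 a hlt).mpr h.2⟩

theorem dz_coe : ((dE 4 : ↥M24) : Equiv.Perm GolayPt) = permT gzT := by
  rw [(dc_spec 4 (by norm_num)).2.1, Nat.eq_of_beq_eq_true dc_z]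

theorem dE_zero : dE 0 = 1 := by
  apply Subtype.ext
  rw [(dc_spec 0 (by norm_num)).2.1]
  have h00 := (permT_pow_eq_one_iff (dc_spec 0 (by norm_num)).1 1).mpr dc_id
  rwa [pow_one] at h00

theorem norm_S12 (n : ↥M24) (hn : n ∈ M12b) (hconj' : ∀ x ∈ S12, n * x * n⁻¹ ∈ S12)
    (hconj : ∀ x ∈ S12, n⁻¹ * x * n ∈ S12) : n ∈ S12 := by
  have htz : dE 4 ∈ S12 := (dE_mem_S12 4 (by norm_num)).mpr d_z
  have hcent : ∀ x ∈ S12, x * dE 4 = dE 4 * x := by
    intro x hx
    obtain ⟨i, hi, -, rfl⟩ := S12_exists x hx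
    obtain ⟨hok, hcoe, -, -, hcm⟩ := dc_spec i hi
    apply Subtype.ext
    show ((dE i : ↥M24) : Equiv.Perm GolayPt) * ((dE 4 : ↥M24) : Equiv.Perm GolayPt)
      = ((dE 4 : ↥M24) : Equiv.Perm GolayPt) * ((dE i : ↥M24) : Equiv.Perm GolayPt)
    rw [hcoe, dz_coe]
    exact (commT_spec hok gz_tblOK).mp hcm
  have hy := hconj' _ htz
  obtain ⟨i, hi, hmi, hi_eq⟩ := S12_exists _ hy
  have hcomm : ∀ a ∈ dGen, dE i * dE a = dE a * dE i := by
    intro a ha
    rw [← hi_eq]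
    have h1 := hcent _ (hconj (dE a) (dGen_spec a ha).2)
    calc n * dE 4 * n⁻¹ * dE a = n * (dE 4 * (n⁻¹ * dE a * n)) * n⁻¹ := by group
      _ = n * (n⁻¹ * dE a * n * dE 4) * n⁻¹ := by rw [h1]
      _ = dE a * (n * dE 4 * n⁻¹) := by group
  have hi2 : i = 0 ∨ i = 4 := by
    have h := List.all_eq_true.mp d_centre i (List.mem_range.mpr hi)
    rw [hmi] at h
    simp only [Bool.not_true, Bool.false_or, Bool.or_eq_true] at h
    rcases h with (h | h) | h
    · exact Or.inl (Nat.eq_of_beq_eq_true h)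
    · exact Or.inr (Nat.eq_of_beq_eq_true h)
    · exfalso
      obtain ⟨a, ha, hne⟩ := List.any_eq_true.mp h
      have hc := hcomm a ha
      obtain ⟨hoki, hcoei, -, -, -⟩ := dc_spec i hi
      obtain ⟨hoka, hcoea, -, -, -⟩ := dc_spec a (dGen_spec a ha).1
      have hc' : permT (dcTab i) * permT (dcTab a) = permT (dcTab a) * permT (dcTab i) := by
        rw [← hcoei, ← hcoea]
        exact congrArg Subtype.val hc
      rw [(commT_spec hoki hoka).mpr hc'] at hne
      exact absurd hne (by decide)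
  have hntz : n * dE 4 * n⁻¹ = dE 4 := by
    rcases hi2 with rfl | rfl
    · exfalso
      rw [dE_zero] at hi_eq
      have h8 : dE 4 = 1 := by
        have e' := congrArg (fun x => n⁻¹ * x * n) hi_eq
        simpa [mul_assoc] using e'
      have h80 := dE_inj (by norm_num) (by norm_num) (h8.trans dE_zero.symm)
      omega
    · exact hi_eq
  have hcm : (n : Equiv.Perm GolayPt) * permT gzT = permT gzT * (n : Equiv.Perm GolayPt) := by
    have e' : (n : Equiv.Perm GolayPt) * ((dE 4 : ↥M24) : Equiv.Perm GolayPt)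
        * (n : Equiv.Perm GolayPt)⁻¹ = ((dE 4 : ↥M24) : Equiv.Perm GolayPt) :=
      congrArg Subtype.val hntz
    rw [dz_coe] at e'
    exact mul_inv_eq_iff_eq_mul.mp e'
  have hnC : n ∈ C12 := (mem_C12 n).mpr ⟨hn, comm_Fz8 hcm⟩
  obtain ⟨k, hk, rfl⟩ := C12_exists n hnC
  by_cases hmk : dMem k = true
  · exact (dE_mem_S12 k hk).mpr hmk
  exfalso
  have h := List.all_eq_true.mp d_nw k (List.mem_range.mpr hk)
  simp only [Bool.or_eq_true, Bool.and_eq_true] at h
  rcases h with h | ⟨⟨⟨h1, h2⟩, h3⟩, h4⟩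
  · exact hmk h
  have hs := Nat.blt_eq.mp h1
  have hsS : dE (dNW k) ∈ S12 := (dE_mem_S12 _ hs).mpr h2
  have hc := hconj' _ (S12.inv_mem hsS)
  have hf := ((mem_S12 _).mp hc).2
  obtain ⟨hokk, hcoek, -, -, -⟩ := dc_spec k hk
  obtain ⟨hoks, hcoes, -, -, -⟩ := dc_spec _ hs
  have e : ((dE k * (dE (dNW k))⁻¹ * (dE k)⁻¹ : ↥M24) : Equiv.Perm GolayPt)
      = permT (dcTab k) * (permT (dcTab (dNW k)))⁻¹ * (permT (dcTab k))⁻¹ := by
    rw [← hcoek, ← hcoes]
    rfl
  rw [e, mul_smul, mul_smul, smul_eq_iff_eq_inv_smul] at hf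
  rw [← famOf_pullFam _ _ (pos_permT hokk), ← famOf_pullFam _ _ (pos_permT hoks)] at hf
  have e3 := keyN_eq_of_famOf_eq h3 (d_fam_spec k hk).1 hf
  rw [e3, Nat.beq_refl] at h4
  exact absurd h4 (by decide)

theorem dRep_lt (c : ℕ) : dRep c < 192 := by
  unfold dRep
  split <;> norm_num

theorem dC_lt (r : ℕ) : dC r < 2 := by
  unfold dC
  exact Nat.lt_succ_of_le Nat.and_le_right

theorem dw_spec (r : ℕ) (hr : r < 27) :
    dI r < 192 ∧ dMem (dI r) = true ∧ mk24 (dwTab r) ∈ M12b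
      ∧ mk24 (dwTab r) * dE (dRep (dC r)) = dE (dI r) * mk24 (dwTab r) := by
  have h := List.all_eq_true.mp dw_ok r (List.mem_range.mpr hr)
  simp only [Bool.and_eq_true] at h
  obtain ⟨⟨⟨⟨⟨hok, hc⟩, hd⟩, hlt⟩, hm⟩, hconj⟩ := h
  have hlt' := Nat.blt_eq.mp hlt
  refine ⟨hlt', hm, mk24_mem_M12b hok hc hd, ?_⟩
  apply Subtype.ext
  simp only [Subgroup.coe_mul]
  rw [mk24_coe hok hc, (dc_spec _ (dRep_lt _)).2.1, (dc_spec _ hlt').2.1]
  apply perm_ext_pos
  intro p
  rw [pos_permT_mul hok (dc_spec _ (dRep_lt _)).1, pos_permT_mul (dc_spec _ hlt').1 hok]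
  exact Nat.eq_of_beq_eq_true (List.all_eq_true.mp hconj (pos p) (List.mem_range.mpr (pos_lt p)))

theorem dRep_mem (c : ℕ) (hc : c < 2) : dE (dRep c) ∈ S12 := by
  have h := List.all_eq_true.mp d_rep c (List.mem_range.mpr hc)
  simp only [Bool.and_eq_true] at h
  exact (dE_mem_S12 _ (Nat.blt_eq.mp h.1)).mpr h.2

theorem closed_S12 (T : Subgroup ↥M24) (hTS : T ≤ S12) (hT : T ≠ ⊥)
    (hsc : ∀ x ∈ T, ∀ h ∈ M12b, h * x * h⁻¹ ∈ S12 → h * x * h⁻¹ ∈ T) : T = S12 := by
  have hp : IsPGroup 2 ↥T :=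
    (IsPGroup.of_card (n := 6) card_S12).to_le hTS
  obtain ⟨k, hk⟩ := IsPGroup.iff_card.mp hp
  have hk0 : k ≠ 0 := by
    intro h0
    rw [h0, pow_zero] at hk
    exact hT (Subgroup.card_eq_one.mp hk)
  have hdvd : 2 ∣ Nat.card ↥T := by
    rw [hk]
    exact dvd_pow_self 2 hk0
  obtain ⟨t, ht⟩ := exists_prime_orderOf_dvd_card' 2 hdvd
  have ht2 : orderOf (t : ↥M24) = 2 := by
    rw [Subgroup.orderOf_coe]
    exact ht
  obtain ⟨i, hi, hmi, ei⟩ := S12_exists _ (hTS t.2)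
  obtain ⟨hok, hcoe, -⟩ := dc_spec i hi
  have hsq : isId (dcTab i) 2 = true := by
    rw [← permT_pow_eq_one_iff hok 2, ← hcoe, ← ei, ← Subgroup.coe_pow, ← ht2,
      pow_orderOf_eq_one]
    rfl
  have hne : isId (dcTab i) 1 ≠ true := by
    intro h1
    have h2 := (permT_pow_eq_one_iff hok 1).mpr h1
    rw [pow_one, ← hcoe, ← ei] at h2
    have h3 : (t : ↥M24) = 1 := Subtype.ext h2
    rw [h3, orderOf_one] at ht2
    exact absurd ht2 (by norm_num)
  have hcov := List.all_eq_true.mp d_cover i (List.mem_range.mpr hi)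
  rw [hmi, hsq] at hcov
  simp only [Bool.not_true, Bool.false_or, Bool.or_eq_true] at hcov
  rcases hcov with hcov | hcov
  · exact absurd hcov hne
  obtain ⟨r, hr, er⟩ := List.any_eq_true.mp hcov
  rw [List.mem_range] at hr
  have er' := Nat.eq_of_beq_eq_true er
  have hrep : ∀ r, r < 27 → dE (dI r) ∈ T → dE (dRep (dC r)) ∈ T := by
    intro r hr hx
    obtain ⟨-, -, hwH, hw⟩ := dw_spec r hr
    have e : dE (dRep (dC r))
        = (mk24 (dwTab r))⁻¹ * dE (dI r) * ((mk24 (dwTab r))⁻¹)⁻¹ := by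
      calc dE (dRep (dC r))
          = (mk24 (dwTab r))⁻¹ * (mk24 (dwTab r) * dE (dRep (dC r))) := by group
        _ = (mk24 (dwTab r))⁻¹ * (dE (dI r) * mk24 (dwTab r)) := by rw [hw]
        _ = (mk24 (dwTab r))⁻¹ * dE (dI r) * ((mk24 (dwTab r))⁻¹)⁻¹ := by group
    rw [e]
    apply hsc _ hx _ (M12b.inv_mem hwH)
    rw [← e]
    exact dRep_mem _ (dC_lt r)
  have hcls : ∀ r r', r < 27 → r' < 27 → dE (dI r) ∈ T → dC r' = dC r → dE (dI r') ∈ T := by
    intro r r' hr hr' hx hc'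
    have hrp := hrep r hr hx
    obtain ⟨hlt, hm, hwH, hw⟩ := dw_spec r' hr'
    rw [hc'] at hw
    have e : dE (dI r') = mk24 (dwTab r') * dE (dRep (dC r)) * (mk24 (dwTab r'))⁻¹ := by
      rw [hw]
      group
    rw [e]
    apply hsc _ hrp _ hwH
    rw [← e]
    exact (dE_mem_S12 _ hlt).mpr hm
  have hbase : dE (dI r) ∈ T := by
    rw [er', ← ei]
    exact t.2
  have hg := List.all_eq_true.mp dg_ok (dC r) (List.mem_range.mpr (dC_lt r))
  rw [Bool.and_eq_true] at hg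
  obtain ⟨hbr, hg⟩ := hg
  have hbr' := Nat.blt_eq.mp hbr
  have hall : ∀ n k, k < 192 → dMem k = true → dL (dC r) k = n → dE k ∈ T := by
    intro n
    induction n using Nat.strong_induction_on with
    | _ n ih =>
      intro k hk hmk hl
      have h := List.all_eq_true.mp hg k (List.mem_range.mpr hk)
      rw [hmk] at h
      simp only [Bool.not_true, Bool.false_or, Bool.or_eq_true, Bool.and_eq_true] at h
      rcases h with (⟨⟨⟨-, a2⟩, a3⟩, a4⟩ | ⟨⟨⟨⟨-, a2⟩, a3⟩, a4⟩, a5⟩)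
        | ⟨⟨⟨⟨⟨⟨b1, b2⟩, m1⟩, m2⟩, b3⟩, b4⟩, b5⟩
      · have e1 := hcls r _ hr (Nat.blt_eq.mp a2) hbase (Nat.eq_of_beq_eq_true a4)
        rw [Nat.eq_of_beq_eq_true a3] at e1
        exact e1
      · obtain ⟨hlt, hm, -, -⟩ := dw_spec _ hbr'
        have c5 := Nat.blt_eq.mp a5
        have hb := ih _ (by omega) _ hlt hm rfl
        have e1 := hcls _ _ hbr' (Nat.blt_eq.mp a2) hb (Nat.eq_of_beq_eq_true a4)
        rw [Nat.eq_of_beq_eq_true a3] at e1
        exact e1
      · have c1 := Nat.blt_eq.mp b1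
        have c2 := Nat.blt_eq.mp b2
        have c3 := Nat.blt_eq.mp b3
        have c4 := Nat.blt_eq.mp b4
        have e : dE k = dE (dA (dC r) k) * dE (dB (dC r) k) := by
          apply Subtype.ext
          rw [Subgroup.coe_mul, (dc_spec _ hk).2.1, (dc_spec _ c1).2.1, (dc_spec _ c2).2.1]
          apply perm_ext_pos
          intro p
          rw [pos_permT (dc_spec _ hk).1, pos_permT_mul (dc_spec _ c1).1 (dc_spec _ c2).1]
          exact Nat.eq_of_beq_eq_true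
            (List.all_eq_true.mp b5 (pos p) (List.mem_range.mpr (pos_lt p)))
        rw [e]
        exact mul_mem (ih _ (by omega) _ c1 m1 rfl) (ih _ (by omega) _ c2 m2 rfl)
  apply le_antisymm hTS
  intro g hg'
  obtain ⟨k', hk', hm', e⟩ := S12_exists g hg'
  rw [e]
  exact hall _ k' hk' hm' rfl

theorem mem_SporM12 (g : Equiv.Perm GolayPt) : g ∈ Cfsg.Spor.M12 ↔ g ∈ M24
    ∧ g • support₂ (ofBits 340831) = support₂ (ofBits 340831) := by
  unfold Cfsg.Spor.M12
  rw [Subgroup.mem_inf, squareDodecad_eq]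
  exact Iff.rfl

/-- The dodecad stabiliser is the frozen group. -/
noncomputable def iotaM12 : ↥M12b ≃* ↥Cfsg.Spor.M12 where
  toFun m := ⟨((m : ↥M24) : Equiv.Perm GolayPt),
    (mem_SporM12 _).mpr ⟨(m : ↥M24).2, (mem_M12b (m : ↥M24)).mp m.2⟩⟩
  invFun g := ⟨⟨(g : Equiv.Perm GolayPt), ((mem_SporM12 _).mp g.2).1⟩,
    (mem_M12b _).mpr ((mem_SporM12 _).mp g.2).2⟩
  left_inv _ := rfl
  right_inv _ := rfl
  map_mul' _ _ := rfl

theorem final5167 (S : Sylow 2 ↥Cfsg.Spor.M12) :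
    (groupFusionSystem (S : Subgroup ↥Cfsg.Spor.M12)).IsSimple 2 :=
  Cfsg.Agent.Helper1.fusion_simple_sub M12b S12 S12_le 6 95040 (by norm_num) card_M12b
    (by norm_num) card_S12 (fun x hx h1 h2 => norm_S12 x hx h1 h2) closed_S12 iotaM12 S

end Cfsg.Agent.Helper1.Golay
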