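import Mathlib
import Cfsg.Agent.Helper1.Sx2061TabA
import Cfsg.Agent.Helper1.Sx2061TabB
import Cfsg.Agent.Helper1.Sx5167

set_option autoImplicit false

namespace Cfsg.Agent.Helper1.Golay

open Cfsg
open scoped Pointwise

/-- The coercion to permutations. -/
noncomputable def cc12 : ↥M12b →* Equiv.Perm GolayPt :=
  (Subgroup.subtype M24).comp (Subgroup.subtype M12b)

theorem cc12_inj : Function.Injective cc12 :=
  (Subgroup.subtype_injective M24).comp (Subgroup.subtype_injective M12b)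

/-- An element acts by a table. -/
def Spec12 (g : ↥M12b) (t : ℕ) : Prop := ∀ p : GolayPt, pos (cc12 g p) = look t (pos p)

theorem spec_of_permT {g : ↥M12b} {t : ℕ} (hok : tblOK t = true) (h : cc12 g = permT t) :
    Spec12 g t := by
  intro p
  rw [h, pos_permT hok]

theorem spec_word (gs : List (↥M12b × ℕ)) (h : ∀ gt ∈ gs, Spec12 gt.1 gt.2) (p : GolayPt) :
    pos (cc12 ((gs.map Prod.fst).prod) p) = lookW (gs.map Prod.snd) (pos p) := by
  induction gs with
  | nil =>
    show pos (cc12 1 p) = pos p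
    rw [map_one]
    rfl
  | cons gt gs ih =>
    rw [List.map_cons, List.prod_cons, map_mul, Equiv.Perm.mul_apply, h gt List.mem_cons_self,
      ih (fun gt' hgt' => h gt' (List.mem_cons_of_mem _ hgt'))]
    rfl

theorem word_one_iff (gs : List (↥M12b × ℕ)) (h : ∀ gt ∈ gs, Spec12 gt.1 gt.2) :
    (gs.map Prod.fst).prod = 1 ↔ isIdW (gs.map Prod.snd) = true := by
  constructor
  · intro e
    apply List.all_eq_true.mpr
    intro j hj
    rw [List.mem_range] at hj
    have e1 := spec_word gs h (unpos j)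
    rw [e, map_one, Equiv.Perm.one_apply, pos_unpos j hj] at e1
    rw [← e1]
    exact Nat.beq_refl _
  · intro hi
    apply cc12_inj
    rw [map_one]
    apply perm_ext_pos
    intro p
    rw [spec_word gs h, Equiv.Perm.one_apply]
    exact Nat.eq_of_beq_eq_true (List.all_eq_true.mp hi (pos p) (List.mem_range.mpr (pos_lt p)))

theorem prod_rep {M : Type*} [Monoid M] {α : Type*} (f : α → M) (L : List α) (n : ℕ) :
    (((List.replicate n L).flatten).map f).prod = ((L.map f).prod) ^ n := by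
  induction n with
  | zero => simp
  | succ n ih =>
    rw [List.replicate_succ, List.flatten_cons, List.map_append, List.prod_append, ih, pow_succ']

/-- The relations between the base involution and the second generator. -/
def Rel12 {G : Type*} [Group G] (x y : G) : Prop :=
  y ^ 3 = 1 ∧ (x * y) ^ 11 = 1 ∧ (x * y * x * y * y) ^ 6 = 1

theorem rel12_map {G : Type*} [Group G] (β : MulAut G) (x y : G) (h : Rel12 x y) :
    Rel12 (β x) (β y) := by
  obtain ⟨h1, h2, h3⟩ := h
  refine ⟨?_, ?_, ?_⟩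
  · rw [← map_pow, h1, map_one]
  · rw [← map_mul, ← map_pow, h2, map_one]
  · have e : β x * β y * β x * β y * β y = β (x * y * x * y * y) := by simp only [map_mul]
    rw [e, ← map_pow, h3, map_one]

theorem rel12_iff (x y : ↥M12b) (tx ty : ℕ) (hx : Spec12 x tx) (hy : Spec12 y ty) :
    Rel12 x y ↔ relOK12 tx ty = true := by
  have e1 : y ^ 3 = ((([(y, ty), (y, ty), (y, ty)] : List (↥M12b × ℕ)).map Prod.fst).prod) := by
    simp [pow_succ, mul_assoc]
  have e2 : (x * y) ^ 11
      = (((List.replicate 11 [(x, tx), (y, ty)]).flatten.map Prod.fst).prod) := by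
    rw [prod_rep]
    simp
  have e3 : (x * y * x * y * y) ^ 6
      = (((List.replicate 6 [(x, tx), (y, ty), (x, tx), (y, ty), (y, ty)]).flatten.map
        Prod.fst).prod) := by
    rw [prod_rep]
    simp [mul_assoc]
  have m1 : ∀ gt ∈ ([(y, ty), (y, ty), (y, ty)] : List (↥M12b × ℕ)), Spec12 gt.1 gt.2 := by
    intro gt hgt
    simp only [List.mem_cons, List.not_mem_nil, or_false, or_self] at hgt
    rw [hgt]
    exact hy
  have m2 : ∀ gt ∈ (List.replicate 11 [(x, tx), (y, ty)]).flatten, Spec12 gt.1 gt.2 := by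
    intro gt hgt
    rw [List.mem_flatten] at hgt
    obtain ⟨l, hl, hgl⟩ := hgt
    rw [List.eq_of_mem_replicate hl] at hgl
    simp only [List.mem_cons, List.not_mem_nil, or_false] at hgl
    rcases hgl with rfl | rfl
    · exact hx
    · exact hy
  have m3 : ∀ gt ∈ (List.replicate 6 [(x, tx), (y, ty), (x, tx), (y, ty), (y, ty)]).flatten,
      Spec12 gt.1 gt.2 := by
    intro gt hgt
    rw [List.mem_flatten] at hgt
    obtain ⟨l, hl, hgl⟩ := hgt
    rw [List.eq_of_mem_replicate hl] at hgl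
    simp only [List.mem_cons, List.not_mem_nil, or_false] at hgl
    rcases hgl with rfl | rfl | rfl | rfl | rfl
    · exact hx
    · exact hy
    · exact hx
    · exact hy
    · exact hy
  unfold Rel12 relOK12
  rw [e1, e2, e3, word_one_iff _ m1, word_one_iff _ m2, word_one_iff _ m3, Bool.and_eq_true,
    Bool.and_eq_true, and_assoc]
  exact Iff.rfl

/-- The base involution. -/
noncomputable def zz12 : ↥M12b := ⟨dE 4, (dc_spec 4 (by norm_num)).2.2.1⟩

theorem zz12_cc : cc12 zz12 = permT gzT := dz_coe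

theorem fz_eq : fzT = gzT := Nat.eq_of_beq_eq_true f_z

theorem zz12_spec : Spec12 zz12 fzT := by
  rw [fz_eq]
  exact spec_of_permT gz_tblOK zz12_cc

theorem fb_spec : tblOK fbT = true ∧ chkCode fbT fbC = true
    ∧ Nat.beq (pullBits fbT 340831 24) 340831 = true
    ∧ Nat.beq (pullBits fbT 16436384 24) 16436384 = true
    ∧ Nat.beq (pullBits fzT 16436384 24) 16436384 = true := by
  have h := fb_ok
  simp only [Bool.and_eq_true] at h
  exact ⟨h.1.1.1.1, h.1.1.1.2, h.1.1.2, h.1.2, h.2⟩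

/-- The second generator. -/
noncomputable def bb12 : ↥M12b :=
  ⟨mk24 fbT, mk24_mem_M12b fb_spec.1 fb_spec.2.1 fb_spec.2.2.1⟩

theorem bb12_cc : cc12 bb12 = permT fbT := mk24_coe fb_spec.1 fb_spec.2.1

theorem bb12_spec : Spec12 bb12 fbT := spec_of_permT fb_spec.1 bb12_cc

theorem rel_zz_bb12 : Rel12 zz12 bb12 :=
  (rel12_iff zz12 bb12 fzT fbT zz12_spec bb12_spec).mpr fb_rel

theorem slice_all (F : ℕ → Bool)
    (hP : ∀ j, j < 32 → ((List.range 10).all (fun a => (List.range 297).all (fun c =>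
      F (297 * (10 * j + a) + c)))) = true) (k : ℕ) (hk : k < 95040) : F k = true := by
  have hj : k / 2970 < 32 := by omega
  have h : F (297 * (10 * (k / 2970) + k % 2970 / 297) + k % 2970 % 297) = true :=
    List.all_eq_true.mp (List.all_eq_true.mp (hP (k / 2970) hj) (k % 2970 / 297)
      (List.mem_range.mpr (by omega))) (k % 2970 % 297)
      (List.mem_range.mpr (Nat.mod_lt _ (by norm_num)))
  have e : 297 * (10 * (k / 2970) + k % 2970 / 297) + k % 2970 % 297 = k := by omega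
  rw [e] at h
  exact h

theorem f_chk (k : ℕ) (hk : k < 95040) : fChk k = true :=
  slice_all fChk f_okP k hk

/-- The parent in the tree. -/
def fP (k : ℕ) : ℕ := fQ k &&& 131071

/-- The depth in the tree. -/
def fD (k : ℕ) : ℕ := (fQ k >>> 18) &&& 255

theorem f_ex : ∀ n k, k < 95040 → fD k = n →
    ∃ h : ↥M12b, h ∈ Subgroup.closure ({zz12, bb12} : Set ↥M12b) ∧ Spec12 h (fTab k) := by
  intro n
  induction n using Nat.strong_induction_on with
  | _ n ih =>
    intro k hk hd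
    have h := f_chk k hk
    unfold fChk at h
    rw [force_eq, force_eq, force_eq, force_eq] at h
    simp only [Bool.and_eq_true, Bool.or_eq_true] at h
    rcases h with h | ⟨⟨h1, h2⟩, h3⟩
    · have hk0 : k = fK0 := Nat.eq_of_beq_eq_true h
      refine ⟨1, one_mem _, ?_⟩
      intro p
      rw [map_one, Equiv.Perm.one_apply, hk0]
      exact (Nat.eq_of_beq_eq_true
        (List.all_eq_true.mp f_root (pos p) (List.mem_range.mpr (pos_lt p)))).symm
    · have c1 : fP k < 95040 := Nat.blt_eq.mp h1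
      have c2 : fD (fP k) < fD k := Nat.blt_eq.mp h2
      have c3 : fD (fP k) < n := by
        rw [← hd]
        exact c2
      obtain ⟨hp, hpm, hps⟩ := ih (fD (fP k)) c3 (fP k) c1 rfl
      by_cases hg : Nat.beq ((fQ k >>> 17) &&& 1) 0 = true
      · rw [if_pos hg] at h3
        refine ⟨hp * zz12, mul_mem hpm (Subgroup.subset_closure (by simp)), ?_⟩
        intro p
        rw [map_mul, Equiv.Perm.mul_apply, hps, zz12_spec]
        exact (Nat.eq_of_beq_eq_true
          (List.all_eq_true.mp h3 (pos p) (List.mem_range.mpr (pos_lt p)))).symm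
      · rw [if_neg hg] at h3
        refine ⟨hp * bb12, mul_mem hpm (Subgroup.subset_closure (by simp)), ?_⟩
        intro p
        rw [map_mul, Equiv.Perm.mul_apply, hps, bb12_spec]
        exact (Nat.eq_of_beq_eq_true
          (List.all_eq_true.mp h3 (pos p) (List.mem_range.mpr (pos_lt p)))).symm

/-- The listed elements. -/
noncomputable def fE (k : ℕ) : ↥M12b := by
  classical
  exact if h : k < 95040 then Classical.choose (f_ex _ k h rfl) else 1

theorem fE_spec (k : ℕ) (hk : k < 95040) :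
    fE k ∈ Subgroup.closure ({zz12, bb12} : Set ↥M12b) ∧ Spec12 (fE k) (fTab k) := by
  rw [fE, dif_pos hk]
  exact Classical.choose_spec (f_ex _ k hk rfl)

theorem fTab_lt (k : ℕ) : fTab k < 2 ^ 120 := by
  unfold fTab
  calc _ ≤ 0xffffffffffffffffffffffffffffff := Nat.and_le_right
    _ < 2 ^ 120 := by norm_num

theorem tab_eq_of_look {t t' : ℕ} (ht : t < 2 ^ 120) (ht' : t' < 2 ^ 120)
    (h : ∀ p < 24, look t p = look t' p) : t = t' := by
  apply Nat.eq_of_testBit_eq
  intro i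
  by_cases hi : i < 120
  · have h1 := h (i / 5) (by omega)
    have e : ∀ s : ℕ, s.testBit i = (look s (i / 5)).testBit (i % 5) := by
      intro s
      unfold look
      rw [Nat.testBit_and, Nat.testBit_shiftRight,
        show 5 * (i / 5) + i % 5 = i from Nat.div_add_mod i 5]
      have h5 : i % 5 < 5 := Nat.mod_lt _ (by norm_num)
      have h31 : (31 : ℕ).testBit (i % 5) = true := by
        generalize i % 5 = r at h5
        interval_cases r <;> rfl
      rw [h31, Bool.and_true]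
    rw [e t, e t', h1]
  · have hi' : 120 ≤ i := by omega
    rw [Nat.testBit_lt_two_pow (lt_of_lt_of_le ht (Nat.pow_le_pow_right (by norm_num) hi')),
      Nat.testBit_lt_two_pow (lt_of_lt_of_le ht' (Nat.pow_le_pow_right (by norm_num) hi'))]

theorem f_mono (a b : ℕ) (hab : a < b) (hb : b < 95040) : fTab a < fTab b := by
  apply lt_of_chain (fun i => fTab i) 95040 _ a b hab hb
  intro k hk
  have h : (Nat.beq k 95039 || Nat.blt (fTab k) (fTab (k + 1))) = true :=
    slice_all (fun k => Nat.beq k 95039 || Nat.blt (fTab k) (fTab (k + 1))) f_ltP k (by omega)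
  simp only [Bool.or_eq_true] at h
  rcases h with h | h
  · have := Nat.eq_of_beq_eq_true h
    omega
  · exact Nat.blt_eq.mp h

theorem fE_inj {i j : ℕ} (hi : i < 95040) (hj : j < 95040) (h : fE i = fE j) : i = j := by
  have hk : fTab i = fTab j := by
    apply tab_eq_of_look (fTab_lt i) (fTab_lt j)
    intro p hp
    have e1 := (fE_spec i hi).2 (unpos p)
    have e2 := (fE_spec j hj).2 (unpos p)
    rw [pos_unpos p hp] at e1 e2
    rw [← e1, ← e2, h]
  rcases Nat.lt_trichotomy i j with hlt | heq | hgt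
  · exact absurd hk (Nat.ne_of_lt (f_mono i j hlt hj))
  · exact heq
  · exact absurd hk.symm (Nat.ne_of_lt (f_mono j i hgt hi))

theorem f_all (g : ↥M12b) : ∃ k, k < 95040 ∧ g = fE k := by
  have e : fE '' ↑(Finset.range 95040) = (Set.univ : Set ↥M12b) := by
    apply Set.eq_of_subset_of_ncard_le (Set.subset_univ _)
    rw [Set.InjOn.ncard_image, Set.ncard_coe_finset, Finset.card_range, Set.ncard_univ,
      card_M12b]
    intro i hi j hj h
    exact fE_inj (Finset.mem_range.mp (Finset.mem_coe.mp hi))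
      (Finset.mem_range.mp (Finset.mem_coe.mp hj)) h
  have hg : g ∈ fE '' ↑(Finset.range 95040) := by
    rw [e]
    exact Set.mem_univ g
  obtain ⟨k, hk, rfl⟩ := hg
  exact ⟨k, Finset.mem_range.mp (Finset.mem_coe.mp hk), rfl⟩

theorem gen12_top : Subgroup.closure ({zz12, bb12} : Set ↥M12b) = ⊤ := by
  rw [eq_top_iff]
  intro g _
  obtain ⟨k, hk, rfl⟩ := f_all g
  exact (fE_spec k hk).1

/-- The two dodecads. -/
noncomputable def Dd : Finset GolayPt := support₂ (ofBits 340831)

noncomputable def Dc : Finset GolayPt := support₂ (ofBits 16436384)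

theorem fix_Dc (g : ↥M12b) : cc12 g • Dc = Dc := by
  have hz : cc12 zz12 • Dc = Dc := by
    rw [zz12_cc, ← fz_eq]
    exact permT_smul_of_pull' (by rw [fz_eq]; exact gz_tblOK) fb_spec.2.2.2.2
  have hb : cc12 bb12 • Dc = Dc := by
    rw [bb12_cc]
    exact permT_smul_of_pull' fb_spec.1 fb_spec.2.2.2.1
  have hle : Subgroup.closure ({zz12, bb12} : Set ↥M12b)
      ≤ (MulAction.stabilizer (Equiv.Perm GolayPt) Dc).comap cc12 := by
    rw [Subgroup.closure_le]
    intro x hx
    rcases hx with rfl | rfl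
    · exact hz
    · exact hb
  rw [gen12_top] at hle
  exact hle (Subgroup.mem_top g)

theorem g0_spec : tblOK g0T = true ∧ chkCode g0T g0C = true
    ∧ (permT g0T)⁻¹ • Dd = Dc ∧ (permT g0T)⁻¹ • Dc = Dd
    ∧ permT g0T * permT gzT = permT gzT * permT g0T := by
  have h := g0_ok
  simp only [Bool.and_eq_true] at h
  obtain ⟨⟨⟨⟨hok, hc⟩, h1⟩, h2⟩, h3⟩ := h
  refine ⟨hok, hc, ?_, ?_, (commT_spec hok gz_tblOK).mp h3⟩
  · rw [Dd, Dc, permT_inv_smul hok, Nat.eq_of_beq_eq_true h1]
  · rw [Dd, Dc, permT_inv_smul hok, Nat.eq_of_beq_eq_true h2]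

/-- The element exchanging the two dodecads. -/
noncomputable def g0 : ↥M24 := mk24 g0T

theorem g0_coe : ((g0 : ↥M24) : Equiv.Perm GolayPt) = permT g0T :=
  mk24_coe g0_spec.1 g0_spec.2.1

theorem g0_Dd : ((g0 : ↥M24) : Equiv.Perm GolayPt) • Dd = Dc := by
  rw [g0_coe]
  exact (inv_smul_eq_iff.mp g0_spec.2.2.2.1).symm

theorem g0_Dc : ((g0 : ↥M24) : Equiv.Perm GolayPt) • Dc = Dd := by
  rw [g0_coe]
  exact (inv_smul_eq_iff.mp g0_spec.2.2.1).symm

theorem mem_M12b' (x : ↥M24) : x ∈ M12b ↔ (x : Equiv.Perm GolayPt) • Dd = Dd := mem_M12b x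

theorem theta_mem (x : ↥M24) (hx : x ∈ M12b) : g0 * x * g0⁻¹ ∈ M12b := by
  rw [mem_M12b']
  show (((g0 : ↥M24) : Equiv.Perm GolayPt) * (x : Equiv.Perm GolayPt)
    * ((g0 : ↥M24) : Equiv.Perm GolayPt)⁻¹) • Dd = Dd
  have h1 : ((g0 : ↥M24) : Equiv.Perm GolayPt)⁻¹ • Dd = Dc := inv_smul_eq_iff.mpr g0_Dc.symm
  have h2 : (x : Equiv.Perm GolayPt) • Dc = Dc := fix_Dc ⟨x, hx⟩
  rw [mul_smul, mul_smul, h1, h2, g0_Dc]

theorem theta_mem' (x : ↥M24) (hx : x ∈ M12b) : g0⁻¹ * x * g0 ∈ M12b := by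
  rw [mem_M12b']
  show (((g0 : ↥M24) : Equiv.Perm GolayPt)⁻¹ * (x : Equiv.Perm GolayPt)
    * ((g0 : ↥M24) : Equiv.Perm GolayPt)) • Dd = Dd
  have h1 : ((g0 : ↥M24) : Equiv.Perm GolayPt)⁻¹ • Dc = Dd := inv_smul_eq_iff.mpr g0_Dd.symm
  have h2 : (x : Equiv.Perm GolayPt) • Dc = Dc := fix_Dc ⟨x, hx⟩
  rw [mul_smul, mul_smul, g0_Dd, h2, h1]

/-- The outer automorphism. -/
noncomputable def theta12 : MulAut ↥M12b where
  toFun x := ⟨g0 * (x : ↥M24) * g0⁻¹, theta_mem _ x.2⟩
  invFun x := ⟨g0⁻¹ * (x : ↥M24) * g0, theta_mem' _ x.2⟩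
  left_inv x := by
    apply Subtype.ext
    show g0⁻¹ * (g0 * (x : ↥M24) * g0⁻¹) * g0 = (x : ↥M24)
    group
  right_inv x := by
    apply Subtype.ext
    show g0 * (g0⁻¹ * (x : ↥M24) * g0) * g0⁻¹ = (x : ↥M24)
    group
  map_mul' x y := by
    apply Subtype.ext
    show g0 * ((x : ↥M24) * (y : ↥M24)) * g0⁻¹
      = (g0 * (x : ↥M24) * g0⁻¹) * (g0 * (y : ↥M24) * g0⁻¹)
    group

theorem theta12_cc (x : ↥M12b) : cc12 (theta12 x)
    = permT g0T * cc12 x * (permT g0T)⁻¹ := by
  rw [← g0_coe]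
  rfl

theorem theta_zz : theta12 zz12 = zz12 := by
  apply cc12_inj
  rw [theta12_cc, zz12_cc, g0_spec.2.2.2.2]
  group

/-- The second involution. -/
noncomputable def tt12 : ↥M12b := ⟨dE 58, (dc_spec 58 (by norm_num)).2.2.1⟩

theorem zz12_order : orderOf zz12 = 2 := by
  have h2 : zz12 ^ 2 = 1 := by
    apply cc12_inj
    rw [map_pow, zz12_cc, map_one]
    have h := gz_ok
    simp only [Bool.and_eq_true] at h
    exact (permT_pow_eq_one_iff gz_tblOK 2).mpr h.1.1
  have h1 : zz12 ≠ 1 := by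
    intro e
    have e2 := congrArg cc12 e
    rw [zz12_cc, map_one] at e2
    have h := gz_ok
    simp only [Bool.and_eq_true] at h
    have e3 := (permT_pow_eq_one_iff gz_tblOK 1).mp (by rw [pow_one]; exact e2)
    have h4 := h.1.2
    rw [e3] at h4
    exact absurd h4 (by decide)
  exact orderOf_eq_prime h2 h1

theorem conj12 (x : ↥M12b) (hx : orderOf x = 2) :
    ∃ v : ↥M12b, v * x * v⁻¹ = zz12 ∨ v * x * v⁻¹ = tt12 := by
  have hx2 : x ^ 2 = 1 := by
    rw [← hx]
    exact pow_orderOf_eq_one x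
  have hx1 : x ≠ 1 := by
    intro e
    rw [e, orderOf_one] at hx
    exact absurd hx (by norm_num)
  have hpx : IsPGroup 2 (Subgroup.zpowers x) :=
    IsPGroup.of_card (n := 1) (by rw [Nat.card_zpowers, hx, pow_one])
  obtain ⟨P, hP⟩ := hpx.exists_le_sylow
  have hK0 : Nat.card ↥(S12.subgroupOf M12b) = 2 ^ 6 := by
    rw [Nat.card_congr (Subgroup.subgroupOfEquivOfLe S12_le).toEquiv]
    exact card_S12
  have hpK : IsPGroup 2 (S12.subgroupOf M12b) := IsPGroup.of_card hK0
  obtain ⟨Q, hQ⟩ := hpK.exists_le_sylow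
  have hQ64 : Nat.card (Q : Subgroup ↥M12b) ≤ 2 ^ 6 := by
    obtain ⟨k, hk⟩ := IsPGroup.iff_card.mp Q.isPGroup'
    have hdvd := Subgroup.card_subgroup_dvd_card (Q : Subgroup ↥M12b)
    rw [hk, card_M12b] at hdvd
    have hk1 : k ≤ 6 := by
      by_contra hcon
      have h1 : 2 ^ 7 ∣ 2 ^ k := pow_dvd_pow 2 (by omega)
      have h2 := h1.trans hdvd
      norm_num at h2
    rw [hk]
    exact Nat.pow_le_pow_right (by norm_num) hk1
  have hKQ : S12.subgroupOf M12b = (Q : Subgroup ↥M12b) :=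
    Subgroup.eq_of_le_of_card_ge hQ (by rw [hK0]; exact hQ64)
  obtain ⟨u, hu⟩ := MulAction.exists_smul_eq ↥M12b P Q
  have hxP : x ∈ (P : Subgroup ↥M12b) := hP (Subgroup.mem_zpowers x)
  have hy : u * x * u⁻¹ ∈ (Q : Subgroup ↥M12b) := by
    rw [← hu, Sylow.coe_subgroup_smul]
    exact Subgroup.smul_mem_pointwise_smul x (MulAut.conj u) (P : Subgroup ↥M12b) hxP
  rw [← hKQ, Subgroup.mem_subgroupOf] at hy
  obtain ⟨i, hi, hmi, hyi⟩ := S12_exists _ hy
  obtain ⟨hok, hcoe, -⟩ := dc_spec i hi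
  have hcc : cc12 (u * x * u⁻¹) = permT (dcTab i) := by
    rw [← hcoe, ← hyi]
    rfl
  have h5 : (u * x * u⁻¹) ^ 2 = 1 := by
    rw [conj_pow, hx2]
    group
  have hsq : isId (dcTab i) 2 = true := by
    rw [← permT_pow_eq_one_iff hok 2, ← hcc, ← map_pow, h5, map_one]
  have hne : isId (dcTab i) 1 ≠ true := by
    intro h1
    have h2 := (permT_pow_eq_one_iff hok 1).mpr h1
    rw [pow_one, ← hcc] at h2
    have h3 : u * x * u⁻¹ = 1 := cc12_inj (by rw [map_one]; exact h2)
    apply hx1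
    have h6 : x = u⁻¹ * (u * x * u⁻¹) * u := by group
    rw [h6, h3]
    group
  have hcov := List.all_eq_true.mp d_cover i (List.mem_range.mpr hi)
  rw [hmi, hsq] at hcov
  simp only [Bool.not_true, Bool.false_or, Bool.or_eq_true] at hcov
  rcases hcov with hcov | hcov
  · exact absurd hcov hne
  obtain ⟨r, hr, er⟩ := List.any_eq_true.mp hcov
  rw [List.mem_range] at hr
  have er' := Nat.eq_of_beq_eq_true er
  obtain ⟨-, -, hwH, hw⟩ := dw_spec r hr
  rw [er', ← hyi] at hw
  refine ⟨(⟨mk24 (dwTab r), hwH⟩ : ↥M12b)⁻¹ * u, ?_⟩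
  have key : (((⟨mk24 (dwTab r), hwH⟩ : ↥M12b)⁻¹ * u * x
      * ((⟨mk24 (dwTab r), hwH⟩ : ↥M12b)⁻¹ * u)⁻¹ : ↥M12b) : ↥M24) = dE (dRep (dC r)) := by
    show (mk24 (dwTab r))⁻¹ * (u : ↥M24) * (x : ↥M24)
      * ((mk24 (dwTab r))⁻¹ * (u : ↥M24))⁻¹ = dE (dRep (dC r))
    have e : (u : ↥M24) * (x : ↥M24) * (u : ↥M24)⁻¹ = ((u * x * u⁻¹ : ↥M12b) : ↥M24) := rfl
    calc (mk24 (dwTab r))⁻¹ * (u : ↥M24) * (x : ↥M24) * ((mk24 (dwTab r))⁻¹ * (u : ↥M24))⁻¹
        = (mk24 (dwTab r))⁻¹
          * (((u : ↥M24) * (x : ↥M24) * (u : ↥M24)⁻¹) * mk24 (dwTab r)) := by group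
      _ = (mk24 (dwTab r))⁻¹ * (mk24 (dwTab r) * dE (dRep (dC r))) := by rw [e, hw]
      _ = dE (dRep (dC r)) := by group
  have hc2 := dC_lt r
  rcases Nat.lt_or_ge (dC r) 1 with h0 | h1
  · left
    apply Subtype.ext
    rw [key]
    have e0 : dC r = 0 := by omega
    rw [e0]
    rfl
  · right
    apply Subtype.ext
    rw [key]
    have e1 : dC r = 1 := by omega
    rw [e1]
    rfl

theorem y5_spec : ∃ y : ↥M12b, y ^ 5 = 1 ∧ y ≠ 1 ∧ y * tt12 = tt12 * y := by
  have h := y5_ok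
  simp only [Bool.and_eq_true] at h
  obtain ⟨⟨⟨⟨⟨hok, hc⟩, hd⟩, hcm⟩, h5⟩, h1⟩ := h
  have hcoe : cc12 ⟨mk24 y5T, mk24_mem_M12b hok hc hd⟩ = permT y5T := mk24_coe hok hc
  refine ⟨⟨mk24 y5T, mk24_mem_M12b hok hc hd⟩, ?_, ?_, ?_⟩
  · apply cc12_inj
    rw [map_pow, hcoe, map_one]
    exact (permT_pow_eq_one_iff hok 5).mpr h5
  · intro e
    have e2 := congrArg cc12 e
    rw [hcoe, map_one] at e2
    have e3 := (permT_pow_eq_one_iff hok 1).mp (by rw [pow_one]; exact e2)
    rw [e3] at h1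
    exact absurd h1 (by decide)
  · apply cc12_inj
    rw [map_mul, map_mul, hcoe]
    have ht : cc12 tt12 = permT (dcTab 58) := (dc_spec 58 (by norm_num)).2.1
    rw [ht]
    exact (commT_spec hok (dc_spec 58 (by norm_num)).1).mp hcm

theorem no5_cent (y : ↥M12b) (h5 : y ^ 5 = 1) (hc : y * zz12 = zz12 * y) : y = 1 := by
  have hcm : cc12 y * permT gzT = permT gzT * cc12 y := by
    rw [← zz12_cc, ← map_mul, ← map_mul, hc]
  have hC : (y : ↥M24) ∈ C12 := (mem_C12 _).mpr ⟨y.2, comm_Fz8 hcm⟩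
  obtain ⟨i, hi, e⟩ := C12_exists _ hC
  obtain ⟨hok, hcoe, -⟩ := dc_spec i hi
  have hcc : cc12 y = permT (dcTab i) := by
    rw [← hcoe, ← e]
    rfl
  have h55 : isId (dcTab i) 5 = true := by
    rw [← permT_pow_eq_one_iff hok 5, ← hcc, ← map_pow, h5, map_one]
  have hh := List.all_eq_true.mp d_no5 i (List.mem_range.mpr hi)
  rw [h55] at hh
  simp only [Bool.not_true, Bool.false_or] at hh
  have h1 := (permT_pow_eq_one_iff hok 1).mpr hh
  rw [pow_one, ← hcc] at h1
  exact cc12_inj (by rw [map_one]; exact h1)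

theorem f_relk (k : ℕ) (hk : k < 95040) : fRel k = true :=
  slice_all fRel f_relP k hk

theorem aut12 (α : MulAut ↥M12b) : (∃ g : ↥M12b, α = MulAut.conj g)
    ∨ (∃ g : ↥M12b, α = MulAut.conj g * theta12) := by
  have hz2 : orderOf (α zz12) = 2 := by
    rw [MulEquiv.orderOf_eq]
    exact zz12_order
  obtain ⟨v, hv⟩ := conj12 (α zz12) hz2
  have hv' : v * α zz12 * v⁻¹ = zz12 := by
    rcases hv with hv | hv
    · exact hv
    · exfalso
      obtain ⟨y, y5, y1, yc⟩ := y5_spec
      have hα : α (α.symm (v⁻¹ * y * v)) = v⁻¹ * y * v := α.apply_symm_apply _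
      have h1 : α.symm (v⁻¹ * y * v) = 1 := by
        apply no5_cent
        · apply α.injective
          rw [map_pow, hα, map_one]
          have e5 : (v⁻¹ * y * v) ^ 5 = v⁻¹ * y ^ 5 * v := by
            have h9 := conj_pow (a := v⁻¹) (b := y) (i := 5)
            rwa [inv_inv] at h9
          rw [e5, y5]
          group
        · apply α.injective
          rw [map_mul α (α.symm (v⁻¹ * y * v)) zz12, map_mul α zz12 (α.symm (v⁻¹ * y * v)), hα]
          have e : α zz12 = v⁻¹ * tt12 * v := by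
            rw [← hv]
            group
          rw [e]
          calc v⁻¹ * y * v * (v⁻¹ * tt12 * v) = v⁻¹ * (y * tt12) * v := by group
            _ = v⁻¹ * (tt12 * y) * v := by rw [yc]
            _ = v⁻¹ * tt12 * v * (v⁻¹ * y * v) := by group
      apply y1
      have h2 : v⁻¹ * y * v = 1 := by rw [← hα, h1, map_one]
      calc y = v * (v⁻¹ * y * v) * v⁻¹ := by group
        _ = 1 := by
          rw [h2]
          group
  have hβz : (MulAut.conj v * α) zz12 = zz12 := by
    rw [MulAut.mul_apply, MulAut.conj_apply]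
    exact hv'
  obtain ⟨k, hk, ek⟩ := f_all ((MulAut.conj v * α) bb12)
  obtain ⟨-, hspk⟩ := fE_spec k hk
  have hrel := rel12_map (MulAut.conj v * α) zz12 bb12 rel_zz_bb12
  rw [hβz, ek] at hrel
  have hrel' := (rel12_iff zz12 (fE k) fzT (fTab k) zz12_spec hspk).mp hrel
  have h := f_relk k hk
  unfold fRel at h
  rw [force_eq, force_eq] at h
  simp only [Bool.or_eq_true, Bool.and_eq_true] at h
  rcases h with ⟨⟨hfl, hcw⟩, hty⟩ | ⟨⟨hfl, hwp⟩, hne⟩
  · have hc := Nat.blt_eq.mp hcw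
    obtain ⟨hokc, hcoec, hcM, -, hcm⟩ := dc_spec _ hc
    have hccc : cc12 ⟨dE ((fQ k >>> 34) &&& 255), hcM⟩ = permT (dcTab ((fQ k >>> 34) &&& 255)) :=
      hcoec
    have hcz : (⟨dE ((fQ k >>> 34) &&& 255), hcM⟩ : ↥M12b) * zz12
        = zz12 * ⟨dE ((fQ k >>> 34) &&& 255), hcM⟩ := by
      apply cc12_inj
      rw [map_mul, map_mul, zz12_cc, hccc]
      exact (commT_spec hokc gz_tblOK).mp hcm
    rcases hty with ⟨-, h0⟩ | ⟨-, h1⟩
    · left
      have hcb : fE k * ⟨dE ((fQ k >>> 34) &&& 255), hcM⟩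
          = ⟨dE ((fQ k >>> 34) &&& 255), hcM⟩ * bb12 := by
        apply cc12_inj
        apply perm_ext_pos
        intro p
        rw [map_mul, map_mul, Equiv.Perm.mul_apply, Equiv.Perm.mul_apply, hspk, hccc,
          pos_permT hokc, pos_permT hokc, bb12_spec]
        exact Nat.eq_of_beq_eq_true
          (List.all_eq_true.mp h0 (pos p) (List.mem_range.mpr (pos_lt p)))
      have hβ : MulAut.conj v * α
          = MulAut.conj (⟨dE ((fQ k >>> 34) &&& 255), hcM⟩ : ↥M12b) := by
        apply MulEquiv.toMonoidHom_injective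
        apply MonoidHom.eq_of_eqOn_dense gen12_top
        intro x hx
        rcases hx with rfl | rfl
        · show (MulAut.conj v * α) zz12
            = MulAut.conj (⟨dE ((fQ k >>> 34) &&& 255), hcM⟩ : ↥M12b) zz12
          rw [hβz, MulAut.conj_apply, hcz]
          group
        · show (MulAut.conj v * α) bb12
            = MulAut.conj (⟨dE ((fQ k >>> 34) &&& 255), hcM⟩ : ↥M12b) bb12
          rw [ek, MulAut.conj_apply, ← hcb]
          group
      refine ⟨v⁻¹ * ⟨dE ((fQ k >>> 34) &&& 255), hcM⟩, ?_⟩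
      rw [map_mul, ← hβ, map_inv, inv_mul_cancel_left]
    · right
      have hT : cc12 (fE k) * permT (dcTab ((fQ k >>> 34) &&& 255)) * permT g0T
          = permT (dcTab ((fQ k >>> 34) &&& 255)) * permT g0T * permT fbT := by
        apply perm_ext_pos
        intro p
        rw [Equiv.Perm.mul_apply, Equiv.Perm.mul_apply, Equiv.Perm.mul_apply,
          Equiv.Perm.mul_apply, hspk, pos_permT hokc, pos_permT g0_spec.1, pos_permT hokc,
          pos_permT g0_spec.1, pos_permT fb_spec.1]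
        exact Nat.eq_of_beq_eq_true
          (List.all_eq_true.mp h1 (pos p) (List.mem_range.mpr (pos_lt p)))
      have hcb : (MulAut.conj (⟨dE ((fQ k >>> 34) &&& 255), hcM⟩ : ↥M12b) * theta12) bb12
          = fE k := by
        apply cc12_inj
        rw [MulAut.mul_apply, MulAut.conj_apply, map_mul, map_mul, map_inv, theta12_cc, hccc,
          bb12_cc]
        calc permT (dcTab ((fQ k >>> 34) &&& 255)) * (permT g0T * permT fbT * (permT g0T)⁻¹)
              * (permT (dcTab ((fQ k >>> 34) &&& 255)))⁻¹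
            = (permT (dcTab ((fQ k >>> 34) &&& 255)) * permT g0T * permT fbT) * (permT g0T)⁻¹
              * (permT (dcTab ((fQ k >>> 34) &&& 255)))⁻¹ := by group
          _ = (cc12 (fE k) * permT (dcTab ((fQ k >>> 34) &&& 255)) * permT g0T)
              * (permT g0T)⁻¹ * (permT (dcTab ((fQ k >>> 34) &&& 255)))⁻¹ := by rw [hT]
          _ = cc12 (fE k) := by group
      have hβ : MulAut.conj v * α
          = MulAut.conj (⟨dE ((fQ k >>> 34) &&& 255), hcM⟩ : ↥M12b) * theta12 := by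
        apply MulEquiv.toMonoidHom_injective
        apply MonoidHom.eq_of_eqOn_dense gen12_top
        intro x hx
        rcases hx with rfl | rfl
        · show (MulAut.conj v * α) zz12
            = (MulAut.conj (⟨dE ((fQ k >>> 34) &&& 255), hcM⟩ : ↥M12b) * theta12) zz12
          rw [hβz, MulAut.mul_apply, theta_zz, MulAut.conj_apply, hcz]
          group
        · show (MulAut.conj v * α) bb12
            = (MulAut.conj (⟨dE ((fQ k >>> 34) &&& 255), hcM⟩ : ↥M12b) * theta12) bb12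
          rw [ek, hcb]
      refine ⟨v⁻¹ * ⟨dE ((fQ k >>> 34) &&& 255), hcM⟩, ?_⟩
      rw [map_mul, mul_assoc, ← hβ, map_inv, inv_mul_cancel_left]
  · exfalso
    have hsel : isIdW (vsel ((fQ k >>> 27) &&& 3) fzT (fTab k)) = true := by
      unfold relOK12 at hrel'
      simp only [Bool.and_eq_true] at hrel'
      unfold vsel
      split
      · exact hrel'.1.1
      · split
        · exact hrel'.1.2
        · exact hrel'.2
    have h6 := List.all_eq_true.mp hsel _ (List.mem_range.mpr (Nat.blt_eq.mp hwp))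
    rw [h6] at hne
    exact absurd hne (by decide)

theorem theta_not_inner (m : ↥M12b) : theta12 ≠ MulAut.conj m := by
  intro e
  have h := x4_ok
  simp only [Bool.and_eq_true] at h
  obtain ⟨⟨⟨⟨hok, hc⟩, hd⟩, hfix⟩, hno⟩ := h
  have hx4 : cc12 ⟨mk24 x4T, mk24_mem_M12b hok hc hd⟩ = permT x4T := mk24_coe hok hc
  have e1 : theta12 ⟨mk24 x4T, mk24_mem_M12b hok hc hd⟩
      = m * ⟨mk24 x4T, mk24_mem_M12b hok hc hd⟩ * m⁻¹ := by
    rw [e, MulAut.conj_apply]
  have e2 := congrArg cc12 e1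
  rw [theta12_cc, map_mul, map_mul, map_inv, hx4] at e2
  have hu : (cc12 m)⁻¹ * permT g0T * permT x4T
      = permT x4T * ((cc12 m)⁻¹ * permT g0T) := by
    calc (cc12 m)⁻¹ * permT g0T * permT x4T
        = (cc12 m)⁻¹ * (permT g0T * permT x4T * (permT g0T)⁻¹) * permT g0T := by group
      _ = (cc12 m)⁻¹ * (cc12 m * permT x4T * (cc12 m)⁻¹) * permT g0T := by rw [e2]
      _ = permT x4T * ((cc12 m)⁻¹ * permT g0T) := by group
  have hp0 : permT x4T (unpos 0) = unpos 0 := permT_fix hok (by norm_num) hfix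
  have hqfix : permT x4T (((cc12 m)⁻¹ * permT g0T) (unpos 0))
      = ((cc12 m)⁻¹ * permT g0T) (unpos 0) := by
    have h7 := congrArg (fun f => f (unpos 0)) hu
    simp only [Equiv.Perm.mul_apply] at h7
    rw [hp0] at h7
    simp only [Equiv.Perm.mul_apply]
    exact h7.symm
  have hqD : ((cc12 m)⁻¹ * permT g0T) (unpos 0) ∈ Dc := by
    have h0 : unpos 0 ∈ Dd := g_p_mem
    have h1 : permT g0T (unpos 0) ∈ Dc := by
      rw [← g0_Dd, g0_coe]
      exact Finset.smul_mem_smul_finset h0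
    have h2 : (cc12 m)⁻¹ • Dc = Dc := by
      rw [inv_smul_eq_iff]
      exact (fix_Dc m).symm
    rw [Equiv.Perm.mul_apply, ← h2]
    exact Finset.smul_mem_smul_finset h1
  have hq2 : Nat.testBit 16436384 (pos (((cc12 m)⁻¹ * permT g0T) (unpos 0))) = true :=
    (mem_support₂_ofBits _ _).mp hqD
  have hh := List.all_eq_true.mp hno (pos (((cc12 m)⁻¹ * permT g0T) (unpos 0)))
    (List.mem_range.mpr (pos_lt _))
  rw [hq2] at hh
  simp only [Bool.not_true, Bool.false_or] at hh
  have e5 := congrArg pos hqfix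
  rw [pos_permT hok] at e5
  rw [e5, Nat.beq_refl] at hh
  exact absurd hh (by decide)

theorem out_index_two {G : Type*} [Group G] (θ : MulAut G) (hθ : ∀ g : G, θ ≠ MulAut.conj g)
    (h : ∀ α : MulAut G, (∃ g : G, α = MulAut.conj g) ∨ (∃ g : G, α = MulAut.conj g * θ)) :
    (Cfsg.Inn G).index = 2 := by
  rw [Subgroup.index_eq_two_iff_exists_notMem_and]
  refine ⟨θ, ?_, fun α => ?_⟩
  · rintro ⟨g, hg⟩
    exact hθ g hg.symm
  · rcases h (α * θ) with ⟨g, hg⟩ | ⟨g, hg⟩
    · exact Or.inl ⟨g, hg.symm⟩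
    · exact Or.inr ⟨g, (mul_right_cancel hg).symm⟩

theorem inn_map {G G' : Type*} [Group G] [Group G'] (ι : G ≃* G') :
    (Cfsg.Inn G).map ((MulAut.congr ι : MulAut G ≃* MulAut G') : MulAut G →* MulAut G')
      = Cfsg.Inn G' := by
  ext α'
  constructor
  · rintro ⟨α, ⟨g, rfl⟩, rfl⟩
    refine ⟨ι g, ?_⟩
    ext x
    simp [MulAut.congr]
  · rintro ⟨g', rfl⟩
    refine ⟨MulAut.conj (ι.symm g'), ⟨ι.symm g', rfl⟩, ?_⟩
    ext x
    simp [MulAut.congr]

theorem final2061 : Nat.card (Cfsg.Out ↥Cfsg.Spor.M12) = 2 := by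
  show (Cfsg.Inn ↥Cfsg.Spor.M12).index = 2
  rw [← inn_map iotaM12, Subgroup.index_map_equiv]
  exact out_index_two theta12 theta_not_inner aut12

end Cfsg.Agent.Helper1.Golay
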