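import Mathlib
import Cfsg.Agent.Helper1.Fam
import Cfsg.Agent.Helper1.FamISO

set_option autoImplicit false

namespace Cfsg.Agent.Helper1.Golay

open Cfsg
open scoped Pointwise

/-! ### Permutations given by position tables -/

/-- The map of the points given by a position table. -/
def tblFun (t : ℕ) : GolayPt → GolayPt := fun p => unpos (look t (pos p))

/-- The inverse table. -/
def invT (t : ℕ) : ℕ := (List.range 24).foldl (fun acc j => acc + j * 2 ^ (5 * look t j)) 0

/-- The check that `t'` is a table inverse to `t`. -/
def tblChk (t t' : ℕ) : Bool :=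
  (List.range 24).all (fun j => Nat.blt (look t j) 24 && Nat.beq (look t' (look t j)) j
    && Nat.blt (look t' j) 24 && Nat.beq (look t (look t' j)) j)

/-- The check that a table is a bijection of the 24 positions. -/
def tblOK (t : ℕ) : Bool := tblChk t (invT t)

theorem tblChk_spec {t t' : ℕ} (h : tblChk t t' = true) (j : ℕ) (hj : j < 24) :
    look t j < 24 ∧ look t' (look t j) = j ∧ look t' j < 24 ∧ look t (look t' j) = j := by
  have h1 := List.all_eq_true.mp h j (List.mem_range.mpr hj)
  simp only [Bool.and_eq_true] at h1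
  exact ⟨Nat.blt_eq.mp h1.1.1.1, Nat.eq_of_beq_eq_true h1.1.1.2, Nat.blt_eq.mp h1.1.2,
    Nat.eq_of_beq_eq_true h1.2⟩

theorem tblFun_left {t t' : ℕ} (h : tblChk t t' = true) :
    Function.LeftInverse (tblFun t') (tblFun t) := by
  intro p
  obtain ⟨h1, h2, -, -⟩ := tblChk_spec h (pos p) (pos_lt p)
  show unpos (look t' (pos (unpos (look t (pos p))))) = p
  rw [pos_unpos _ h1, h2, unpos_pos]

theorem tblFun_right {t t' : ℕ} (h : tblChk t t' = true) :
    Function.RightInverse (tblFun t') (tblFun t) := by
  intro p
  obtain ⟨-, -, h1, h2⟩ := tblChk_spec h (pos p) (pos_lt p)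
  show unpos (look t (pos (unpos (look t' (pos p))))) = p
  rw [pos_unpos _ h1, h2, unpos_pos]

/-- The permutation of a table (the identity for a table that is not a bijection). -/
noncomputable def permT (t : ℕ) : Equiv.Perm GolayPt :=
  if h : tblOK t = true then ⟨tblFun t, tblFun (invT t), tblFun_left h, tblFun_right h⟩ else 1

theorem permT_apply {t : ℕ} (h : tblOK t = true) (p : GolayPt) : permT t p = tblFun t p := by
  rw [permT, dif_pos h]
  rfl

theorem pos_permT {t : ℕ} (h : tblOK t = true) (p : GolayPt) :
    pos (permT t p) = look t (pos p) := by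
  rw [permT_apply h]
  exact pos_unpos _ (tblChk_spec h (pos p) (pos_lt p)).1

/-- The check that the table preserves the code: `C` packs the coordinates of the pulled back
generating words. -/
def chkCode (t C : ℕ) : Bool :=
  (List.range 23).all (fun s => Nat.beq (pullBits t (qbits s) 24)
    (comb ((C >>> (12 * s)) &&& 4095)))

theorem permT_inv_smul {t : ℕ} (h : tblOK t = true) (m : ℕ) :
    (permT t)⁻¹ • support₂ (ofBits m) = support₂ (ofBits (pullBits t m 24)) :=
  (support_pullBits (permT t) t (pos_permT h) m).symm

theorem permT_mem {t C : ℕ} (h : tblOK t = true) (hc : chkCode t C = true) : permT t ∈ M24 := by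
  apply mem_M24_of_comp
  intro s
  have h1 := Nat.eq_of_beq_eq_true
    (List.all_eq_true.mp hc s.val (List.mem_range.mpr (ZMod.val_lt s)))
  have h2 : qrWord s ∘ permT t = ofBits (comb ((C >>> (12 * s.val)) &&& 4095)) := by
    apply support₂_injective
    rw [← inv_smul_support₂, ← h1, ← permT_inv_smul h,
      show qrWord s = ofBits (qbits s.val) from funext (qrWord_eq_ofBits s)]
  rw [h2]
  exact ofBits_comb_mem _

theorem perm_ext_pos {g h : Equiv.Perm GolayPt} (e : ∀ p, pos (g p) = pos (h p)) : g = h :=
  Equiv.ext (fun p => pos_injective (e p))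

theorem pos_permT_mul {t t' : ℕ} (h : tblOK t = true) (h' : tblOK t' = true) (p : GolayPt) :
    pos ((permT t * permT t') p) = look t (look t' (pos p)) := by
  rw [Equiv.Perm.mul_apply, pos_permT h, pos_permT h']

end Cfsg.Agent.Helper1.Golay
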