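import Mathlib
import Cfsg.Agent.Helper1.Golay6
import Cfsg.Agent.Helper1.Sx2062D1
import Cfsg.Agent.Helper1.Sx2062D2
import Cfsg.Agent.Helper1.Sx2062D3
import Cfsg.Agent.Helper1.Sx2062D4
import Cfsg.Agent.Helper1.Tbl

set_option autoImplicit false
set_option maxRecDepth 1000000

namespace Cfsg.Agent.Helper1.Golay

/-- The chunks of the packed tables of all the elements. -/
def hCL : List (List (List ℕ)) :=
  [[[hT0, hT1, hT2, hT3, hT4, hT5, hT6],
      [hT7, hT8, hT9, hT10, hT11, hT12, hT13],
      [hT14, hT15, hT16, hT17, hT18, hT19, hT20],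
      [hT21, hT22, hT23, hT24, hT25, hT26, hT27],
      [hT28, hT29, hT30, hT31, hT32, hT33, hT34],
      [hT35, hT36, hT37, hT38, hT39, hT40, hT41],
      [hT42, hT43, hT44, hT45, hT46, hT47, hT48],
      [hT49, hT50, hT51, hT52, hT53, hT54, hT55]],
    [[hT56, hT57, hT58, hT59, hT60, hT61, hT62],
      [hT63, hT64, hT65, hT66, hT67, hT68, hT69],
      [hT70, hT71, hT72, hT73, hT74, hT75, hT76],
      [hT77, hT78, hT79, hT80, hT81, hT82, hT83],
      [hT84, hT85, hT86, hT87, hT88, hT89, hT90],
      [hT91, hT92, hT93, hT94, hT95, hT96, hT97],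
      [hT98, hT99, hT100, hT101, hT102, hT103, hT104],
      [hT105, hT106, hT107, hT108, hT109, hT110, hT111]],
    [[hT112, hT113, hT114, hT115, hT116, hT117, hT118],
      [hT119, hT120, hT121, hT122, hT123, hT124, hT125],
      [hT126, hT127, hT128, hT129, hT130, hT131, hT132],
      [hT133, hT134, hT135, hT136, hT137, hT138, hT139],
      [hT140, hT141, hT142, hT143, hT144, hT145, hT146],
      [hT147, hT148, hT149, hT150, hT151, hT152, hT153],
      [hT154, hT155, hT156, hT157, hT158, hT159, hT160],
      [hT161, hT162, hT163, hT164, hT165, hT166, hT167]],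
    [[hT168, hT169, hT170, hT171, hT172, hT173, hT174],
      [hT175, hT176, hT177, hT178, hT179, hT180, hT181],
      [hT182, hT183, hT184, hT185, hT186, hT187, hT188],
      [hT189, hT190, hT191, hT192, hT193, hT194, hT195],
      [hT196, hT197, hT198, hT199, hT200, hT201, hT202],
      [hT203, hT204, hT205, hT206, hT207, hT208, hT209],
      [hT210, hT211, hT212, hT213, hT214, hT215, hT216],
      [hT217, hT218, hT219, hT220, hT221, hT222, hT223]],
    [[hT224, hT225, hT226, hT227, hT228, hT229, hT230],
      [hT231, hT232, hT233, hT234, hT235, hT236, hT237],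
      [hT238, hT239, hT240, hT241, hT242, hT243, hT244],
      [hT245, hT246, hT247, hT248, hT249, hT250, hT251],
      [hT252, hT253, hT254, hT255, hT256, hT257, hT258],
      [hT259, hT260, hT261, hT262, hT263, hT264, hT265],
      [hT266, hT267, hT268, hT269, hT270, hT271, hT272],
      [hT273, hT274, hT275, hT276, hT277, hT278, hT279]],
    [[hT280, hT281, hT282, hT283, hT284, hT285, hT286],
      [hT287, hT288, hT289, hT290, hT291, hT292, hT293],
      [hT294, hT295, hT296, hT297, hT298, hT299, hT300],
      [hT301, hT302, hT303, hT304, hT305, hT306, hT307],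
      [hT308, hT309, hT310, hT311, hT312, hT313, hT314],
      [hT315, hT316, hT317, hT318, hT319, hT320, hT321],
      [hT322, hT323, hT324, hT325, hT326, hT327, hT328],
      [hT329, hT330, hT331, hT332, hT333, hT334, hT335]],
    [[hT336, hT337, hT338, hT339, hT340, hT341, hT342],
      [hT343, hT344, hT345, hT346, hT347, hT348, hT349],
      [hT350, hT351, hT352, hT353, hT354, hT355, hT356],
      [hT357, hT358, hT359, hT360, hT361, hT362, hT363],
      [hT364, hT365, hT366, hT367, hT368, hT369, hT370],
      [hT371, hT372, hT373, hT374, hT375, hT376, hT377],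
      [hT378, hT379, hT380, hT381, hT382, hT383, hT384],
      [hT385, hT386, hT387, hT388, hT389, hT390, hT391]],
    [[hT392, hT393, hT394, hT395, hT396, hT397, hT398],
      [hT399, hT400, hT401, hT402, hT403, hT404, hT405],
      [hT406, hT407, hT408, hT409, hT410, hT411, hT412],
      [hT413, hT414, hT415, hT416, hT417, hT418, hT419],
      [hT420, hT421, hT422, hT423, hT424, hT425, hT426],
      [hT427, hT428, hT429, hT430, hT431, hT432, hT433],
      [hT434, hT435, hT436, hT437, hT438, hT439, hT440],
      [hT441, hT442, hT443, hT444, hT445, hT446, hT447]]]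

/-- The chunks of the generation tree and of the witnesses. -/
def hUL : List (List (List ℕ)) :=
  [[[hU0, hU1, hU2, hU3, hU4, hU5, hU6],
      [hU7, hU8, hU9, hU10, hU11, hU12, hU13],
      [hU14, hU15, hU16, hU17, hU18, hU19, hU20],
      [hU21, hU22, hU23, hU24, hU25, hU26, hU27],
      [hU28, hU29, hU30, hU31, hU32, hU33, hU34],
      [hU35, hU36, hU37, hU38, hU39, hU40, hU41],
      [hU42, hU43, hU44, hU45, hU46, hU47, hU48],
      [hU49, hU50, hU51, hU52, hU53, hU54, hU55]],
    [[hU56, hU57, hU58, hU59, hU60, hU61, hU62],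
      [hU63, hU64, hU65, hU66, hU67, hU68, hU69],
      [hU70, hU71, hU72, hU73, hU74, hU75, hU76],
      [hU77, hU78, hU79, hU80, hU81, hU82, hU83],
      [hU84, hU85, hU86, hU87, hU88, hU89, hU90],
      [hU91, hU92, hU93, hU94, hU95, hU96, hU97],
      [hU98, hU99, hU100, hU101, hU102, hU103, hU104],
      [hU105, hU106, hU107, hU108, hU109, hU110, hU111]],
    [[hU112, hU113, hU114, hU115, hU116, hU117, hU118],
      [hU119, hU120, hU121, hU122, hU123, hU124, hU125],
      [hU126, hU127, hU128, hU129, hU130, hU131, hU132],
      [hU133, hU134, hU135, hU136, hU137, hU138, hU139],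
      [hU140, hU141, hU142, hU143, hU144, hU145, hU146],
      [hU147, hU148, hU149, hU150, hU151, hU152, hU153],
      [hU154, hU155, hU156, hU157, hU158, hU159, hU160],
      [hU161, hU162, hU163, hU164, hU165, hU166, hU167]],
    [[hU168, hU169, hU170, hU171, hU172, hU173, hU174],
      [hU175, hU176, hU177, hU178, hU179, hU180, hU181],
      [hU182, hU183, hU184, hU185, hU186, hU187, hU188],
      [hU189, hU190, hU191, hU192, hU193, hU194, hU195],
      [hU196, hU197, hU198, hU199, hU200, hU201, hU202],
      [hU203, hU204, hU205, hU206, hU207, hU208, hU209],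
      [hU210, hU211, hU212, hU213, hU214, hU215, hU216],
      [hU217, hU218, hU219, hU220, hU221, hU222, hU223]],
    [[hU224, hU225, hU226, hU227, hU228, hU229, hU230],
      [hU231, hU232, hU233, hU234, hU235, hU236, hU237],
      [hU238, hU239, hU240, hU241, hU242, hU243, hU244],
      [hU245, hU246, hU247, hU248, hU249, hU250, hU251],
      [hU252, hU253, hU254, hU255, hU256, hU257, hU258],
      [hU259, hU260, hU261, hU262, hU263, hU264, hU265],
      [hU266, hU267, hU268, hU269, hU270, hU271, hU272],
      [hU273, hU274, hU275, hU276, hU277, hU278, hU279]],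
    [[hU280, hU281, hU282, hU283, hU284, hU285, hU286],
      [hU287, hU288, hU289, hU290, hU291, hU292, hU293],
      [hU294, hU295, hU296, hU297, hU298, hU299, hU300],
      [hU301, hU302, hU303, hU304, hU305, hU306, hU307],
      [hU308, hU309, hU310, hU311, hU312, hU313, hU314],
      [hU315, hU316, hU317, hU318, hU319, hU320, hU321],
      [hU322, hU323, hU324, hU325, hU326, hU327, hU328],
      [hU329, hU330, hU331, hU332, hU333, hU334, hU335]],
    [[hU336, hU337, hU338, hU339, hU340, hU341, hU342],
      [hU343, hU344, hU345, hU346, hU347, hU348, hU349],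
      [hU350, hU351, hU352, hU353, hU354, hU355, hU356],
      [hU357, hU358, hU359, hU360, hU361, hU362, hU363],
      [hU364, hU365, hU366, hU367, hU368, hU369, hU370],
      [hU371, hU372, hU373, hU374, hU375, hU376, hU377],
      [hU378, hU379, hU380, hU381, hU382, hU383, hU384],
      [hU385, hU386, hU387, hU388, hU389, hU390, hU391]],
    [[hU392, hU393, hU394, hU395, hU396, hU397, hU398],
      [hU399, hU400, hU401, hU402, hU403, hU404, hU405],
      [hU406, hU407, hU408, hU409, hU410, hU411, hU412],
      [hU413, hU414, hU415, hU416, hU417, hU418, hU419],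
      [hU420, hU421, hU422, hU423, hU424, hU425, hU426],
      [hU427, hU428, hU429, hU430, hU431, hU432, hU433],
      [hU434, hU435, hU436, hU437, hU438, hU439, hU440],
      [hU441, hU442, hU443, hU444, hU445, hU446, hU447]]]

def hC (i : ℕ) : ℕ :=
  ((hCL.getD (Nat.div i 56) []).getD (Nat.mod (Nat.div i 7) 8) []).getD (Nat.mod i 7) 0

def hUC (i : ℕ) : ℕ :=
  ((hUL.getD (Nat.div i 56) []).getD (Nat.mod (Nat.div i 7) 8) []).getD (Nat.mod i 7) 0

def hTab (k : ℕ) : ℕ :=
  Nat.land (Nat.shiftRight (hC (Nat.div k 990)) (Nat.mul 120 (Nat.mod k 990))) 0xffffffffffffffffffffffffffffff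

def hQ (k : ℕ) : ℕ :=
  Nat.land (Nat.shiftRight (hUC (Nat.div k 990)) (Nat.mul 96 (Nat.mod k 990))) 0xffffffffffffffffffffffff

/-- The index of the identity. -/
def hK0 : ℕ := 443519

/-- The table of the base involution. -/
def hzT : ℕ := 0xb802494ccb7b5cc828e84c4b418ab6

def hzC : ℕ := 0x3430b2570961555887256471360fb2ec3774007565c209323c1b47292673ec26d557

/-- The second generator. -/
def hbT : ℕ := 0xbda114be75139066128a08cad580f2

def hbC : ℕ := 0x35640928f32d0685e63f31570e337770c0a80ce06e46636530777d55567c2ce1086d1

/-- An element exchanging the two fixed points. -/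
def h0T : ℕ := 0x2d886a86677b5c34aa0c5caf112280

def h0C : ℕ := 0xb61207ff7d3679c29ee87f4128673ec8b398ff14da18b1a34518b287ecd3c87b84186

/-- An element of order eleven and its image. -/
def hxT : ℕ := 0xb80222251489a0bab5c3930af54ec7

def hxC : ℕ := 0x61248904819b1fd6335c61393fd65b5ba1e86360813b67912926cd6f05b66a339a13d

def hyT : ℕ := 0xb823660ded99e420b895320b44aa0b

def hyC : ℕ := 0x2d619847a2dd6dd0b02114d84dc0255307e02dc26e0225273ba57b6d47a870665503d

/-- Forcing the evaluation of a number. -/
def frc (t : ℕ) (f : ℕ → Bool) : Bool :=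
  match t with
  | 0 => f 0
  | n + 1 => f (n + 1)

theorem frc_eq (t : ℕ) (f : ℕ → Bool) : frc t f = f t := by
  cases t <;> rfl

/-- Lookup in a packed table, with the bare operations. -/
def lookR (t i : ℕ) : ℕ := Nat.land (Nat.shiftRight t (Nat.mul 5 i)) 31

theorem lookR_eq (t i : ℕ) : lookR t i = look t i := rfl

/-- A field of a packed entry. -/
def fld (q s m : ℕ) : ℕ := Nat.land (Nat.shiftRight q s) m

/-- The positions. -/
def r24 : List ℕ := [0, 1, 2, 3, 4, 5, 6, 7, 8, 9, 10, 11, 12, 13, 14, 15, 16, 17, 18, 19, 20, 21, 22, 23]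

theorem r24_eq : r24 = List.range 24 := by decide

/-- The image of a position under a product of tables. -/
def lookV (ts : List ℕ) (j : ℕ) : ℕ := ts.foldr (fun t acc => lookR t acc) j

/-- The check that a product of tables is the identity. -/
def isIdV (ts : List ℕ) : Bool := r24.all (fun j => Nat.beq (lookV ts j) j)

/-- The tables of a word in two letters. -/
def wordT (w : List Bool) (z t : ℕ) : List ℕ := w.map (fun c => cond c t z)

/-- The relations. -/
def relW22 : List (List Bool) := [[true, true, true, true],
  [false, true, false, true, false, true, false, true, false, true, false, true, false, true, false, true, false, true, false, true, false, true],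
  [false, true, true, false, true, true, false, true, true, false, true, true, false, true, true, false, true, true],
  [false, true, false, true, true, false, true, false, true, true, false, true, false, true, true, false, true, false, true, true, false, true, false, true, true, false, true, false, true, true, false, true, false, true, true, false, true, false, true, true]]

def relOK22 (z t : ℕ) : Bool := relW22.all (fun w => isIdV (wordT w z t))

/-- The check of one entry of the tree. -/
def hChkA (k t q : ℕ) : Bool :=
  Nat.beq k hK0 || (Nat.blt (fld q 0 524287) 443520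
    && frc (hTab (fld q 0 524287)) (fun tp => frc (hQ (fld q 0 524287)) (fun qp =>
      Nat.blt (fld qp 20 255) (fld q 20 255)
      && frc (cond (Nat.beq (fld q 19 1) 0) hzT hbT) (fun tg =>
        r24.all (fun p => Nat.beq (lookR t p) (lookR tp (lookR tg p)))))))

/-- The tables increase. -/
def hChkB (k t : ℕ) : Bool := Nat.beq k 443519 || Nat.blt t (hTab (Nat.succ k))

/-- The check of the images of the second generator. -/
def hChkC (t q : ℕ) : Bool :=
  (Nat.beq (fld q 28 1) 1 && Nat.blt (fld q 37 524287) 443520
    && frc (hTab (fld q 37 524287)) (fun tc =>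
      r24.all (fun p => Nat.beq (lookR tc (lookR hzT p)) (lookR hzT (lookR tc p)))
      && ((Nat.beq (fld q 56 1) 0 && r24.all (fun p =>
          Nat.beq (lookR t (lookR tc p)) (lookR tc (lookR hbT p))))
        || (Nat.beq (fld q 56 1) 1 && r24.all (fun p =>
          Nat.beq (lookR t (lookR tc (lookR h0T p))) (lookR tc (lookR h0T (lookR hbT p))))))))
  || (Nat.beq (fld q 28 1) 0 && Nat.blt (fld q 32 31) 24
    && !(Nat.beq (lookV (wordT (relW22.getD (fld q 29 7) []) hzT t) (fld q 32 31))
      (fld q 32 31)))
  || r24.all (fun p => Nat.beq (lookR t (lookR t p)) p)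

/-- The check of the involutions. -/
def hChkD (k t q : ℕ) : Bool :=
  (Nat.beq (fld q 57 1) 0 && Nat.blt (fld q 58 31) 24
    && !(Nat.beq (lookR t (lookR t (fld q 58 31))) (fld q 58 31)))
  || Nat.beq k hK0
  || (Nat.blt (fld q 64 524287) 443520 && frc (hTab (fld q 64 524287)) (fun tw =>
      r24.all (fun p => Nat.beq (lookR tw (lookR t p)) (lookR hzT (lookR tw p)))))

/-- No element conjugates the element of order eleven to its image. -/
def hChkE (t q : ℕ) : Bool :=
  Nat.blt (fld q 83 31) 24
    && !(Nat.beq (lookR t (lookR hxT (fld q 83 31))) (lookR hyT (lookR t (fld q 83 31))))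

def hChk (k : ℕ) : Bool := frc (hTab k) (fun t => frc (hQ k) (fun q =>
  hChkA k t q && hChkB k t && hChkC t q && hChkD k t q && hChkE t q))

/-- A slice of the check. -/
def hOkP (j : ℕ) : Bool := (List.range 40).all (fun a => (List.range 99).all (fun c =>
  hChk (Nat.add (Nat.mul 99 (Nat.add (Nat.mul 40 j) a)) c)))

end Cfsg.Agent.Helper1.Golay
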