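import Mathlib
import Cfsg.Agent.Helper1.Golay6
import Cfsg.Agent.Helper1.Sx2062Data

set_option autoImplicit false
set_option maxRecDepth 1000000

namespace Cfsg.Agent.Helper1.Golay

theorem h_ok_0 : hOkP 0 = true := by
  decide +kernel

theorem h_ok_1 : hOkP 1 = true := by
  decide +kernel

theorem h_ok_2 : hOkP 2 = true := by
  decide +kernel

theorem h_ok_3 : hOkP 3 = true := by
  decide +kernel

theorem h_ok_4 : hOkP 4 = true := by
  decide +kernel

theorem h_ok_5 : hOkP 5 = true := by
  decide +kernel

theorem h_ok_6 : hOkP 6 = true := by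
  decide +kernel

theorem h_ok_7 : hOkP 7 = true := by
  decide +kernel

theorem h_ok_8 : hOkP 8 = true := by
  decide +kernel

theorem h_ok_9 : hOkP 9 = true := by
  decide +kernel

theorem h_ok_10 : hOkP 10 = true := by
  decide +kernel

theorem h_ok_11 : hOkP 11 = true := by
  decide +kernel

theorem h_ok_12 : hOkP 12 = true := by
  decide +kernel

theorem h_ok_13 : hOkP 13 = true := by
  decide +kernel

end Cfsg.Agent.Helper1.Golay
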