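import Mathlib
import Cfsg.Agent.Helper1.Golay6
import Cfsg.Agent.Helper1.Sx2062Data

set_option autoImplicit false
set_option maxRecDepth 1000000

namespace Cfsg.Agent.Helper1.Golay

theorem h_ok_14 : hOkP 14 = true := by
  decide +kernel

theorem h_ok_15 : hOkP 15 = true := by
  decide +kernel

theorem h_ok_16 : hOkP 16 = true := by
  decide +kernel

theorem h_ok_17 : hOkP 17 = true := by
  decide +kernel

theorem h_ok_18 : hOkP 18 = true := by
  decide +kernel

end Cfsg.Agent.Helper1.Golay
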