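import Mathlib
import Cfsg.Agent.Helper1.Golay6
import Cfsg.Agent.Helper1.Sx2062Data

set_option autoImplicit false
set_option maxRecDepth 1000000

namespace Cfsg.Agent.Helper1.Golay

theorem h_ok_19 : hOkP 19 = true := by
  decide +kernel

theorem h_ok_20 : hOkP 20 = true := by
  decide +kernel

theorem h_ok_21 : hOkP 21 = true := by
  decide +kernel

theorem h_ok_22 : hOkP 22 = true := by
  decide +kernel

theorem h_ok_23 : hOkP 23 = true := by
  decide +kernel

end Cfsg.Agent.Helper1.Golay
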