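import Mathlib
import Cfsg.Agent.Helper1.Golay6
import Cfsg.Agent.Helper1.Sx2062Data

set_option autoImplicit false
set_option maxRecDepth 1000000

namespace Cfsg.Agent.Helper1.Golay

theorem h_ok_64 : hOkP 64 = true := by
  decide +kernel

theorem h_ok_65 : hOkP 65 = true := by
  decide +kernel

theorem h_ok_66 : hOkP 66 = true := by
  decide +kernel

theorem h_ok_67 : hOkP 67 = true := by
  decide +kernel

theorem h_ok_68 : hOkP 68 = true := by
  decide +kernel

end Cfsg.Agent.Helper1.Golay
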