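import Mathlib
import Cfsg.Agent.Helper1.Golay6
import Cfsg.Agent.Helper1.Sx2062Data

set_option autoImplicit false
set_option maxRecDepth 1000000

namespace Cfsg.Agent.Helper1.Golay

theorem h_ok_79 : hOkP 79 = true := by
  decide +kernel

theorem h_ok_80 : hOkP 80 = true := by
  decide +kernel

theorem h_ok_81 : hOkP 81 = true := by
  decide +kernel

theorem h_ok_82 : hOkP 82 = true := by
  decide +kernel

theorem h_ok_83 : hOkP 83 = true := by
  decide +kernel

end Cfsg.Agent.Helper1.Golay
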