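import Mathlib
import Cfsg.Agent.Helper1.Golay6
import Cfsg.Agent.Helper1.Sx2062Data

set_option autoImplicit false
set_option maxRecDepth 1000000

namespace Cfsg.Agent.Helper1.Golay

theorem h_ok_89 : hOkP 89 = true := by
  decide +kernel

theorem h_ok_90 : hOkP 90 = true := by
  decide +kernel

theorem h_ok_91 : hOkP 91 = true := by
  decide +kernel

theorem h_ok_92 : hOkP 92 = true := by
  decide +kernel

theorem h_ok_93 : hOkP 93 = true := by
  decide +kernel

end Cfsg.Agent.Helper1.Golay
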