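import Mathlib
import Cfsg.Agent.Helper1.Golay6
import Cfsg.Agent.Helper1.Sx2062Data

set_option autoImplicit false
set_option maxRecDepth 1000000

namespace Cfsg.Agent.Helper1.Golay

theorem h_ok_99 : hOkP 99 = true := by
  decide +kernel

theorem h_ok_100 : hOkP 100 = true := by
  decide +kernel

theorem h_ok_101 : hOkP 101 = true := by
  decide +kernel

theorem h_ok_102 : hOkP 102 = true := by
  decide +kernel

theorem h_ok_103 : hOkP 103 = true := by
  decide +kernel

end Cfsg.Agent.Helper1.Golay
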