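import Mathlib
import Cfsg.Agent.Helper1.Golay6
import Cfsg.Agent.Helper1.Sx2062Data

set_option autoImplicit false
set_option maxRecDepth 1000000

namespace Cfsg.Agent.Helper1.Golay

theorem h_ok_104 : hOkP 104 = true := by
  decide +kernel

theorem h_ok_105 : hOkP 105 = true := by
  decide +kernel

theorem h_ok_106 : hOkP 106 = true := by
  decide +kernel

theorem h_ok_107 : hOkP 107 = true := by
  decide +kernel

theorem h_ok_108 : hOkP 108 = true := by
  decide +kernel

end Cfsg.Agent.Helper1.Golay
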