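import Mathlib
import Cfsg.Agent.Helper1.Golay6
import Cfsg.Agent.Helper1.Sx2062Data

set_option autoImplicit false
set_option maxRecDepth 1000000

namespace Cfsg.Agent.Helper1.Golay

theorem h_ok_24 : hOkP 24 = true := by
  decide +kernel

theorem h_ok_25 : hOkP 25 = true := by
  decide +kernel

theorem h_ok_26 : hOkP 26 = true := by
  decide +kernel

theorem h_ok_27 : hOkP 27 = true := by
  decide +kernel

theorem h_ok_28 : hOkP 28 = true := by
  decide +kernel

end Cfsg.Agent.Helper1.Golay
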