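import Mathlib
import Cfsg.Agent.Helper1.Golay6
import Cfsg.Agent.Helper1.Sx2062Data

set_option autoImplicit false
set_option maxRecDepth 1000000

namespace Cfsg.Agent.Helper1.Golay

theorem h_ok_34 : hOkP 34 = true := by
  decide +kernel

theorem h_ok_35 : hOkP 35 = true := by
  decide +kernel

theorem h_ok_36 : hOkP 36 = true := by
  decide +kernel

theorem h_ok_37 : hOkP 37 = true := by
  decide +kernel

theorem h_ok_38 : hOkP 38 = true := by
  decide +kernel

end Cfsg.Agent.Helper1.Golay
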