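import Mathlib
import Cfsg.Agent.Helper1.Golay6
import Cfsg.Agent.Helper1.Sx2062K0
import Cfsg.Agent.Helper1.Sx2062L0
import Cfsg.Agent.Helper1.Sx2062L1
import Cfsg.Agent.Helper1.Sx2062L2
import Cfsg.Agent.Helper1.Sx2062L3
import Cfsg.Agent.Helper1.Sx2062L4
import Cfsg.Agent.Helper1.Sx2062L5
import Cfsg.Agent.Helper1.Sx2062L6
import Cfsg.Agent.Helper1.Sx2062L7
import Cfsg.Agent.Helper1.Sx2062L8
import Cfsg.Agent.Helper1.Sx2062L9
import Cfsg.Agent.Helper1.Sx2062L10
import Cfsg.Agent.Helper1.Sx2062L11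
import Cfsg.Agent.Helper1.Sx2062L12
import Cfsg.Agent.Helper1.Sx2062L13
import Cfsg.Agent.Helper1.Sx2062L14
import Cfsg.Agent.Helper1.Sx2062L15
import Cfsg.Agent.Helper1.Sx2062L16
import Cfsg.Agent.Helper1.Sx2062L17
import Cfsg.Agent.Helper1.Sx2062L18
import Cfsg.Agent.Helper1.Sx2062L19

set_option autoImplicit false
set_option maxRecDepth 1000000

namespace Cfsg.Agent.Helper1.Golay

theorem h_okP (j : ℕ) (hj : j < 112) : hOkP j = true := by
  interval_cases j
  · exact h_ok_0
  · exact h_ok_1
  · exact h_ok_2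
  · exact h_ok_3
  · exact h_ok_4
  · exact h_ok_5
  · exact h_ok_6
  · exact h_ok_7
  · exact h_ok_8
  · exact h_ok_9
  · exact h_ok_10
  · exact h_ok_11
  · exact h_ok_12
  · exact h_ok_13
  · exact h_ok_14
  · exact h_ok_15
  · exact h_ok_16
  · exact h_ok_17
  · exact h_ok_18
  · exact h_ok_19
  · exact h_ok_20
  · exact h_ok_21
  · exact h_ok_22
  · exact h_ok_23
  · exact h_ok_24
  · exact h_ok_25
  · exact h_ok_26
  · exact h_ok_27
  · exact h_ok_28
  · exact h_ok_29
  · exact h_ok_30
  · exact h_ok_31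
  · exact h_ok_32
  · exact h_ok_33
  · exact h_ok_34
  · exact h_ok_35
  · exact h_ok_36
  · exact h_ok_37
  · exact h_ok_38
  · exact h_ok_39
  · exact h_ok_40
  · exact h_ok_41
  · exact h_ok_42
  · exact h_ok_43
  · exact h_ok_44
  · exact h_ok_45
  · exact h_ok_46
  · exact h_ok_47
  · exact h_ok_48
  · exact h_ok_49
  · exact h_ok_50
  · exact h_ok_51
  · exact h_ok_52
  · exact h_ok_53
  · exact h_ok_54
  · exact h_ok_55
  · exact h_ok_56
  · exact h_ok_57
  · exact h_ok_58
  · exact h_ok_59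
  · exact h_ok_60
  · exact h_ok_61
  · exact h_ok_62
  · exact h_ok_63
  · exact h_ok_64
  · exact h_ok_65
  · exact h_ok_66
  · exact h_ok_67
  · exact h_ok_68
  · exact h_ok_69
  · exact h_ok_70
  · exact h_ok_71
  · exact h_ok_72
  · exact h_ok_73
  · exact h_ok_74
  · exact h_ok_75
  · exact h_ok_76
  · exact h_ok_77
  · exact h_ok_78
  · exact h_ok_79
  · exact h_ok_80
  · exact h_ok_81
  · exact h_ok_82
  · exact h_ok_83
  · exact h_ok_84
  · exact h_ok_85
  · exact h_ok_86
  · exact h_ok_87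
  · exact h_ok_88
  · exact h_ok_89
  · exact h_ok_90
  · exact h_ok_91
  · exact h_ok_92
  · exact h_ok_93
  · exact h_ok_94
  · exact h_ok_95
  · exact h_ok_96
  · exact h_ok_97
  · exact h_ok_98
  · exact h_ok_99
  · exact h_ok_100
  · exact h_ok_101
  · exact h_ok_102
  · exact h_ok_103
  · exact h_ok_104
  · exact h_ok_105
  · exact h_ok_106
  · exact h_ok_107
  · exact h_ok_108
  · exact h_ok_109
  · exact h_ok_110
  · exact h_ok_111

theorem h_root : (List.range 24).all (fun p => Nat.beq (look (hTab hK0) p) p) = true := by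
  decide +kernel

theorem hz_ok : (tblOK hzT && chkCode hzT hzC && Nat.beq (look hzT 23) 23
    && Nat.beq (look hzT 5) 5) = true := by
  decide +kernel

theorem hz_sq : ((List.range 24).all (fun p => Nat.beq (look hzT (look hzT p)) p)
    && !(Nat.beq (look hzT 0) 0)) = true := by
  decide +kernel

theorem hb_ok : (tblOK hbT && chkCode hbT hbC && Nat.beq (look hbT 23) 23
    && Nat.beq (look hbT 5) 5) = true := by
  decide +kernel

theorem hb_rel : relOK22 hzT hbT = true := by
  decide +kernel

theorem hb_sq : (!(Nat.beq (look hbT (look hbT 0)) 0)) = true := by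
  decide +kernel

theorem h0_ok : (tblOK h0T && chkCode h0T h0C && Nat.beq (look h0T 23) 5
    && Nat.beq (look h0T 5) 23
    && (List.range 24).all (fun p => Nat.beq (look h0T (look hzT p)) (look hzT (look h0T p))))
    = true := by
  decide +kernel

theorem hx_ok : (tblOK hxT && chkCode hxT hxC && Nat.beq (look hxT 23) 23
    && Nat.beq (look hxT 5) 5) = true := by
  decide +kernel

theorem hy_ok : (tblOK hyT && chkCode hyT hyC && Nat.beq (look hyT 23) 23
    && Nat.beq (look hyT 5) 5) = true := by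
  decide +kernel

theorem hxy_ok : (List.range 24).all (fun p =>
    Nat.beq (look hyT (look h0T p)) (look h0T (look hxT p))) = true := by
  decide +kernel

end Cfsg.Agent.Helper1.Golay
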