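import Mathlib
import Cfsg.Agent.Helper1.Sx5168Tab
import Cfsg.Agent.Helper1.Sx5170
import Cfsg.Agent.Helper1.Sx5166

set_option autoImplicit false

namespace Cfsg.Agent.Helper1.Golay

open Cfsg
open scoped Pointwise

/-- The point stabiliser. -/
noncomputable def M23b : Subgroup ↥M24 := MulAction.stabilizer ↥M24 (unpos 23)

/-- The two point stabiliser. -/
noncomputable def M22b : Subgroup ↥M24 :=
  MulAction.stabilizer ↥M24 (unpos 23) ⊓ MulAction.stabilizer ↥M24 (unpos 5)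

theorem mem_M23b (g : ↥M24) :
    g ∈ M23b ↔ (g : Equiv.Perm GolayPt) (unpos 23) = unpos 23 := by
  rw [M23b, MulAction.mem_stabilizer_iff]
  rfl

theorem mem_M22b (g : ↥M24) : g ∈ M22b ↔ (g : Equiv.Perm GolayPt) (unpos 23) = unpos 23
    ∧ (g : Equiv.Perm GolayPt) (unpos 5) = unpos 5 := by
  rw [M22b, Subgroup.mem_inf, MulAction.mem_stabilizer_iff, MulAction.mem_stabilizer_iff]
  rfl

theorem M22b_le : M22b ≤ M23b := inf_le_left

theorem card_M23b : Nat.card ↥M23b = 10200960 := card_stabilizer_point _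

theorem card_M22b : Nat.card ↥M22b = 443520 := card_stabilizer_two _ _ (by decide)

/-- The Sylow subgroup of the point stabilisers. -/
noncomputable def K8 : Subgroup ↥M24 := J8 ⊓ M23b

theorem syE_mem_K8 (i : ℕ) (hi : i < 1024) : syE i ∈ K8 ↔ pMem i = true := by
  obtain ⟨hok, hcoe, -⟩ := sy_spec i hi
  rw [K8, Subgroup.mem_inf, mem_M23b, hcoe]
  constructor
  · rintro ⟨-, h⟩
    have h1 := congrArg pos h
    rw [pos_permT hok, pos_unpos 23 (by norm_num)] at h1
    unfold pMem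
    rw [h1]
    rfl
  · intro h
    exact ⟨syE_mem i hi, permT_fix hok (by norm_num) h⟩

theorem K8_exists (x : ↥M24) (hx : x ∈ K8) : ∃ i, i < 1024 ∧ pMem i = true ∧ x = syE i := by
  obtain ⟨i, hi, e⟩ := J8_exists x hx.1
  refine ⟨i, hi, ?_, e⟩
  rw [← syE_mem_K8 i hi, ← e]
  exact hx

theorem card_K8 : Nat.card ↥K8 = 128 := by
  have e : (K8 : Set ↥M24) = syE '' ↑((List.range 1024).filter pMem).toFinset := by
    ext g
    constructor
    · intro hg
      obtain ⟨i, hi, hm, e⟩ := K8_exists g hg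
      refine ⟨i, ?_, e.symm⟩
      rw [Finset.mem_coe, List.mem_toFinset, List.mem_filter, List.mem_range]
      exact ⟨hi, hm⟩
    · rintro ⟨i, hi, rfl⟩
      rw [Finset.mem_coe, List.mem_toFinset, List.mem_filter, List.mem_range] at hi
      exact (syE_mem_K8 i hi.1).mpr hi.2
  rw [show Nat.card ↥K8 = (K8 : Set ↥M24).ncard from Nat.card_coe_set_eq _, e,
    Set.InjOn.ncard_image, Set.ncard_coe_finset,
    List.toFinset_card_of_nodup (List.Nodup.filter _ List.nodup_range)]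
  · exact p_count
  · intro i hi j hj h
    rw [Finset.mem_coe, List.mem_toFinset, List.mem_filter, List.mem_range] at hi hj
    exact syE_inj hi.1 hj.1 h

theorem K8_le_M22b : K8 ≤ M22b := by
  intro x hx
  obtain ⟨i, hi, hm, rfl⟩ := K8_exists x hx
  obtain ⟨hok, hcoe, -⟩ := sy_spec i hi
  rw [mem_M22b, hcoe]
  have h5 := List.all_eq_true.mp p_fix5 i (List.mem_range.mpr hi)
  rw [hm] at h5
  simp only [Bool.not_true, Bool.false_or] at h5
  exact ⟨permT_fix hok (by norm_num) hm, permT_fix hok (by norm_num) h5⟩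

theorem pGen_spec (a : ℕ) (ha : a ∈ pGen) : a < 1024 ∧ syE a ∈ K8 := by
  have h := List.all_eq_true.mp p_gen a ha
  simp only [Bool.and_eq_true] at h
  have hlt := Nat.blt_eq.mp h.1
  exact ⟨hlt, (syE_mem_K8 a hlt).mpr h.2⟩

theorem K8_trio_unique (X : Finset (Finset GolayPt)) (hX : X ∈ trios)
    (hfix : ∀ a ∈ pGen, ((syE a : ↥M24) : Equiv.Perm GolayPt) • X = X) : X = T8 := by
  obtain ⟨j, hj, rfl⟩ := trio_isTable.surj X hX
  have h := List.all_eq_true.mp p_trio_unique j (List.mem_range.mpr hj)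
  simp only [Bool.or_eq_true] at h
  rcases h with h | h
  · rw [Nat.eq_of_beq_eq_true h]
    rfl
  · exfalso
    obtain ⟨a, ha, h2⟩ := List.any_eq_true.mp h
    simp only [Bool.and_eq_true] at h2
    obtain ⟨hg, hne⟩ := h2
    obtain ⟨hok, hcoe, -, -, -⟩ := sy_spec a (pGen_spec a ha).1
    have hf := hfix a ha
    rw [hcoe] at hf
    have e1 := famOf_pullFam (permT (syTab a)) (syTab a) (pos_permT hok) (trioTb j)
    have e2 : (permT (syTab a))⁻¹ • famOf (trioTb j) = famOf (trioTb j) := by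
      rw [inv_smul_eq_iff]
      exact hf.symm
    rw [e2] at e1
    have e3 := keyN_eq_of_famOf_eq hg (trio_isTable.good j hj) e1
    rw [e3, Nat.beq_refl] at hne
    exact absurd hne (by decide)

theorem K8_sext_unique (X : Finset (Finset GolayPt)) (hX : X ∈ sextets)
    (hfix : ∀ a ∈ pGen, ((syE a : ↥M24) : Equiv.Perm GolayPt) • X = X) : X = S8 := by
  obtain ⟨j, hj, rfl⟩ := sext_isTable.surj X hX
  have h := List.all_eq_true.mp p_sext_unique j (List.mem_range.mpr hj)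
  simp only [Bool.or_eq_true] at h
  rcases h with h | h
  · rw [Nat.eq_of_beq_eq_true h]
    rfl
  · exfalso
    obtain ⟨a, ha, h2⟩ := List.any_eq_true.mp h
    simp only [Bool.and_eq_true] at h2
    obtain ⟨hg, hne⟩ := h2
    obtain ⟨hok, hcoe, -, -, -⟩ := sy_spec a (pGen_spec a ha).1
    have hf := hfix a ha
    rw [hcoe] at hf
    have e1 := famOf_pullFam (permT (syTab a)) (syTab a) (pos_permT hok) (sextTb j)
    have e2 : (permT (syTab a))⁻¹ • famOf (sextTb j) = famOf (sextTb j) := by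
      rw [inv_smul_eq_iff]
      exact hf.symm
    rw [e2] at e1
    have e3 := keyN_eq_of_famOf_eq hg (sext_isTable.good j hj) e1
    rw [e3, Nat.beq_refl] at hne
    exact absurd hne (by decide)

theorem norm_K8 (n : ↥M24) (hconj' : ∀ x ∈ K8, n * x * n⁻¹ ∈ K8)
    (hconj : ∀ x ∈ K8, n⁻¹ * x * n ∈ K8) : n ∈ J8 := by
  have hgen : ∀ a ∈ pGen, ∀ F : Finset (Finset GolayPt),
      (∀ x ∈ K8, (x : Equiv.Perm GolayPt) • F = F) →
      ((syE a : ↥M24) : Equiv.Perm GolayPt) • ((n : Equiv.Perm GolayPt) • F)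
        = (n : Equiv.Perm GolayPt) • F := by
    intro a ha F hF
    have h1 := hF _ (hconj (syE a) (pGen_spec a ha).2)
    have e : ((n⁻¹ * syE a * n : ↥M24) : Equiv.Perm GolayPt)
        = (n : Equiv.Perm GolayPt)⁻¹ * ((syE a : ↥M24) : Equiv.Perm GolayPt)
          * (n : Equiv.Perm GolayPt) := rfl
    rw [e, mul_smul, mul_smul, inv_smul_eq_iff] at h1
    exact h1
  have hT : (n : Equiv.Perm GolayPt) • T8 = T8 :=
    K8_trio_unique _ (trios_inv _ n.2 T8 T8_mem)
      (fun a ha => hgen a ha T8 (fun x hx => ((mem_J8 x).mp hx.1).1))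
  have hS : (n : Equiv.Perm GolayPt) • S8 = S8 :=
    K8_sext_unique _ (sextets_inv _ n.2 S8 S8_mem)
      (fun a ha => hgen a ha S8 (fun x hx => ((mem_J8 x).mp hx.1).2.1))
  have htz : syE 8 ∈ K8 := (syE_mem_K8 8 (by norm_num)).mpr p_z
  have hcoe8 : ((syE 8 : ↥M24) : Equiv.Perm GolayPt) = permT tzT := (sy_spec 8 (by norm_num)).2.1
  have hcent : ∀ x ∈ K8, x * syE 8 = syE 8 * x := by
    intro x hx
    obtain ⟨i, hi, -, rfl⟩ := K8_exists x hx
    obtain ⟨hok, hcoe, -, -, hcm⟩ := sy_spec i hi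
    apply Subtype.ext
    show ((syE i : ↥M24) : Equiv.Perm GolayPt) * ((syE 8 : ↥M24) : Equiv.Perm GolayPt)
      = ((syE 8 : ↥M24) : Equiv.Perm GolayPt) * ((syE i : ↥M24) : Equiv.Perm GolayPt)
    rw [hcoe, hcoe8]
    exact (commT_spec hok tz_ok).mp hcm
  have hy := hconj' _ htz
  obtain ⟨i, hi, hmi, hi_eq⟩ := K8_exists _ hy
  have hcomm : ∀ a ∈ pGen, syE i * syE a = syE a * syE i := by
    intro a ha
    rw [← hi_eq]
    have h1 := hcent _ (hconj (syE a) (pGen_spec a ha).2)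
    calc n * syE 8 * n⁻¹ * syE a = n * (syE 8 * (n⁻¹ * syE a * n)) * n⁻¹ := by group
      _ = n * (n⁻¹ * syE a * n * syE 8) * n⁻¹ := by rw [h1]
      _ = syE a * (n * syE 8 * n⁻¹) := by group
  have hi2 : i = 0 ∨ i = 8 := by
    have h := List.all_eq_true.mp p_centre i (List.mem_range.mpr hi)
    rw [hmi] at h
    simp only [Bool.not_true, Bool.false_or, Bool.or_eq_true] at h
    rcases h with (h | h) | h
    · exact Or.inl (Nat.eq_of_beq_eq_true h)
    · exact Or.inr (Nat.eq_of_beq_eq_true h)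
    · exfalso
      obtain ⟨a, ha, hne⟩ := List.any_eq_true.mp h
      have hc := hcomm a ha
      obtain ⟨hoki, hcoei, -, -, -⟩ := sy_spec i hi
      obtain ⟨hoka, hcoea, -, -, -⟩ := sy_spec a (pGen_spec a ha).1
      have hc' : permT (syTab i) * permT (syTab a) = permT (syTab a) * permT (syTab i) := by
        rw [← hcoei, ← hcoea]
        exact congrArg Subtype.val hc
      rw [(commT_spec hoki hoka).mpr hc'] at hne
      exact absurd hne (by decide)
  have hntz : n * syE 8 * n⁻¹ = syE 8 := by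
    rcases hi2 with rfl | rfl
    · exfalso
      have h0 : syE 0 = 1 := by
        apply Subtype.ext
        rw [(sy_spec 0 (by norm_num)).2.1]
        have h00 := (permT_pow_eq_one_iff (sy_spec 0 (by norm_num)).1 1).mpr sy_id
        rwa [pow_one] at h00
      rw [h0] at hi_eq
      have h8 : syE 8 = 1 := by
        have e' := congrArg (fun x => n⁻¹ * x * n) hi_eq
        simpa [mul_assoc] using e'
      have h80 := syE_inj (by norm_num) (by norm_num) (h8.trans h0.symm)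
      omega
    · exact hi_eq
  have hcm : (n : Equiv.Perm GolayPt) * permT tzT = permT tzT * (n : Equiv.Perm GolayPt) := by
    have e' : (n : Equiv.Perm GolayPt) * ((syE 8 : ↥M24) : Equiv.Perm GolayPt)
        * (n : Equiv.Perm GolayPt)⁻¹ = ((syE 8 : ↥M24) : Equiv.Perm GolayPt) :=
      congrArg Subtype.val hntz
    rw [hcoe8] at e'
    exact mul_inv_eq_iff_eq_mul.mp e'
  exact (mem_J8 n).mpr ⟨hT, hS, Y8_smul n.2 hcm⟩

theorem pRep_lt : pRep < 1024 := by decide

theorem pw_spec (r : ℕ) (hr : r < 35) :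
    pI r < 1024 ∧ pMem (pI r) = true ∧ mk24 (pwTab r) ∈ M22b
      ∧ mk24 (pwTab r) * syE pRep = syE (pI r) * mk24 (pwTab r) := by
  have h := List.all_eq_true.mp pw_ok r (List.mem_range.mpr hr)
  simp only [Bool.and_eq_true] at h
  obtain ⟨⟨⟨⟨⟨⟨hok, hc⟩, h23⟩, h5⟩, hlt⟩, hm⟩, hconj⟩ := h
  have hlt' := Nat.blt_eq.mp hlt
  refine ⟨hlt', hm, ?_, ?_⟩
  · rw [mem_M22b, mk24_coe hok hc]
    exact ⟨permT_fix hok (by norm_num) h23, permT_fix hok (by norm_num) h5⟩
  · apply Subtype.ext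
    simp only [Subgroup.coe_mul]
    rw [mk24_coe hok hc, (sy_spec _ pRep_lt).2.1, (sy_spec _ hlt').2.1]
    apply perm_ext_pos
    intro p
    rw [pos_permT_mul hok (sy_spec _ pRep_lt).1, pos_permT_mul (sy_spec _ hlt').1 hok]
    exact Nat.eq_of_beq_eq_true (List.all_eq_true.mp hconj (pos p) (List.mem_range.mpr (pos_lt p)))

theorem closed_K8 (H : Subgroup ↥M24) (hH : M22b ≤ H) (T : Subgroup ↥M24) (hTS : T ≤ K8)
    (hT : T ≠ ⊥)
    (hsc : ∀ x ∈ T, ∀ h ∈ H, h * x * h⁻¹ ∈ K8 → h * x * h⁻¹ ∈ T) : T = K8 := by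
  have hp : IsPGroup 2 ↥T :=
    (IsPGroup.of_card (n := 7) (by rw [card_K8]; norm_num)).to_le hTS
  obtain ⟨k, hk⟩ := IsPGroup.iff_card.mp hp
  have hk0 : k ≠ 0 := by
    intro h0
    rw [h0, pow_zero] at hk
    exact hT (Subgroup.card_eq_one.mp hk)
  have hdvd : 2 ∣ Nat.card ↥T := by
    rw [hk]
    exact dvd_pow_self 2 hk0
  obtain ⟨t, ht⟩ := exists_prime_orderOf_dvd_card' 2 hdvd
  have ht2 : orderOf (t : ↥M24) = 2 := by
    rw [Subgroup.orderOf_coe]
    exact ht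
  obtain ⟨i, hi, hmi, ei⟩ := K8_exists _ (hTS t.2)
  obtain ⟨hok, hcoe, -⟩ := sy_spec i hi
  have hsq : isId (syTab i) 2 = true := by
    rw [← permT_pow_eq_one_iff hok 2, ← hcoe, ← ei, ← Subgroup.coe_pow, ← ht2,
      pow_orderOf_eq_one]
    rfl
  have hne : isId (syTab i) 1 ≠ true := by
    intro h1
    have h2 := (permT_pow_eq_one_iff hok 1).mpr h1
    rw [pow_one, ← hcoe, ← ei] at h2
    have h3 : (t : ↥M24) = 1 := Subtype.ext h2
    rw [h3, orderOf_one] at ht2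
    exact absurd ht2 (by norm_num)
  have hcov := List.all_eq_true.mp p_cover i (List.mem_range.mpr hi)
  rw [hmi, hsq] at hcov
  simp only [Bool.not_true, Bool.false_or, Bool.or_eq_true] at hcov
  rcases hcov with hcov | hcov
  · exact absurd hcov hne
  obtain ⟨r, hr, er⟩ := List.any_eq_true.mp hcov
  rw [List.mem_range] at hr
  have er' := Nat.eq_of_beq_eq_true er
  have hrepK : syE pRep ∈ K8 := (syE_mem_K8 pRep pRep_lt).mpr p_rep
  have hrep : syE pRep ∈ T := by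
    obtain ⟨-, -, hwH, hw⟩ := pw_spec r hr
    rw [er', ← ei] at hw
    have e : syE pRep
        = (mk24 (pwTab r))⁻¹ * (t : ↥M24) * ((mk24 (pwTab r))⁻¹)⁻¹ := by
      calc syE pRep
          = (mk24 (pwTab r))⁻¹ * (mk24 (pwTab r) * syE pRep) := by group
        _ = (mk24 (pwTab r))⁻¹ * ((t : ↥M24) * mk24 (pwTab r)) := by rw [hw]
        _ = (mk24 (pwTab r))⁻¹ * (t : ↥M24) * ((mk24 (pwTab r))⁻¹)⁻¹ := by group
    rw [e]
    apply hsc _ t.2 _ (H.inv_mem (hH hwH))
    rw [← e]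
    exact hrepK
  have hcls : ∀ r', r' < 35 → syE (pI r') ∈ T := by
    intro r' hr'
    obtain ⟨hlt, hm, hwH, hw⟩ := pw_spec r' hr'
    have e : syE (pI r') = mk24 (pwTab r') * syE pRep * (mk24 (pwTab r'))⁻¹ := by
      rw [hw]
      group
    rw [e]
    apply hsc _ hrep _ (hH hwH)
    rw [← e]
    exact (syE_mem_K8 _ hlt).mpr hm
  have hall : ∀ n k, k < 1024 → pMem k = true → pL k = n → syE k ∈ T := by
    intro n
    induction n using Nat.strong_induction_on with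
    | _ n ih =>
      intro k hk hmk hl
      have h := List.all_eq_true.mp pg_ok k (List.mem_range.mpr hk)
      rw [hmk] at h
      simp only [Bool.not_true, Bool.false_or, Bool.or_eq_true, Bool.and_eq_true] at h
      rcases h with ⟨⟨-, a2⟩, a3⟩ | ⟨⟨⟨⟨⟨⟨b1, b2⟩, m1⟩, m2⟩, b3⟩, b4⟩, b5⟩
      · have e1 := hcls _ (Nat.blt_eq.mp a2)
        rw [Nat.eq_of_beq_eq_true a3] at e1
        exact e1
      · have c1 := Nat.blt_eq.mp b1
        have c2 := Nat.blt_eq.mp b2
        have c3 := Nat.blt_eq.mp b3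
        have c4 := Nat.blt_eq.mp b4
        have e : syE k = syE (pA k) * syE (pB k) := by
          apply Subtype.ext
          rw [Subgroup.coe_mul, (sy_spec _ hk).2.1, (sy_spec _ c1).2.1, (sy_spec _ c2).2.1]
          apply perm_ext_pos
          intro p
          rw [pos_permT (sy_spec _ hk).1, pos_permT_mul (sy_spec _ c1).1 (sy_spec _ c2).1]
          exact Nat.eq_of_beq_eq_true
            (List.all_eq_true.mp b5 (pos p) (List.mem_range.mpr (pos_lt p)))
        rw [e]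
        exact mul_mem (ih _ (by omega) _ c1 m1 rfl) (ih _ (by omega) _ c2 m2 rfl)
  apply le_antisymm hTS
  intro g hg
  obtain ⟨k', hk', hm', e⟩ := K8_exists g hg
  rw [e]
  exact hall _ k' hk' hm' rfl

/-- The fusion system of a group between the two stabilisers is simple. -/
theorem final_sub (H : Subgroup ↥M24) (hH1 : M22b ≤ H) (hH2 : H ≤ M23b) (N : ℕ)
    (hcard : Nat.card ↥H = N) (hN2 : ¬ 2 ^ (7 + 1) ∣ N) {G : Type*} [Group G] [Finite G]
    (ι : ↥H ≃* G) (S : Sylow 2 G) : (groupFusionSystem (S : Subgroup G)).IsSimple 2 := by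
  have hKH : K8 ≤ H := K8_le_M22b.trans hH1
  refine Cfsg.Agent.Helper1.fusion_simple_transfer ι 7 N (by norm_num) hcard hN2
    (K8.subgroupOf H) ?_ ?_ ?_ S
  · rw [Nat.card_congr (Subgroup.subgroupOfEquivOfLe hKH).toEquiv]
    exact card_K8
  · intro n hn
    rw [Subgroup.mem_subgroupOf]
    have h1 : ∀ x ∈ K8, (n : ↥M24) * x * (n : ↥M24)⁻¹ ∈ K8 := by
      intro x hx
      have h := (Subgroup.mem_normalizer_iff.mp hn ⟨x, hKH hx⟩).mp
        (Subgroup.mem_subgroupOf.mpr hx)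
      exact Subgroup.mem_subgroupOf.mp h
    have h2 : ∀ x ∈ K8, (n : ↥M24)⁻¹ * x * (n : ↥M24) ∈ K8 := by
      intro x hx
      have h := (Subgroup.mem_normalizer_iff''.mp hn ⟨x, hKH hx⟩).mp
        (Subgroup.mem_subgroupOf.mpr hx)
      exact Subgroup.mem_subgroupOf.mp h
    show (n : ↥M24) ∈ J8 ⊓ M23b
    exact Subgroup.mem_inf.mpr ⟨norm_K8 _ h1 h2, hH2 n.2⟩
  · intro T hTS hT hsc
    have hT' : T.map H.subtype = K8 := by
      apply closed_K8 H hH1
      · rintro _ ⟨y, hy, rfl⟩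
        exact Subgroup.mem_subgroupOf.mp (hTS hy)
      · intro h0
        exact hT ((Subgroup.map_eq_bot_iff_of_injective T H.subtype_injective).mp h0)
      · rintro _ ⟨y, hy, rfl⟩ h hh hK
        have h3 := hsc y hy ⟨h, hh⟩ (Subgroup.mem_subgroupOf.mpr hK)
        exact ⟨_, h3, rfl⟩
    apply le_antisymm hTS
    intro x hx
    have hx' : (x : ↥M24) ∈ T.map H.subtype := by
      rw [hT']
      exact Subgroup.mem_subgroupOf.mp hx
    obtain ⟨y, hy, e⟩ := hx'
    have e2 : y = x := Subtype.ext e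
    rw [← e2]
    exact hy

theorem unpos_23 : unpos 23 = (none : GolayPt) := by decide

theorem mem_SporM23 (g : Equiv.Perm GolayPt) :
    g ∈ Cfsg.Spor.M23 ↔ g ∈ M24 ∧ g (unpos 23) = unpos 23 := by
  unfold Cfsg.Spor.M23
  rw [Subgroup.mem_inf, MulAction.mem_stabilizer_iff, unpos_23]
  rfl

theorem mem_SporM22 (g : Equiv.Perm GolayPt) :
    g ∈ Cfsg.Spor.M22 ↔ g ∈ M24 ∧ g (unpos 23) = unpos 23 ∧ g (unpos 0) = unpos 0 := by
  unfold Cfsg.Spor.M22
  rw [Subgroup.mem_inf, mem_SporM23, MulAction.mem_stabilizer_iff, unpos_zero]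
  constructor
  · rintro ⟨⟨h1, h2⟩, h3⟩
    exact ⟨h1, h2, h3⟩
  · rintro ⟨h1, h2, h3⟩
    exact ⟨⟨h1, h2⟩, h3⟩

/-- The point stabiliser is the frozen group. -/
noncomputable def iotaM23 : ↥M23b ≃* ↥Cfsg.Spor.M23 where
  toFun m := ⟨((m : ↥M24) : Equiv.Perm GolayPt),
    (mem_SporM23 _).mpr ⟨(m : ↥M24).2, (mem_M23b (m : ↥M24)).mp m.2⟩⟩
  invFun g := ⟨⟨(g : Equiv.Perm GolayPt), ((mem_SporM23 _).mp g.2).1⟩,
    (mem_M23b _).mpr ((mem_SporM23 _).mp g.2).2⟩
  left_inv m := rfl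
  right_inv g := rfl
  map_mul' a b := rfl

theorem final5169 (S : Sylow 2 ↥Cfsg.Spor.M23) :
    (groupFusionSystem (S : Subgroup ↥Cfsg.Spor.M23)).IsSimple 2 :=
  final_sub M23b M22b_le le_rfl 10200960 card_M23b (by norm_num) iotaM23 S

/-- The conjugating element. -/
noncomputable def g22 : Equiv.Perm GolayPt := permT g22T

theorem g22_spec : g22 ∈ M24 ∧ g22 (unpos 23) = unpos 23 ∧ g22 (unpos 5) = unpos 0 := by
  have h := g22_ok
  simp only [Bool.and_eq_true] at h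
  obtain ⟨⟨⟨hok, hc⟩, h23⟩, h5⟩ := h
  refine ⟨permT_mem hok hc, permT_fix hok (by norm_num) h23, ?_⟩
  apply pos_injective
  rw [g22, pos_permT hok, pos_unpos 5 (by norm_num), pos_unpos 0 (by norm_num)]
  exact Nat.eq_of_beq_eq_true h5

theorem iota22_mem (m : Equiv.Perm GolayPt) (hm : m ∈ M24) (h23 : m (unpos 23) = unpos 23)
    (h5 : m (unpos 5) = unpos 5) : g22 * m * g22⁻¹ ∈ Cfsg.Spor.M22 := by
  obtain ⟨hg, g23, g5⟩ := g22_spec
  have i23 : g22⁻¹ (unpos 23) = unpos 23 := by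
    rw [Equiv.Perm.inv_eq_iff_eq]
    exact g23.symm
  have i0 : g22⁻¹ (unpos 0) = unpos 5 := by
    rw [Equiv.Perm.inv_eq_iff_eq]
    exact g5.symm
  rw [mem_SporM22]
  refine ⟨M24.mul_mem (M24.mul_mem hg hm) (M24.inv_mem hg), ?_, ?_⟩
  · rw [Equiv.Perm.mul_apply, Equiv.Perm.mul_apply, i23, h23, g23]
  · rw [Equiv.Perm.mul_apply, Equiv.Perm.mul_apply, i0, h5, g5]

theorem iota22_inv_mem (x : Equiv.Perm GolayPt) (hx : x ∈ Cfsg.Spor.M22) :
    g22⁻¹ * x * g22 ∈ M24 ∧ (g22⁻¹ * x * g22) (unpos 23) = unpos 23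
      ∧ (g22⁻¹ * x * g22) (unpos 5) = unpos 5 := by
  obtain ⟨hg, g23, g5⟩ := g22_spec
  obtain ⟨hx1, hx2, hx3⟩ := (mem_SporM22 x).mp hx
  refine ⟨M24.mul_mem (M24.mul_mem (M24.inv_mem hg) hx1) hg, ?_, ?_⟩
  · rw [Equiv.Perm.mul_apply, Equiv.Perm.mul_apply, g23, hx2, Equiv.Perm.inv_eq_iff_eq]
    exact g23.symm
  · rw [Equiv.Perm.mul_apply, Equiv.Perm.mul_apply, g5, hx3, Equiv.Perm.inv_eq_iff_eq]
    exact g5.symm

/-- The two point stabiliser is conjugate to the frozen group. -/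
noncomputable def iotaM22 : ↥M22b ≃* ↥Cfsg.Spor.M22 where
  toFun m := ⟨g22 * ((m : ↥M24) : Equiv.Perm GolayPt) * g22⁻¹,
    iota22_mem _ (m : ↥M24).2 ((mem_M22b (m : ↥M24)).mp m.2).1
      ((mem_M22b (m : ↥M24)).mp m.2).2⟩
  invFun x := ⟨⟨g22⁻¹ * (x : Equiv.Perm GolayPt) * g22, (iota22_inv_mem _ x.2).1⟩,
    (mem_M22b _).mpr (iota22_inv_mem _ x.2).2⟩
  left_inv m := by
    apply Subtype.ext
    apply Subtype.ext
    show g22⁻¹ * (g22 * ((m : ↥M24) : Equiv.Perm GolayPt) * g22⁻¹) * g22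
      = ((m : ↥M24) : Equiv.Perm GolayPt)
    group
  right_inv x := by
    apply Subtype.ext
    show g22 * (g22⁻¹ * (x : Equiv.Perm GolayPt) * g22) * g22⁻¹ = (x : Equiv.Perm GolayPt)
    group
  map_mul' a b := by
    apply Subtype.ext
    show g22 * (((a : ↥M24) : Equiv.Perm GolayPt) * ((b : ↥M24) : Equiv.Perm GolayPt)) * g22⁻¹
      = (g22 * ((a : ↥M24) : Equiv.Perm GolayPt) * g22⁻¹)
        * (g22 * ((b : ↥M24) : Equiv.Perm GolayPt) * g22⁻¹)
    group

theorem final5168 (S : Sylow 2 ↥Cfsg.Spor.M22) :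
    (groupFusionSystem (S : Subgroup ↥Cfsg.Spor.M22)).IsSimple 2 :=
  final_sub M22b le_rfl M22b_le 443520 card_M22b (by norm_num) iotaM22 S

end Cfsg.Agent.Helper1.Golay
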