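import Mathlib
import Cfsg.Agent.Helper1.Sx2062Tab
import Cfsg.Agent.Helper1.Sx5168

set_option autoImplicit false

namespace Cfsg.Agent.Helper1.Golay

open Cfsg
open scoped Pointwise

/-- The coercion to permutations. -/
noncomputable def cc22 : ↥M22b →* Equiv.Perm GolayPt :=
  (Subgroup.subtype M24).comp (Subgroup.subtype M22b)

theorem cc22_inj : Function.Injective cc22 :=
  (Subgroup.subtype_injective M24).comp (Subgroup.subtype_injective M22b)

/-- An element acts by a table. -/
def Spec22 (g : ↥M22b) (t : ℕ) : Prop := ∀ p : GolayPt, pos (cc22 g p) = look t (pos p)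

theorem spec22_of_permT {g : ↥M22b} {t : ℕ} (hok : tblOK t = true) (h : cc22 g = permT t) :
    Spec22 g t := by
  intro p
  rw [h, pos_permT hok]

theorem mem_r24 {p : ℕ} (hp : p < 24) : p ∈ r24 := by
  rw [r24_eq]
  exact List.mem_range.mpr hp

theorem spec22_word (gs : List (↥M22b × ℕ)) (h : ∀ gt ∈ gs, Spec22 gt.1 gt.2) (p : GolayPt) :
    pos (cc22 ((gs.map Prod.fst).prod) p) = lookV (gs.map Prod.snd) (pos p) := by
  induction gs with
  | nil =>
    show pos (cc22 1 p) = pos p
    rw [map_one]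
    rfl
  | cons gt gs ih =>
    rw [List.map_cons, List.prod_cons, map_mul, Equiv.Perm.mul_apply, h gt List.mem_cons_self,
      ih (fun gt' hgt' => h gt' (List.mem_cons_of_mem _ hgt'))]
    rfl

theorem word22_one_iff (gs : List (↥M22b × ℕ)) (h : ∀ gt ∈ gs, Spec22 gt.1 gt.2) :
    (gs.map Prod.fst).prod = 1 ↔ isIdV (gs.map Prod.snd) = true := by
  constructor
  · intro e
    apply List.all_eq_true.mpr
    intro j hj
    rw [r24_eq, List.mem_range] at hj
    have e1 := spec22_word gs h (unpos j)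
    rw [e, map_one, Equiv.Perm.one_apply, pos_unpos j hj] at e1
    rw [← e1]
    exact Nat.beq_refl _
  · intro hi
    apply cc22_inj
    rw [map_one]
    apply perm_ext_pos
    intro p
    rw [spec22_word gs h, Equiv.Perm.one_apply]
    exact Nat.eq_of_beq_eq_true (List.all_eq_true.mp hi (pos p) (mem_r24 (pos_lt p)))

/-- A word in two group elements. -/
def wordG {G : Type*} [Group G] (w : List Bool) (x y : G) : G :=
  (w.map (fun c => cond c y x)).prod

/-- The relations hold. -/
def RelW {G : Type*} [Group G] (ws : List (List Bool)) (x y : G) : Prop :=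
  ∀ w ∈ ws, wordG w x y = 1

theorem wordG_map {G : Type*} [Group G] (β : MulAut G) (w : List Bool) (x y : G) :
    wordG w (β x) (β y) = β (wordG w x y) := by
  induction w with
  | nil =>
    show (1 : G) = β 1
    rw [map_one]
  | cons c w ih =>
    have e1 : wordG (c :: w) (β x) (β y) = cond c (β y) (β x) * wordG w (β x) (β y) := by
      unfold wordG
      rw [List.map_cons, List.prod_cons]
    have e2 : wordG (c :: w) x y = cond c y x * wordG w x y := by
      unfold wordG
      rw [List.map_cons, List.prod_cons]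
    rw [e1, e2, map_mul, ih]
    cases c <;> rfl

theorem relW_map {G : Type*} [Group G] (β : MulAut G) (ws : List (List Bool)) (x y : G)
    (h : RelW ws x y) : RelW ws (β x) (β y) := by
  intro w hw
  rw [wordG_map, h w hw, map_one]

theorem wordG_iff (w : List Bool) (x y : ↥M22b) (tx ty : ℕ) (hx : Spec22 x tx)
    (hy : Spec22 y ty) : wordG w x y = 1 ↔ isIdV (wordT w tx ty) = true := by
  have e1 : wordG w x y
      = (((w.map (fun c => cond c ((y, ty) : ↥M22b × ℕ) (x, tx))).map Prod.fst).prod) := by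
    unfold wordG
    rw [List.map_map]
    congr 1
    apply List.map_congr_left
    intro c _
    cases c <;> rfl
  have e2 : wordT w tx ty
      = ((w.map (fun c => cond c ((y, ty) : ↥M22b × ℕ) (x, tx))).map Prod.snd) := by
    unfold wordT
    rw [List.map_map]
    apply List.map_congr_left
    intro c _
    cases c <;> rfl
  rw [e1, e2]
  apply word22_one_iff
  intro gt hgt
  rw [List.mem_map] at hgt
  obtain ⟨c, -, rfl⟩ := hgt
  cases c
  · exact hx
  · exact hy

theorem rel22_iff (x y : ↥M22b) (tx ty : ℕ) (hx : Spec22 x tx) (hy : Spec22 y ty) :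
    RelW relW22 x y ↔ relOK22 tx ty = true := by
  unfold RelW relOK22
  rw [List.all_eq_true]
  constructor
  · intro h w hw
    exact (wordG_iff w x y tx ty hx hy).mp (h w hw)
  · intro h w hw
    exact (wordG_iff w x y tx ty hx hy).mpr (h w hw)

theorem mk24_mem_M22b {t C : ℕ} (hok : tblOK t = true) (hc : chkCode t C = true)
    (h23 : Nat.beq (look t 23) 23 = true) (h5 : Nat.beq (look t 5) 5 = true) :
    mk24 t ∈ M22b := by
  rw [mem_M22b, mk24_coe hok hc]
  exact ⟨permT_fix hok (by norm_num) h23, permT_fix hok (by norm_num) h5⟩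

/-- The element of the two point stabiliser with a given table. -/
noncomputable def mk22 (t : ℕ) : ↥M22b := by
  classical
  exact if h : mk24 t ∈ M22b then ⟨mk24 t, h⟩ else 1

theorem mk22_spec {t C : ℕ} (h : (tblOK t && chkCode t C && Nat.beq (look t 23) 23
    && Nat.beq (look t 5) 5) = true) :
    cc22 (mk22 t) = permT t ∧ Spec22 (mk22 t) t ∧ tblOK t = true := by
  simp only [Bool.and_eq_true] at h
  obtain ⟨⟨⟨hok, hc⟩, h23⟩, h5⟩ := h
  have hm : mk24 t ∈ M22b := mk24_mem_M22b hok hc h23 h5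
  have e : cc22 (mk22 t) = permT t := by
    rw [mk22, dif_pos hm]
    exact mk24_coe hok hc
  exact ⟨e, spec22_of_permT hok e, hok⟩

/-- The base involution. -/
noncomputable def zz22 : ↥M22b := mk22 hzT

/-- The second generator. -/
noncomputable def bb22 : ↥M22b := mk22 hbT

/-- The element of order eleven and its image. -/
noncomputable def xx22 : ↥M22b := mk22 hxT

noncomputable def yy22 : ↥M22b := mk22 hyT

theorem zz22_cc : cc22 zz22 = permT hzT := (mk22_spec hz_ok).1

theorem zz22_spec : Spec22 zz22 hzT := (mk22_spec hz_ok).2.1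

theorem hz_tblOK : tblOK hzT = true := (mk22_spec hz_ok).2.2

theorem bb22_cc : cc22 bb22 = permT hbT := (mk22_spec hb_ok).1

theorem bb22_spec : Spec22 bb22 hbT := (mk22_spec hb_ok).2.1

theorem hb_tblOK : tblOK hbT = true := (mk22_spec hb_ok).2.2

theorem xx22_cc : cc22 xx22 = permT hxT := (mk22_spec hx_ok).1

theorem yy22_cc : cc22 yy22 = permT hyT := (mk22_spec hy_ok).1

theorem xx22_spec : Spec22 xx22 hxT := (mk22_spec hx_ok).2.1

theorem yy22_spec : Spec22 yy22 hyT := (mk22_spec hy_ok).2.1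

theorem rel_zz_bb22 : RelW relW22 zz22 bb22 :=
  (rel22_iff zz22 bb22 hzT hbT zz22_spec bb22_spec).mpr hb_rel

theorem slice22 (F : ℕ → Bool)
    (hP : ∀ j, j < 112 → ((List.range 40).all (fun a => (List.range 99).all (fun c =>
      F (Nat.add (Nat.mul 99 (Nat.add (Nat.mul 40 j) a)) c)))) = true) (k : ℕ)
    (hk : k < 443520) : F k = true := by
  have hj : k / 3960 < 112 := by omega
  have h : F (Nat.add (Nat.mul 99 (Nat.add (Nat.mul 40 (k / 3960)) (k % 3960 / 99)))
      (k % 3960 % 99)) = true :=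
    List.all_eq_true.mp (List.all_eq_true.mp (hP (k / 3960) hj) (k % 3960 / 99)
      (List.mem_range.mpr (by omega))) (k % 3960 % 99)
      (List.mem_range.mpr (Nat.mod_lt _ (by norm_num)))
  have e : Nat.add (Nat.mul 99 (Nat.add (Nat.mul 40 (k / 3960)) (k % 3960 / 99)))
      (k % 3960 % 99) = k := by
    show 99 * (40 * (k / 3960) + k % 3960 / 99) + k % 3960 % 99 = k
    omega
  rw [e] at h
  exact h

theorem h_chk (k : ℕ) (hk : k < 443520) : hChk k = true :=
  slice22 hChk h_okP k hk

theorem h_parts (k : ℕ) (hk : k < 443520) : hChkA k (hTab k) (hQ k) = true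
    ∧ hChkB k (hTab k) = true ∧ hChkC (hTab k) (hQ k) = true
    ∧ hChkD k (hTab k) (hQ k) = true ∧ hChkE (hTab k) (hQ k) = true := by
  have h := h_chk k hk
  unfold hChk at h
  rw [frc_eq, frc_eq] at h
  simp only [Bool.and_eq_true] at h
  exact ⟨h.1.1.1.1, h.1.1.1.2, h.1.1.2, h.1.2, h.2⟩

theorem h_one_spec (g : ↥M22b) (hg : Spec22 g (hTab hK0)) : g = 1 := by
  apply cc22_inj
  rw [map_one]
  apply perm_ext_pos
  intro p
  rw [hg, Equiv.Perm.one_apply]
  exact Nat.eq_of_beq_eq_true
    (List.all_eq_true.mp h_root (pos p) (List.mem_range.mpr (pos_lt p)))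

theorem h_ex : ∀ n k, k < 443520 → fld (hQ k) 20 255 = n →
    ∃ h : ↥M22b, h ∈ Subgroup.closure ({zz22, bb22} : Set ↥M22b) ∧ Spec22 h (hTab k) := by
  intro n
  induction n using Nat.strong_induction_on with
  | _ n ih =>
    intro k hk hd
    have h := (h_parts k hk).1
    unfold hChkA at h
    rw [frc_eq, frc_eq, frc_eq] at h
    simp only [Bool.and_eq_true, Bool.or_eq_true] at h
    rcases h with h | ⟨h1, h2, h3⟩
    · have hk0 : k = hK0 := Nat.eq_of_beq_eq_true h
      refine ⟨1, one_mem _, ?_⟩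
      intro p
      rw [map_one, Equiv.Perm.one_apply, hk0]
      exact (Nat.eq_of_beq_eq_true
        (List.all_eq_true.mp h_root (pos p) (List.mem_range.mpr (pos_lt p)))).symm
    · have c1 : fld (hQ k) 0 524287 < 443520 := Nat.blt_eq.mp h1
      have c2 : fld (hQ (fld (hQ k) 0 524287)) 20 255 < fld (hQ k) 20 255 := Nat.blt_eq.mp h2
      have c3 : fld (hQ (fld (hQ k) 0 524287)) 20 255 < n := by
        rw [← hd]
        exact c2
      obtain ⟨hp, hpm, hps⟩ := ih _ c3 (fld (hQ k) 0 524287) c1 rfl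
      cases hg : Nat.beq (fld (hQ k) 19 1) 0
      · rw [hg, cond_false] at h3
        refine ⟨hp * bb22, mul_mem hpm (Subgroup.subset_closure (by simp)), ?_⟩
        intro p
        rw [map_mul, Equiv.Perm.mul_apply, hps, bb22_spec]
        exact (Nat.eq_of_beq_eq_true
          (List.all_eq_true.mp h3 (pos p) (mem_r24 (pos_lt p)))).symm
      · rw [hg, cond_true] at h3
        refine ⟨hp * zz22, mul_mem hpm (Subgroup.subset_closure (by simp)), ?_⟩
        intro p
        rw [map_mul, Equiv.Perm.mul_apply, hps, zz22_spec]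
        exact (Nat.eq_of_beq_eq_true
          (List.all_eq_true.mp h3 (pos p) (mem_r24 (pos_lt p)))).symm

/-- The listed elements. -/
noncomputable def hE (k : ℕ) : ↥M22b := by
  classical
  exact if h : k < 443520 then Classical.choose (h_ex _ k h rfl) else 1

theorem hE_spec (k : ℕ) (hk : k < 443520) :
    hE k ∈ Subgroup.closure ({zz22, bb22} : Set ↥M22b) ∧ Spec22 (hE k) (hTab k) := by
  rw [hE, dif_pos hk]
  exact Classical.choose_spec (h_ex _ k hk rfl)

theorem hTab_lt (k : ℕ) : hTab k < 2 ^ 120 := by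
  have h : hTab k ≤ 0xffffffffffffffffffffffffffffff := by
    unfold hTab
    exact Nat.and_le_right
  calc hTab k ≤ 0xffffffffffffffffffffffffffffff := h
    _ < 2 ^ 120 := by norm_num

theorem tab22_eq_of_look {t t' : ℕ} (ht : t < 2 ^ 120) (ht' : t' < 2 ^ 120)
    (h : ∀ p < 24, look t p = look t' p) : t = t' := by
  apply Nat.eq_of_testBit_eq
  intro i
  by_cases hi : i < 120
  · have h1 := h (i / 5) (by omega)
    have e : ∀ s : ℕ, s.testBit i = (look s (i / 5)).testBit (i % 5) := by
      intro s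
      unfold look
      rw [Nat.testBit_and, Nat.testBit_shiftRight,
        show 5 * (i / 5) + i % 5 = i from Nat.div_add_mod i 5]
      have h5 : i % 5 < 5 := Nat.mod_lt _ (by norm_num)
      have h31 : (31 : ℕ).testBit (i % 5) = true := by
        generalize i % 5 = r at h5
        interval_cases r <;> rfl
      rw [h31, Bool.and_true]
    rw [e t, e t', h1]
  · have hi' : 120 ≤ i := by omega
    rw [Nat.testBit_lt_two_pow (lt_of_lt_of_le ht (Nat.pow_le_pow_right (by norm_num) hi')),
      Nat.testBit_lt_two_pow (lt_of_lt_of_le ht' (Nat.pow_le_pow_right (by norm_num) hi'))]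

theorem h_mono (a b : ℕ) (hab : a < b) (hb : b < 443520) : hTab a < hTab b := by
  apply lt_of_chain (fun i => hTab i) 443520 _ a b hab hb
  intro k hk
  have h := (h_parts k (by omega)).2.1
  unfold hChkB at h
  simp only [Bool.or_eq_true] at h
  rcases h with h | h
  · have := Nat.eq_of_beq_eq_true h
    omega
  · exact Nat.blt_eq.mp h

theorem hE_inj {i j : ℕ} (hi : i < 443520) (hj : j < 443520) (h : hE i = hE j) : i = j := by
  have hk : hTab i = hTab j := by
    apply tab22_eq_of_look (hTab_lt i) (hTab_lt j)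
    intro p hp
    have e1 := (hE_spec i hi).2 (unpos p)
    have e2 := (hE_spec j hj).2 (unpos p)
    rw [pos_unpos p hp] at e1 e2
    rw [← e1, ← e2, h]
  rcases Nat.lt_trichotomy i j with hlt | heq | hgt
  · exact absurd hk (Nat.ne_of_lt (h_mono i j hlt hj))
  · exact heq
  · exact absurd hk.symm (Nat.ne_of_lt (h_mono j i hgt hi))

theorem h_all (g : ↥M22b) : ∃ k, k < 443520 ∧ g = hE k := by
  have e : hE '' ↑(Finset.range 443520) = (Set.univ : Set ↥M22b) := by
    apply Set.eq_of_subset_of_ncard_le (Set.subset_univ _)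
    rw [Set.InjOn.ncard_image, Set.ncard_coe_finset, Finset.card_range, Set.ncard_univ,
      card_M22b]
    intro i hi j hj h
    exact hE_inj (Finset.mem_range.mp (Finset.mem_coe.mp hi))
      (Finset.mem_range.mp (Finset.mem_coe.mp hj)) h
  have hg : g ∈ hE '' ↑(Finset.range 443520) := by
    rw [e]
    exact Set.mem_univ g
  obtain ⟨k, hk, rfl⟩ := hg
  exact ⟨k, Finset.mem_range.mp (Finset.mem_coe.mp hk), rfl⟩

theorem gen22_top : Subgroup.closure ({zz22, bb22} : Set ↥M22b) = ⊤ := by
  rw [eq_top_iff]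
  intro g _
  obtain ⟨k, hk, rfl⟩ := h_all g
  exact (hE_spec k hk).1

theorem h0_spec : tblOK h0T = true ∧ chkCode h0T h0C = true
    ∧ permT h0T (unpos 23) = unpos 5 ∧ permT h0T (unpos 5) = unpos 23
    ∧ permT h0T * permT hzT = permT hzT * permT h0T := by
  have h := h0_ok
  simp only [Bool.and_eq_true] at h
  obtain ⟨⟨⟨⟨hok, hc⟩, h23⟩, h5⟩, hcm⟩ := h
  refine ⟨hok, hc, ?_, ?_, ?_⟩
  · apply pos_injective
    rw [pos_permT hok, pos_unpos 23 (by norm_num), pos_unpos 5 (by norm_num)]
    exact Nat.eq_of_beq_eq_true h23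
  · apply pos_injective
    rw [pos_permT hok, pos_unpos 23 (by norm_num), pos_unpos 5 (by norm_num)]
    exact Nat.eq_of_beq_eq_true h5
  · apply perm_ext_pos
    intro p
    rw [pos_permT_mul hok hz_tblOK, pos_permT_mul hz_tblOK hok]
    exact Nat.eq_of_beq_eq_true
      (List.all_eq_true.mp hcm (pos p) (List.mem_range.mpr (pos_lt p)))

/-- The element exchanging the two fixed points. -/
noncomputable def g22o : ↥M24 := mk24 h0T

theorem g22o_coe : ((g22o : ↥M24) : Equiv.Perm GolayPt) = permT h0T :=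
  mk24_coe h0_spec.1 h0_spec.2.1

theorem theta22_mem (x : ↥M24) (hx : x ∈ M22b) : g22o * x * g22o⁻¹ ∈ M22b := by
  rw [mem_M22b] at hx ⊢
  obtain ⟨-, -, g23, g5, -⟩ := h0_spec
  have i23 : (permT h0T)⁻¹ (unpos 23) = unpos 5 := by
    rw [Equiv.Perm.inv_eq_iff_eq]
    exact g5.symm
  have i5 : (permT h0T)⁻¹ (unpos 5) = unpos 23 := by
    rw [Equiv.Perm.inv_eq_iff_eq]
    exact g23.symm
  have e : ((g22o * x * g22o⁻¹ : ↥M24) : Equiv.Perm GolayPt)
      = permT h0T * (x : Equiv.Perm GolayPt) * (permT h0T)⁻¹ := by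
    rw [← g22o_coe]
    rfl
  rw [e]
  constructor
  · rw [Equiv.Perm.mul_apply, Equiv.Perm.mul_apply, i23, hx.2, g5]
  · rw [Equiv.Perm.mul_apply, Equiv.Perm.mul_apply, i5, hx.1, g23]

theorem theta22_mem' (x : ↥M24) (hx : x ∈ M22b) : g22o⁻¹ * x * g22o ∈ M22b := by
  rw [mem_M22b] at hx ⊢
  obtain ⟨-, -, g23, g5, -⟩ := h0_spec
  have e : ((g22o⁻¹ * x * g22o : ↥M24) : Equiv.Perm GolayPt)
      = (permT h0T)⁻¹ * (x : Equiv.Perm GolayPt) * permT h0T := by
    rw [← g22o_coe]
    rfl
  rw [e]
  constructor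
  · rw [Equiv.Perm.mul_apply, Equiv.Perm.mul_apply, g23, hx.2, Equiv.Perm.inv_eq_iff_eq]
    exact g23.symm
  · rw [Equiv.Perm.mul_apply, Equiv.Perm.mul_apply, g5, hx.1, Equiv.Perm.inv_eq_iff_eq]
    exact g5.symm

/-- The outer automorphism. -/
noncomputable def theta22 : MulAut ↥M22b where
  toFun x := ⟨g22o * (x : ↥M24) * g22o⁻¹, theta22_mem _ x.2⟩
  invFun x := ⟨g22o⁻¹ * (x : ↥M24) * g22o, theta22_mem' _ x.2⟩
  left_inv x := by
    apply Subtype.ext
    show g22o⁻¹ * (g22o * (x : ↥M24) * g22o⁻¹) * g22o = (x : ↥M24)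
    group
  right_inv x := by
    apply Subtype.ext
    show g22o * (g22o⁻¹ * (x : ↥M24) * g22o) * g22o⁻¹ = (x : ↥M24)
    group
  map_mul' x y := by
    apply Subtype.ext
    show g22o * ((x : ↥M24) * (y : ↥M24)) * g22o⁻¹
      = (g22o * (x : ↥M24) * g22o⁻¹) * (g22o * (y : ↥M24) * g22o⁻¹)
    group

theorem theta22_cc (x : ↥M22b) : cc22 (theta22 x)
    = permT h0T * cc22 x * (permT h0T)⁻¹ := by
  rw [← g22o_coe]
  rfl

theorem theta22_zz : theta22 zz22 = zz22 := by
  apply cc22_inj
  rw [theta22_cc, zz22_cc, h0_spec.2.2.2.2]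
  group

theorem theta22_xx : theta22 xx22 = yy22 := by
  apply cc22_inj
  rw [theta22_cc, xx22_cc, yy22_cc]
  have e : permT hyT * permT h0T = permT h0T * permT hxT := by
    apply perm_ext_pos
    intro p
    rw [pos_permT_mul (mk22_spec hy_ok).2.2 h0_spec.1,
      pos_permT_mul h0_spec.1 (mk22_spec hx_ok).2.2]
    exact Nat.eq_of_beq_eq_true
      (List.all_eq_true.mp hxy_ok (pos p) (List.mem_range.mpr (pos_lt p)))
  rw [← e]
  group

theorem zz22_sq : zz22 * zz22 = 1 ∧ zz22 ≠ 1 := by
  have h := hz_sq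
  simp only [Bool.and_eq_true] at h
  obtain ⟨h1, h2⟩ := h
  constructor
  · apply cc22_inj
    rw [map_one]
    apply perm_ext_pos
    intro p
    rw [map_mul, Equiv.Perm.mul_apply, zz22_spec, zz22_spec, Equiv.Perm.one_apply]
    exact Nat.eq_of_beq_eq_true
      (List.all_eq_true.mp h1 (pos p) (List.mem_range.mpr (pos_lt p)))
  · intro e
    have e1 := zz22_spec (unpos 0)
    rw [e, map_one, Equiv.Perm.one_apply, pos_unpos 0 (by norm_num)] at e1
    rw [← e1] at h2
    exact absurd h2 (by decide)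

theorem bb22_sq : bb22 * bb22 ≠ 1 := by
  intro e
  have e1 : pos (cc22 (bb22 * bb22) (unpos 0)) = look hbT (look hbT 0) := by
    rw [map_mul, Equiv.Perm.mul_apply, bb22_spec, bb22_spec, pos_unpos 0 (by norm_num)]
  rw [e, map_one, Equiv.Perm.one_apply, pos_unpos 0 (by norm_num)] at e1
  have h := hb_sq
  rw [← e1] at h
  exact absurd h (by decide)

theorem sq22_of_all (k : ℕ) (hk : k < 443520)
    (h : r24.all (fun p => Nat.beq (lookR (hTab k) (lookR (hTab k) p)) p) = true) :
    hE k * hE k = 1 := by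
  obtain ⟨-, hspk⟩ := hE_spec k hk
  apply cc22_inj
  rw [map_one]
  apply perm_ext_pos
  intro p
  rw [map_mul, Equiv.Perm.mul_apply, hspk, hspk, Equiv.Perm.one_apply]
  exact Nat.eq_of_beq_eq_true (List.all_eq_true.mp h (pos p) (mem_r24 (pos_lt p)))

theorem aut22 (α : MulAut ↥M22b) : (∃ g : ↥M22b, α = MulAut.conj g)
    ∨ (∃ g : ↥M22b, α = MulAut.conj g * theta22) := by
  obtain ⟨k, hk, ek⟩ := h_all (α zz22)
  obtain ⟨-, hspk⟩ := hE_spec k hk
  have hsq : hE k * hE k = 1 := by
    rw [← ek, ← map_mul, zz22_sq.1, map_one]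
  have hne : hE k ≠ 1 := by
    intro e
    rw [← ek] at e
    exact zz22_sq.2 (α.injective (by rw [e, map_one]))
  obtain ⟨v, hv⟩ : ∃ v : ↥M22b, v * α zz22 * v⁻¹ = zz22 := by
    have hD := (h_parts k hk).2.2.2.1
    unfold hChkD at hD
    simp only [Bool.and_eq_true, Bool.or_eq_true] at hD
    rcases hD with (⟨⟨-, hp⟩, hne2⟩ | hk0) | ⟨hw, hall⟩
    · exfalso
      have hp' : fld (hQ k) 58 31 < 24 := Nat.blt_eq.mp hp
      have e1 : pos (cc22 (hE k * hE k) (unpos (fld (hQ k) 58 31)))
          = lookR (hTab k) (lookR (hTab k) (fld (hQ k) 58 31)) := by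
        rw [map_mul, Equiv.Perm.mul_apply, hspk, hspk, pos_unpos _ hp']
        rfl
      rw [hsq, map_one, Equiv.Perm.one_apply, pos_unpos _ hp'] at e1
      rw [← e1, Nat.beq_refl] at hne2
      exact absurd hne2 (by decide)
    · exfalso
      apply hne
      have hk0' : k = hK0 := Nat.eq_of_beq_eq_true hk0
      apply h_one_spec
      rw [← hk0']
      exact hspk
    · rw [frc_eq] at hall
      have hwlt : fld (hQ k) 64 524287 < 443520 := Nat.blt_eq.mp hw
      obtain ⟨-, hspw⟩ := hE_spec _ hwlt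
      refine ⟨hE (fld (hQ k) 64 524287), ?_⟩
      have e : hE (fld (hQ k) 64 524287) * hE k = zz22 * hE (fld (hQ k) 64 524287) := by
        apply cc22_inj
        apply perm_ext_pos
        intro p
        rw [map_mul, map_mul, Equiv.Perm.mul_apply, Equiv.Perm.mul_apply, hspw, hspk,
          zz22_spec, hspw]
        exact Nat.eq_of_beq_eq_true (List.all_eq_true.mp hall (pos p) (mem_r24 (pos_lt p)))
      rw [ek, e]
      group
  have hβz : (MulAut.conj v * α) zz22 = zz22 := by
    rw [MulAut.mul_apply, MulAut.conj_apply]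
    exact hv
  obtain ⟨k2, hk2, ek2⟩ := h_all ((MulAut.conj v * α) bb22)
  obtain ⟨-, hsp2⟩ := hE_spec k2 hk2
  have hrel := relW_map (MulAut.conj v * α) relW22 zz22 bb22 rel_zz_bb22
  rw [hβz, ek2] at hrel
  have hrel' := (rel22_iff zz22 (hE k2) hzT (hTab k2) zz22_spec hsp2).mp hrel
  have hC := (h_parts k2 hk2).2.2.1
  unfold hChkC at hC
  simp only [Bool.and_eq_true, Bool.or_eq_true] at hC
  rcases hC with (⟨⟨hfl, hcw⟩, hrest⟩ | ⟨⟨hfl, hwp⟩, hne3⟩) | hsq2
  · rw [frc_eq] at hrest
    simp only [Bool.and_eq_true, Bool.or_eq_true] at hrest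
    obtain ⟨hcz, hty⟩ := hrest
    have hc : fld (hQ k2) 37 524287 < 443520 := Nat.blt_eq.mp hcw
    obtain ⟨-, hspc⟩ := hE_spec _ hc
    have hcz' : hE (fld (hQ k2) 37 524287) * zz22 = zz22 * hE (fld (hQ k2) 37 524287) := by
      apply cc22_inj
      apply perm_ext_pos
      intro p
      rw [map_mul, map_mul, Equiv.Perm.mul_apply, Equiv.Perm.mul_apply, hspc, zz22_spec,
        zz22_spec, hspc]
      exact Nat.eq_of_beq_eq_true (List.all_eq_true.mp hcz (pos p) (mem_r24 (pos_lt p)))
    rcases hty with ⟨-, h0⟩ | ⟨-, h1⟩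
    · left
      have hcb : hE k2 * hE (fld (hQ k2) 37 524287)
          = hE (fld (hQ k2) 37 524287) * bb22 := by
        apply cc22_inj
        apply perm_ext_pos
        intro p
        rw [map_mul, map_mul, Equiv.Perm.mul_apply, Equiv.Perm.mul_apply, hsp2, hspc, hspc,
          bb22_spec]
        exact Nat.eq_of_beq_eq_true (List.all_eq_true.mp h0 (pos p) (mem_r24 (pos_lt p)))
      have hβ : MulAut.conj v * α = MulAut.conj (hE (fld (hQ k2) 37 524287)) := by
        apply MulEquiv.toMonoidHom_injective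
        apply MonoidHom.eq_of_eqOn_dense gen22_top
        intro x hx
        rcases hx with rfl | rfl
        · show (MulAut.conj v * α) zz22 = MulAut.conj (hE (fld (hQ k2) 37 524287)) zz22
          rw [hβz, MulAut.conj_apply, hcz']
          group
        · show (MulAut.conj v * α) bb22 = MulAut.conj (hE (fld (hQ k2) 37 524287)) bb22
          rw [ek2, MulAut.conj_apply, ← hcb]
          group
      refine ⟨v⁻¹ * hE (fld (hQ k2) 37 524287), ?_⟩
      rw [map_mul, ← hβ, map_inv, inv_mul_cancel_left]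
    · right
      have hT : cc22 (hE k2) * cc22 (hE (fld (hQ k2) 37 524287)) * permT h0T
          = cc22 (hE (fld (hQ k2) 37 524287)) * permT h0T * permT hbT := by
        apply perm_ext_pos
        intro p
        rw [Equiv.Perm.mul_apply, Equiv.Perm.mul_apply, Equiv.Perm.mul_apply,
          Equiv.Perm.mul_apply, hsp2, hspc, pos_permT h0_spec.1, hspc, pos_permT h0_spec.1,
          pos_permT hb_tblOK]
        exact Nat.eq_of_beq_eq_true (List.all_eq_true.mp h1 (pos p) (mem_r24 (pos_lt p)))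
      have hcb : (MulAut.conj (hE (fld (hQ k2) 37 524287)) * theta22) bb22 = hE k2 := by
        apply cc22_inj
        rw [MulAut.mul_apply, MulAut.conj_apply, map_mul, map_mul, map_inv, theta22_cc,
          bb22_cc]
        calc cc22 (hE (fld (hQ k2) 37 524287)) * (permT h0T * permT hbT * (permT h0T)⁻¹)
              * (cc22 (hE (fld (hQ k2) 37 524287)))⁻¹
            = (cc22 (hE (fld (hQ k2) 37 524287)) * permT h0T * permT hbT) * (permT h0T)⁻¹
              * (cc22 (hE (fld (hQ k2) 37 524287)))⁻¹ := by group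
          _ = (cc22 (hE k2) * cc22 (hE (fld (hQ k2) 37 524287)) * permT h0T)
              * (permT h0T)⁻¹ * (cc22 (hE (fld (hQ k2) 37 524287)))⁻¹ := by rw [hT]
          _ = cc22 (hE k2) := by group
      have hβ : MulAut.conj v * α
          = MulAut.conj (hE (fld (hQ k2) 37 524287)) * theta22 := by
        apply MulEquiv.toMonoidHom_injective
        apply MonoidHom.eq_of_eqOn_dense gen22_top
        intro x hx
        rcases hx with rfl | rfl
        · show (MulAut.conj v * α) zz22
            = (MulAut.conj (hE (fld (hQ k2) 37 524287)) * theta22) zz22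
          rw [hβz, MulAut.mul_apply, theta22_zz, MulAut.conj_apply, hcz']
          group
        · show (MulAut.conj v * α) bb22
            = (MulAut.conj (hE (fld (hQ k2) 37 524287)) * theta22) bb22
          rw [ek2, hcb]
      refine ⟨v⁻¹ * hE (fld (hQ k2) 37 524287), ?_⟩
      rw [map_mul, mul_assoc, ← hβ, map_inv, inv_mul_cancel_left]
  · exfalso
    have hsel : isIdV (wordT (relW22.getD (fld (hQ k2) 29 7) []) hzT (hTab k2)) = true := by
      unfold relOK22 at hrel'
      rw [List.all_eq_true] at hrel'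
      by_cases hr : fld (hQ k2) 29 7 < relW22.length
      · rw [List.getD_eq_getElem _ _ hr]
        exact hrel' _ (List.getElem_mem hr)
      · rw [List.getD_eq_default _ _ (by omega)]
        rfl
    have h6 := List.all_eq_true.mp hsel _ (mem_r24 (Nat.blt_eq.mp hwp))
    rw [h6] at hne3
    exact absurd hne3 (by decide)
  · exfalso
    have e1 := sq22_of_all k2 hk2 hsq2
    rw [← ek2, ← map_mul] at e1
    apply bb22_sq
    apply (MulAut.conj v * α).injective
    rw [e1, map_one]

theorem theta22_not_inner (m : ↥M22b) : theta22 ≠ MulAut.conj m := by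
  intro e
  obtain ⟨k, hk, ek⟩ := h_all m
  obtain ⟨-, hspk⟩ := hE_spec k hk
  have e1 : yy22 * hE k = hE k * xx22 := by
    have h1 : theta22 xx22 = MulAut.conj m xx22 := by rw [e]
    rw [theta22_xx, MulAut.conj_apply, ek] at h1
    rw [h1]
    group
  have hE' := (h_parts k hk).2.2.2.2
  unfold hChkE at hE'
  simp only [Bool.and_eq_true] at hE'
  obtain ⟨hp, hne⟩ := hE'
  have hp' : fld (hQ k) 83 31 < 24 := Nat.blt_eq.mp hp
  have e2 : pos (cc22 (hE k * xx22) (unpos (fld (hQ k) 83 31)))
      = lookR (hTab k) (lookR hxT (fld (hQ k) 83 31)) := by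
    rw [map_mul, Equiv.Perm.mul_apply, hspk, xx22_spec, pos_unpos _ hp']
    rfl
  have e3 : pos (cc22 (yy22 * hE k) (unpos (fld (hQ k) 83 31)))
      = lookR hyT (lookR (hTab k) (fld (hQ k) 83 31)) := by
    rw [map_mul, Equiv.Perm.mul_apply, yy22_spec, hspk, pos_unpos _ hp']
    rfl
  rw [e1, e2] at e3
  rw [e3, Nat.beq_refl] at hne
  exact absurd hne (by decide)

theorem out_index_two22 {G : Type*} [Group G] (θ : MulAut G)
    (hθ : ∀ g : G, θ ≠ MulAut.conj g)
    (h : ∀ α : MulAut G, (∃ g : G, α = MulAut.conj g) ∨ (∃ g : G, α = MulAut.conj g * θ)) :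
    (Cfsg.Inn G).index = 2 := by
  rw [Subgroup.index_eq_two_iff_exists_notMem_and]
  refine ⟨θ, ?_, fun α => ?_⟩
  · rintro ⟨g, hg⟩
    exact hθ g hg.symm
  · rcases h (α * θ) with ⟨g, hg⟩ | ⟨g, hg⟩
    · exact Or.inl ⟨g, hg.symm⟩
    · exact Or.inr ⟨g, (mul_right_cancel hg).symm⟩

theorem inn_map22 {G G' : Type*} [Group G] [Group G'] (ι : G ≃* G') :
    (Cfsg.Inn G).map ((MulAut.congr ι : MulAut G ≃* MulAut G') : MulAut G →* MulAut G')
      = Cfsg.Inn G' := by
  ext α'
  constructor
  · rintro ⟨α, ⟨g, rfl⟩, rfl⟩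
    refine ⟨ι g, ?_⟩
    ext x
    simp [MulAut.congr]
  · rintro ⟨g', rfl⟩
    refine ⟨MulAut.conj (ι.symm g'), ⟨ι.symm g', rfl⟩, ?_⟩
    ext x
    simp [MulAut.congr]

theorem final2062 : Nat.card (Cfsg.Out ↥Cfsg.Spor.M22) = 2 := by
  show (Cfsg.Inn ↥Cfsg.Spor.M22).index = 2
  rw [← inn_map22 iotaM22, Subgroup.index_map_equiv]
  exact out_index_two22 theta22 theta22_not_inner aut22

end Cfsg.Agent.Helper1.Golay
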