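import Mathlib
import Cfsg.Agent.Helper1.Sx2061
import Cfsg.Agent.Helper1.Sx2060
import Cfsg.Agent.S0384

set_option autoImplicit false
set_option maxRecDepth 100000

namespace Cfsg.Agent.Helper1.Golay

open Cfsg

/-- The positions of the twelve points. -/
def phP : ℕ := 0x4a1b03498418041

def psP : ℕ := 0x1808001250016a01c0418402

def phN (i : ℕ) : ℕ := look phP i

def psN (p : ℕ) : ℕ := look psP p

def pS : Equiv.Perm (Fin 12) :=
  Equiv.swap (3 : Fin 12) 5 * Equiv.swap (3 : Fin 12) 4 * Equiv.swap (6 : Fin 12) 8 * Equiv.swap (6 : Fin 12) 7 * Equiv.swap (9 : Fin 12) 11 * Equiv.swap (9 : Fin 12) 10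

def pT : Equiv.Perm (Fin 12) :=
  Equiv.swap (3 : Fin 12) 9 * Equiv.swap (3 : Fin 12) 6 * Equiv.swap (4 : Fin 12) 10 * Equiv.swap (4 : Fin 12) 7 * Equiv.swap (5 : Fin 12) 11 * Equiv.swap (5 : Fin 12) 8

def pU : Equiv.Perm (Fin 12) :=
  Equiv.swap (4 : Fin 12) 9 * Equiv.swap (4 : Fin 12) 5 * Equiv.swap (4 : Fin 12) 6 * Equiv.swap (7 : Fin 12) 10 * Equiv.swap (7 : Fin 12) 11 * Equiv.swap (7 : Fin 12) 8

def pV : Equiv.Perm (Fin 12) :=
  Equiv.swap (4 : Fin 12) 11 * Equiv.swap (4 : Fin 12) 5 * Equiv.swap (4 : Fin 12) 7 * Equiv.swap (6 : Fin 12) 8 * Equiv.swap (6 : Fin 12) 9 * Equiv.swap (6 : Fin 12) 10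

def pW : Equiv.Perm (Fin 12) :=
  Equiv.swap (4 : Fin 12) 8 * Equiv.swap (4 : Fin 12) 5 * Equiv.swap (4 : Fin 12) 10 * Equiv.swap (6 : Fin 12) 7 * Equiv.swap (6 : Fin 12) 9 * Equiv.swap (6 : Fin 12) 11

def pX1 : Equiv.Perm (Fin 12) :=
  Equiv.swap (0 : Fin 12) 3 * Equiv.swap (6 : Fin 12) 7 * Equiv.swap (8 : Fin 12) 10 * Equiv.swap (9 : Fin 12) 11

def pX2 : Equiv.Perm (Fin 12) :=
  Equiv.swap (0 : Fin 12) 1 * Equiv.swap (6 : Fin 12) 9 * Equiv.swap (7 : Fin 12) 10 * Equiv.swap (8 : Fin 12) 11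

def pX3 : Equiv.Perm (Fin 12) :=
  Equiv.swap (1 : Fin 12) 2 * Equiv.swap (6 : Fin 12) 11 * Equiv.swap (7 : Fin 12) 9 * Equiv.swap (8 : Fin 12) 10

def qT0 : ℕ := 0x5de8e29a329d503b29a93c1ec20820

def qC0 : ℕ := 0xbf0c0b546294df0539b2a6f053d0836d4b81dfddac94fcff2e0c5f1fcb0b81546c001

def qT1 : ℕ := 0xb2eb42b4e99b870bc584521e690820

def qC1 : ℕ := 0xf74f0194cadbcee024820463f66e1a70b5d9c64ae35037baf356c5fe240b792171001

def qT2 : ℕ := 0x2ccea5b1c9b448d7d506a42f218820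

def qC2 : ℕ := 0x8105c581cbe630c502c65ce515314c9603078a626507b66d4a1b56f3bdb0b888f9001

def qT3 : ℕ := 0x8aa6fa22f2a96093ac8db31c618820

def qC3 : ℕ := 0xc0b5f66e07df6d0a1aa88fd4dd6a5f4bd81457bdc185973540da81fa462c6cac6d001

def qT4 : ℕ := 0x752cb3a4a455cd0acdac7ca2818820

def qC4 : ℕ := 0x5eed0d35998f7340171b84c7e5bf3fc9fcb3d59210e2b55ce9fc0940b7add46968001

def qT5 : ℕ := 0xbd6cb998a87b92ca1db054a2408860

def qC5 : ℕ := 0x7a45023592af7346e40dd5a265473014c4bc08a7cc7410801062f539d482703002001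

def qT6 : ℕ := 0x2ceb4b36295ba4c79e06522e418440

def qC6 : ℕ := 0xbdb107bfecc64f56398a78d75482aeda27ecc6465739958f381844fe2ea2ba1ff0001

def qT7 : ℕ := 0x751769a6287dccca9e50534a418022

def qC7 : ℕ := 0x7a4f47356d387340bb50007fc1ed7a88bef694d44e8d630d8ceee0010150d49f9a001

theorem q_ok0 : (tblOK qT0 && chkCode qT0 qC0
    && Nat.beq (pullBits qT0 340831 24) 340831 && Nat.beq (look qT0 0) 0) = true := by
  decide +kernel

theorem q_tab0 : ∀ i : Fin 12, look qT0 (phN i.val) = phN ((pS) i).val := by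
  decide +kernel

theorem q_ok1 : (tblOK qT1 && chkCode qT1 qC1
    && Nat.beq (pullBits qT1 340831 24) 340831 && Nat.beq (look qT1 0) 0) = true := by
  decide +kernel

theorem q_tab1 : ∀ i : Fin 12, look qT1 (phN i.val) = phN ((pT) i).val := by
  decide +kernel

theorem q_ok2 : (tblOK qT2 && chkCode qT2 qC2
    && Nat.beq (pullBits qT2 340831 24) 340831 && Nat.beq (look qT2 0) 0) = true := by
  decide +kernel

theorem q_tab2 : ∀ i : Fin 12, look qT2 (phN i.val) = phN ((pU) i).val := by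
  decide +kernel

theorem q_ok3 : (tblOK qT3 && chkCode qT3 qC3
    && Nat.beq (pullBits qT3 340831 24) 340831 && Nat.beq (look qT3 0) 0) = true := by
  decide +kernel

theorem q_tab3 : ∀ i : Fin 12, look qT3 (phN i.val) = phN ((pV) i).val := by
  decide +kernel

theorem q_ok4 : (tblOK qT4 && chkCode qT4 qC4
    && Nat.beq (pullBits qT4 340831 24) 340831 && Nat.beq (look qT4 0) 0) = true := by
  decide +kernel

theorem q_tab4 : ∀ i : Fin 12, look qT4 (phN i.val) = phN ((pW) i).val := by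
  decide +kernel

theorem q_ok5 : (tblOK qT5 && chkCode qT5 qC5
    && Nat.beq (pullBits qT5 340831 24) 340831 && Nat.beq (look qT5 0) 0) = true := by
  decide +kernel

theorem q_tab5 : ∀ i : Fin 12, look qT5 (phN i.val) = phN ((pX1) i).val := by
  decide +kernel

theorem q_ok6 : (tblOK qT6 && chkCode qT6 qC6
    && Nat.beq (pullBits qT6 340831 24) 340831 && Nat.beq (look qT6 0) 0) = true := by
  decide +kernel

theorem q_tab6 : ∀ i : Fin 12, look qT6 (phN i.val) = phN ((pX2) i).val := by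
  decide +kernel

theorem q_ok7 : (tblOK qT7 && chkCode qT7 qC7
    && Nat.beq (pullBits qT7 340831 24) 340831) = true := by
  decide +kernel

theorem q_tab7 : ∀ i : Fin 12, look qT7 (phN i.val) = phN ((pX3) i).val := by
  decide +kernel

theorem q_wz : ∀ i : Fin 12, look fzT (phN i.val) = phN (([pU, pU] : List (Equiv.Perm (Fin 12))).prod i).val := by
  decide +kernel

theorem q_wb : ∀ i : Fin 12, look fbT (phN i.val) = phN (([pS, pT, pX2, pX1, pX3, pX2, pT, pX1, pS, pS] : List (Equiv.Perm (Fin 12))).prod i).val := by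
  decide +kernel

theorem q_wz7 : ∀ i : Fin 12, look gzT (phN i.val) = phN (([pU, pU] : List (Equiv.Perm (Fin 12))).prod i).val := by
  decide +kernel

theorem q_wb7 : ∀ i : Fin 12, look ebT (phN i.val) = phN (([pS, pU, pX1, pS, pX2, pX1, pT, pX2, pU] : List (Equiv.Perm (Fin 12))).prod i).val := by
  decide +kernel

theorem ph_lt : ∀ i : Fin 12, phN i.val < 24 := by
  decide +kernel

theorem ps_ph : ∀ i : Fin 12, psN (phN i.val) = i.val := by
  decide +kernel

theorem ph_bit : ∀ i : Fin 12, Nat.testBit 340831 (phN i.val) = true := by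
  decide +kernel

theorem ph_ps : ∀ p : Fin 24, Nat.testBit 340831 p.val = true →
    phN (psN p.val) = p.val ∧ psN p.val < 12 := by
  decide +kernel

theorem ph_two : phN 2 = 0 := by
  decide +kernel

theorem q_fix : pS 2 = 2 ∧ pT 2 = 2 ∧ pU 2 = 2 ∧ pV 2 = 2 ∧ pW 2 = 2 ∧ pX1 2 = 2 ∧ pX2 2 = 2 := by
  decide +kernel

def wordZ : List (Equiv.Perm (Fin 12)) := [pU, pU]

def wordB : List (Equiv.Perm (Fin 12)) := [pS, pT, pX2, pX1, pX3, pX2, pT, pX1, pS, pS]

def wordZ7 : List (Equiv.Perm (Fin 12)) := [pU, pU]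

def wordB7 : List (Equiv.Perm (Fin 12)) := [pS, pU, pX1, pS, pX2, pX1, pT, pX2, pU]

end Cfsg.Agent.Helper1.Golay
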