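import Mathlib
import Cfsg.Agent.Helper1.Tbl

set_option autoImplicit false

namespace Cfsg.Agent.Helper1.Golay

open Cfsg
open scoped Pointwise

/-! ### Powers of permutations given by tables -/

/-- The `n`-fold lookup. -/
def lookN (t : ℕ) : ℕ → ℕ → ℕ
  | 0, j => j
  | n + 1, j => look t (lookN t n j)

theorem pos_permT_pow {t : ℕ} (h : tblOK t = true) (n : ℕ) (p : GolayPt) :
    pos ((permT t ^ n) p) = lookN t n (pos p) := by
  induction n with
  | zero => rfl
  | succ n ih =>
    rw [pow_succ', Equiv.Perm.mul_apply, pos_permT h, ih]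
    rfl

/-- The check that the `n`-th power of the table is the identity. -/
def isId (t n : ℕ) : Bool := (List.range 24).all (fun j => Nat.beq (lookN t n j) j)

theorem permT_pow_eq_one_iff {t : ℕ} (h : tblOK t = true) (n : ℕ) :
    permT t ^ n = 1 ↔ isId t n = true := by
  constructor
  · intro e
    apply List.all_eq_true.mpr
    intro j hj
    rw [List.mem_range] at hj
    have e1 := pos_permT_pow h n (unpos j)
    rw [e, Equiv.Perm.one_apply, pos_unpos j hj] at e1
    rw [← e1]
    exact Nat.beq_refl _
  · intro e
    apply perm_ext_pos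
    intro p
    rw [pos_permT_pow h, Equiv.Perm.one_apply]
    exact Nat.eq_of_beq_eq_true (List.all_eq_true.mp e (pos p) (List.mem_range.mpr (pos_lt p)))

/-- The `n`-fold lookup in the composition of two tables. -/
def lookN2 (t t' : ℕ) : ℕ → ℕ → ℕ
  | 0, j => j
  | n + 1, j => look t (look t' (lookN2 t t' n j))

theorem pos_permT_mul_pow {t t' : ℕ} (h : tblOK t = true) (h' : tblOK t' = true) (n : ℕ)
    (p : GolayPt) : pos (((permT t * permT t') ^ n) p) = lookN2 t t' n (pos p) := by
  induction n with
  | zero => rfl
  | succ n ih =>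
    rw [pow_succ', Equiv.Perm.mul_apply, pos_permT_mul h h', ih]
    rfl

/-- The check that the `n`-th power of the composition of two tables is the identity. -/
def isId2 (t t' n : ℕ) : Bool := (List.range 24).all (fun j => Nat.beq (lookN2 t t' n j) j)

theorem permT_mul_pow_eq_one_iff {t t' : ℕ} (h : tblOK t = true) (h' : tblOK t' = true) (n : ℕ) :
    (permT t * permT t') ^ n = 1 ↔ isId2 t t' n = true := by
  constructor
  · intro e
    apply List.all_eq_true.mpr
    intro j hj
    rw [List.mem_range] at hj
    have e1 := pos_permT_mul_pow h h' n (unpos j)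
    rw [e, Equiv.Perm.one_apply, pos_unpos j hj] at e1
    rw [← e1]
    exact Nat.beq_refl _
  · intro e
    apply perm_ext_pos
    intro p
    rw [pos_permT_mul_pow h h', Equiv.Perm.one_apply]
    exact Nat.eq_of_beq_eq_true (List.all_eq_true.mp e (pos p) (List.mem_range.mpr (pos_lt p)))

theorem permT_smul_of_pull' {t m : ℕ} (hok : tblOK t = true)
    (h : Nat.beq (pullBits t m 24) m = true) :
    permT t • support₂ (ofBits m) = support₂ (ofBits m) := by
  have e2 := permT_inv_smul hok m
  rw [Nat.eq_of_beq_eq_true h] at e2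
  exact (inv_smul_eq_iff.mp e2).symm

theorem permT_fix {t j : ℕ} (hok : tblOK t = true) (hj : j < 24)
    (h : Nat.beq (look t j) j = true) : permT t (unpos j) = unpos j := by
  apply pos_injective
  rw [pos_permT hok, pos_unpos j hj]
  exact Nat.eq_of_beq_eq_true h

theorem conj_pow_eq_one (t g : Equiv.Perm GolayPt) (n : ℕ) :
    (t⁻¹ * g * t) ^ n = 1 ↔ g ^ n = 1 := by
  have h := conj_pow (a := t⁻¹) (b := g) (i := n)
  rw [inv_inv] at h
  rw [h]
  constructor
  · intro e
    have e2 : g ^ n = t * (t⁻¹ * g ^ n * t) * t⁻¹ := by group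
    rw [e2, e]
    group
  · intro e
    rw [e]
    group

end Cfsg.Agent.Helper1.Golay
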